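import Cfsg.Agent.Lib.Linear.TWreath.Involution

/-!
# Characteristic two: nothing is moved

An involution with small centraliser and a moved conjugate of a transvection would give a central
involution fixing every factor, whose centraliser permutes the factors.
-/

set_option autoImplicit false
set_option linter.unusedSectionVars false

namespace Cfsg.Lib.Linear.TWreath

open Cfsg.Geo Cfsg.Lib.Linear.AschGen
open scoped Matrix MatrixGroups

variable {F : Type*} [Field F] {m t : ℕ} {G : Subgroup (GL (Idx m t) F)}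

theorem commute_fu_of_acts {c : GL (Idx m t) F} {i : Fin t} {a M : GL (Fin m) F} (ha : Acts c i i a)
    (h : Commute a M) : Commute c (fu i M) := by
  have h1 := fu_conj_of_acts ha M
  rw [h.eq, mul_inv_cancel_right] at h1
  exact mul_inv_eq_iff_eq_mul.1 h1

theorem comp_sq (hm : 3 ≤ m) {c : GL (Idx m t) F} (hc : c * c = 1) {i : Fin t} {a : GL (Fin m) F}
    (ha : Acts c i i a) : ∃ e : F, (a * a).val = e • 1 := by
  have h := ha.mul ha
  rw [hc] at h
  simpa using h.unique (by omega) (acts_one i)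

variable [Finite F] (C : Ctx G) (h2 : (2 : F) = 0)
include C h2

/-- An involution fixing every factor has its centraliser permuting the factors. -/
theorem cent_pure {c : GL (Idx m t) F} (hc : Pure c) (hc1 : c ≠ 1) (hcc : c * c = 1)
    {x : GL (Idx m t) F} (hx : x ∈ G) (hcx : Commute c x) : x ∈ mst m t F := by
  classical
  have hm := C.hm
  haveI : Nonempty (Idx m t) := ⟨fun _ => p0 hm⟩
  choose a ha using hc
  obtain ⟨i, hi⟩ : ∃ i, ∀ e : F, (a i).val ≠ e • 1 := by
    by_contra hall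
    push Not at hall
    obtain ⟨e, he⟩ := scalar_of_com (by omega) (Φ := c.val) fun l X => by
      obtain ⟨e, he⟩ := hall l
      have h1 : conjA (a l) X = X := by
        have hu := Units.mul_inv (a l)
        rw [he, smul_mul_assoc, one_mul] at hu
        rw [conjA_apply, he, smul_mul_assoc, one_mul, smul_mul_assoc, ← mul_smul_comm, hu, mul_one]
      have h3 := ha l X
      rw [h1, conjA_apply] at h3
      have h4 := congrArg (· * c.val) h3
      simp only [mul_assoc, Units.inv_mul, mul_one] at h4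
      exact h4.symm
    refine hc1 (Units.ext ?_)
    have h5 := congrArg Units.val hcc
    rw [Units.val_mul, he, smul_mul_smul_comm, one_mul, Units.val_one] at h5
    have h6 : e * e = 1 := smul_left_injective F one_ne_zero (h5.trans (one_smul F _).symm)
    rw [he, eq_one_of_sq h2 h6, one_smul, Units.val_one]
  obtain ⟨s, N, hs, hNN, haN⟩ := exists_norm hm h2 (comp_sq hm hcc (ha i))
  have hN : N ≠ 0 := fun h => hi s (by rw [haN, h, add_zero])
  obtain ⟨u, hu⟩ : ∃ u, N *ᵥ u ≠ 0 := by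
    by_contra h
    push Not at h
    exact hN (Matrix.toLin'.injective (LinearMap.ext fun w => by simpa using h w))
  set c0 := N *ᵥ u with hc0
  have hNc : N *ᵥ c0 = 0 := by rw [hc0, Matrix.mulVec_mulVec, hNN, Matrix.zero_mulVec]
  obtain ⟨ξ, -, hξ⟩ := Rat0.exists_dot_pair (x := (0 : Fin m → F)) (y := c0) (by simpa using hu)
  rw [dotProduct_comm] at hξ
  -- the components of elements of the centraliser commute with `N`
  have hcomp : ∀ {M1 M2 : GL (Fin m) F} {X1 X2 : Matrix (Fin m) (Fin m) F}, M1.val = 1 + X1 → M2.val = 1 + X2 →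
      IsTv hm (fu i M1) i → IsTv hm (fu i M2) i → ∀ g ∈ mst m t F, Commute c g →
      g * fu i M1 * g⁻¹ = fu i M2 →
      ∃ b : GL (Fin m) F, b.val * N = N * b.val ∧ b.val * X1 = X2 * b.val := by
    intro M1 M2 X1 X2 hM1 hM2 hT1 hT2 g hg hgc he
    obtain ⟨σ, hσ⟩ := hg
    obtain ⟨b, hb⟩ := hσ i
    obtain ⟨d1, hd1⟩ := hT1
    obtain ⟨d2, hd2⟩ := hT2
    have hσi : σ i = i := tv_acts (b := d1) (c := d2) hb (by rw [← hd1, ← hd2]; exact he)
    rw [hσi] at hb
    rw [fu_conj_of_acts hb] at he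
    have h12 : b * M1 * b⁻¹ = M2 := Units.ext (fa_injective (by omega) i (congrArg Units.val he))
    have h12' : b.val * M1.val = M2.val * b.val := congrArg Units.val (mul_inv_eq_iff_eq_mul.1 h12)
    rw [hM1, hM2, mul_add, add_mul, mul_one, one_mul] at h12'
    refine ⟨b, ?_, add_left_cancel h12'⟩
    have hg' : g * c * g⁻¹ = c := by rw [← hgc.eq, mul_inv_cancel_right]
    have h3 := (hb.mul (ha i)).mul hb.inv
    rw [hg'] at h3
    obtain ⟨e, he'⟩ := h3.unique (by omega) (ha i)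
    have h4 : b.val * (a i).val = e • ((a i).val * b.val) := by
      rw [← smul_mul_assoc, ← he', Units.val_mul, Units.val_mul, mul_assoc, mul_assoc, Units.inv_mul, mul_one]
    rw [haN, mul_smul_comm, smul_mul_assoc, smul_comm e s] at h4
    have h5 : b.val * (1 + N) = e • ((1 + N) * b.val) := by
      have := congrArg (s⁻¹ • ·) h4
      simpa only [smul_smul, inv_mul_cancel₀ hs, one_smul, one_mul, ← mul_assoc] using this
    have hee : e * e = 1 := by
      have hU : (1 + N) * (1 + N) = 1 := by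
        have : (1 + N) * (1 + N) = 1 + (2 : F) • N + N * N := by rw [two_smul]; noncomm_ring
        rw [this, h2, zero_smul, hNN, add_zero, add_zero]
      have h6 : b.val = (e * e) • b.val := by
        conv_lhs => rw [← mul_one b.val, ← hU, ← mul_assoc, h5, smul_mul_assoc, mul_assoc, h5, mul_smul_comm,
          ← mul_assoc, hU, one_mul, smul_smul]
      haveI : Nonempty (Fin m) := ⟨p0 hm⟩
      exact (smul_left_injective F b.isUnit.ne_zero ((one_smul F _).trans h6)).symm
    rw [eq_one_of_sq h2 hee, one_smul, mul_add, add_mul, mul_one, one_mul] at h5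
    exact add_left_cancel h5
  by_cases hdich : ∃ ζ : Fin m → F, ζ ᵥ* N ≠ 0 ∧ (ζ ᵥ* N) ⬝ᵥ u = 0
  · obtain ⟨ζ, hζ0, hζu⟩ := hdich
    set φ1 := ζ ᵥ* N with hφ1
    set φ2 := ξ ᵥ* N with hφ2
    have hφ2u : φ2 ⬝ᵥ u = 1 := by rw [hφ2, ← Matrix.dotProduct_mulVec, ← hc0, hξ]
    have hφ20 : φ2 ≠ 0 := fun h => by simp [h] at hφ2u
    have hφc : ∀ w : Fin m → F, (w ᵥ* N) ⬝ᵥ c0 = 0 := fun w => by
      rw [← Matrix.dotProduct_mulVec, hNc, dotProduct_zero]
    have hNX : ∀ w : Fin m → F, Commute N (Matrix.vecMulVec c0 (w ᵥ* N)) := fun w => by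
      show _ = _
      rw [Matrix.mul_vecMulVec, Matrix.vecMulVec_mul, Matrix.vecMul_vecMul, hNN, hNc, Matrix.vecMul_zero,
        Matrix.zero_vecMulVec, Matrix.vecMulVec_zero]
    obtain ⟨M1, hM1, hT1⟩ := exists_tv hm hu hζ0 (hφc ζ) i
    obtain ⟨M2, hM2, hT2⟩ := exists_tv hm hu hφ20 (hφc ξ) i
    refine two_classes C h2 hT1 hT2 (commute_fu_of_acts (ha i) (commute_norm haN hM1 (hNX ζ)))
      (commute_fu_of_acts (ha i) (commute_norm haN hM2 (hNX ξ))) (fun g hg hgc he => ?_) hx hcx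
    obtain ⟨b, hbN, hbX⟩ := hcomp hM1 hM2 hT1 hT2 g hg hgc he
    rw [Matrix.mul_vecMulVec, Matrix.vecMulVec_mul] at hbX
    have happ : ∀ v, (φ1 ⬝ᵥ v) • (b.val *ᵥ c0) = ((φ2 ᵥ* b.val) ⬝ᵥ v) • c0 := fun v => by
      have := congrArg (· *ᵥ v) hbX
      simpa [Matrix.vecMulVec_mulVec, hφ1] using this
    have h3 : ξ ⬝ᵥ (b.val *ᵥ c0) = 0 := by
      have h4 := happ u
      rw [hφ1, hζu, zero_smul] at h4
      have h5 := (smul_eq_zero.1 h4.symm).resolve_right hu
      rwa [← Matrix.dotProduct_mulVec, hφ2, ← Matrix.dotProduct_mulVec, Matrix.mulVec_mulVec, ← hbN,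
        ← Matrix.mulVec_mulVec, ← hc0] at h5
    obtain ⟨v, hv⟩ : ∃ v, φ1 ⬝ᵥ v ≠ 0 := by
      by_contra h
      push Not at h
      exact hζ0 (funext fun p => by simpa using h (Pi.single p 1))
    have h6 := congrArg (ξ ⬝ᵥ ·) (happ v)
    simp only [dotProduct_smul, h3, hξ, smul_eq_mul, mul_zero, mul_one] at h6
    have h7 := happ v
    rw [← h6, zero_smul, smul_eq_zero] at h7
    have h8 := congrArg ((b⁻¹).val *ᵥ ·) (h7.resolve_left hv)
    simp only [Matrix.mulVec_mulVec, Units.inv_mul, Matrix.one_mulVec, Matrix.mulVec_zero] at h8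
    exact hu h8
  · push Not at hdich
    have hline : ∀ ζ : Fin m → F, ζ ᵥ* N = (ζ ⬝ᵥ c0) • (ξ ᵥ* N) := fun ζ => by
      by_contra hne
      have h3 : ((ζ - (ζ ⬝ᵥ c0) • ξ) ᵥ* N) ⬝ᵥ u = 0 := by
        rw [← Matrix.dotProduct_mulVec, ← hc0, sub_dotProduct, smul_dotProduct, hξ, smul_eq_mul, mul_one, sub_self]
      refine hdich (ζ - (ζ ⬝ᵥ c0) • ξ) ?_ h3
      rw [Matrix.sub_vecMul, Matrix.smul_vecMul]
      exact sub_ne_zero.2 hne
    set μ := ξ ᵥ* N with hμ
    have hNeq : N = Matrix.vecMulVec c0 μ := by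
      ext p q
      have := congrFun (hline (Pi.single p 1)) q
      simpa [Matrix.vecMulVec_apply] using this
    have hμc : μ ⬝ᵥ c0 = 0 := by rw [hμ, ← Matrix.dotProduct_mulVec, hNc, dotProduct_zero]
    have hμ0 : μ ≠ 0 := fun h => hN (by rw [hNeq, h, Matrix.vecMulVec_zero])
    obtain ⟨φ, hφc, hφ0, hφμ⟩ := Rat0.exists_perp_notMem (by simpa using hm) c0 μ
    obtain ⟨M1, hM1, hT1⟩ := exists_tv hm hu hμ0 hμc i
    obtain ⟨M2, hM2, hT2⟩ := exists_tv hm hu hφ0 hφc i
    refine two_classes C h2 hT1 hT2 (commute_fu_of_acts (ha i) (commute_norm haN hM1 ?_))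
      (commute_fu_of_acts (ha i) (commute_norm haN hM2 ?_)) (fun g hg hgc he => ?_) hx hcx
    · rw [← hNeq]
    · show _ = _
      rw [hNeq, vmv', vmv', hμc, hφc, zero_smul, zero_smul]
    · obtain ⟨b, hbN, hbX⟩ := hcomp hM1 hM2 hT1 hT2 g hg hgc he
      rw [← hNeq, hbN] at hbX
      have h3 : N = Matrix.vecMulVec c0 φ := by
        have := congrArg (· * (b⁻¹).val) hbX
        simpa only [mul_assoc, Units.mul_inv, mul_one] using this
      refine hφμ 1 ?_
      rw [one_smul, hμ]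
      conv_rhs => rw [h3, Matrix.vecMul_vecMulVec, hξ, one_smul]

/-- An involution commuting with an element supported on it keeps the support. -/
theorem support {y c : GL (Idx m t) F} (hyc : Commute c y) {σ : Equiv.Perm (Fin t)}
    (hσ : ∀ i, ∃ a, Acts c i (σ i) a) {i : Fin t} {T T' : GL (Fin m) F} (hy : Acts y i i T)
    (hy' : Acts y (σ i) (σ i) T') :
    ∃ (a : GL (Fin m) F) (e : F), Acts c i (σ i) a ∧ (a * T * a⁻¹).val = e • T'.val := by
  have hm := C.hm
  obtain ⟨a, ha⟩ := hσ i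
  have h := (ha.mul hy).mul ha.inv
  rw [hyc.eq, mul_inv_cancel_right] at h
  obtain ⟨e, he⟩ := h.unique (by omega) hy'
  exact ⟨a, e, ha, he⟩

/-- The auxiliary involution for at least three factors. -/
theorem exists_y_three (ht : 3 ≤ t) :
    ∃ y, y * y = 1 ∧ Pure y ∧ y ∈ G ∧ ¬ IsD C.hm G y ∧
      (∀ x ∈ G, Commute y x → x ∈ mst m t F) ∧
      (∀ c ∈ mst m t F, Commute c y → c * c = 1 → (∃ z, z * y * z⁻¹ = y * c) → ∃ i a, Acts c i i a) := by
  classical
  have hm := C.hm
  set i1 : Fin t := ⟨0, by omega⟩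
  set i2 : Fin t := ⟨1, by omega⟩
  set i3 : Fin t := ⟨2, by omega⟩
  have h12 : i1 ≠ i2 := by simp [i1, i2]
  have h13 : i1 ≠ i3 := by simp [i1, i3]
  have h23 : i2 ≠ i3 := by simp [i2, i3]
  set T := tv0 (F := F) hm with hT
  have hTs : ∀ e : F, T.val ≠ e • 1 := fun e => by simpa using tv0_ne_scalar hm 1 e
  have hTT : T * T = 1 := by simpa using tv_sq hm h2 1
  set y := fu i1 T * fu i2 T * fu i3 T with hy
  have hin : ∀ i, i = i1 ∨ i = i2 ∨ i = i3 → Acts y i i T := by
    rintro i (rfl | rfl | rfl)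
    · simpa [hy] using ((acts_fu i1 T).mul (acts_fu_ne h12 T)).mul (acts_fu_ne h13 T)
    · simpa [hy] using ((acts_fu_ne h12.symm T).mul (acts_fu i2 T)).mul (acts_fu_ne h23 T)
    · simpa [hy] using ((acts_fu_ne h13.symm T).mul (acts_fu_ne h23.symm T)).mul (acts_fu i3 T)
  have hout : ∀ i, i ≠ i1 → i ≠ i2 → i ≠ i3 → Acts y i i 1 := fun i a b c => by
    simpa [hy] using ((acts_fu_ne a T).mul (acts_fu_ne b T)).mul (acts_fu_ne c T)
  have hpure : Pure y := ((pure_fu i1 T).mul (pure_fu i2 T)).mul (pure_fu i3 T)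
  have hyy : y * y = 1 := by
    rw [hy, ((commute_fu h13.symm T T).mul_right (commute_fu h23.symm T T)).mul_mul_mul_comm,
      (commute_fu h12.symm T T).mul_mul_mul_comm, ← map_mul, ← map_mul, ← map_mul, hTT, map_one, map_one, map_one,
      one_mul, one_mul]
  have hyG : y ∈ G := by
    have hd := det_tv0 (F := F) hm
    exact G.mul_mem (G.mul_mem (C.hov.sl _ _ hd) (C.hov.sl _ _ hd)) (C.hov.sl _ _ hd)
  refine ⟨y, hyy, hpure, hyG, fun hD => ?_, fun x hx hyx => ?_, fun c hc hcy hcc _ => ?_⟩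
  · obtain ⟨k, hk⟩ := C.isTv_of_mem hD hpure.mem_mst
    by_cases h : i1 = k
    · obtain ⟨e, he⟩ := hk.acts_ne (i := i2) (h ▸ h12.symm) (hin i2 (Or.inr (Or.inl rfl)))
      exact hTs e he
    · obtain ⟨e, he⟩ := hk.acts_ne h (hin i1 (Or.inl rfl))
      exact hTs e he
  · obtain ⟨r, hr0, hr1⟩ := exists_third hm (p0 hm) (p1 hm)
    have h1 : IsTv hm (fu i1 T) i1 := ⟨1, by simp [hT]⟩
    have h2' : IsTv hm (fu i1 (trGL (F := F) hr0.symm 1)) i1 :=
      isTv_mk hm (c := Pi.single (p0 hm) 1) (φ := Pi.single r 1)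
        (by rw [trGL_val, one_smul, sg_eq_vecMulVec]) (by simp) (by simp) (by simp [hr0]) i1
    refine two_classes C h2 h1 h2' (commute_fu_of_acts (hin i1 (Or.inl rfl)) (Commute.refl T))
      (commute_fu_of_acts (hin i1 (Or.inl rfl)) (commute_val ?_)) (fun g hg hgy he => ?_) hx hyx
    · rw [hT, tv0_val, trGL_val, one_smul]
      exact commute_one_add (by show _ = _; rw [sg_mul_ne _ _ (h01 hm).symm, sg_mul_ne _ _ hr0])
    · obtain ⟨σ, hσ⟩ := hg
      obtain ⟨b, hb⟩ := hσ i1
      obtain ⟨d, hd⟩ := h2'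
      have hσi : σ i1 = i1 := tv_acts (b := 1) hb (by rw [← hd]; simpa [hT] using he)
      obtain ⟨a, e, ha, he'⟩ := support C h2 hgy.symm hσ (hin i1 (Or.inl rfl)) (hσi.symm ▸ hin i1 (Or.inl rfl))
      rw [hσi] at ha
      rw [fu_conj_of_acts ha] at he
      rw [fa_injective (by omega) i1 (congrArg Units.val he)] at he'
      have h4 := congrFun (congrFun he' (p0 hm)) r
      simp [hT, tv0_val, trGL_val, hr0.symm, hr1.symm] at h4
  · obtain ⟨σ, hσ⟩ := hc
    have hinv : ∀ i, σ (σ i) = i := fun i => by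
      obtain ⟨a, ha⟩ := hσ i
      obtain ⟨b, hb⟩ := hσ (σ i)
      have := hb.mul ha
      rw [hcc] at this
      exact this.target_unique (by omega) (acts_one i)
    have hsupp : ∀ i, i = i1 ∨ i = i2 ∨ i = i3 → σ i = i1 ∨ σ i = i2 ∨ σ i = i3 := fun i hi => by
      by_contra hne
      push Not at hne
      obtain ⟨a, e, -, he⟩ := support C h2 hcy hσ (hin i hi) (hout (σ i) hne.1 hne.2.1 hne.2.2)
      exact tv0_ne_scalar hm a e (by simpa [hT] using he)
    obtain ⟨i, hi⟩ : ∃ i, σ i = i := by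
      have hne : ∀ p q, p ≠ q → σ p ≠ σ q := fun p q h => σ.injective.ne h
      rcases hsupp i1 (Or.inl rfl) with h | h | h
      · exact ⟨i1, h⟩
      · refine ⟨i3, ?_⟩
        rcases hsupp i3 (Or.inr (Or.inr rfl)) with h' | h' | h'
        · have := hinv i1
          rw [h] at this
          exact absurd (this.trans h'.symm) (hne _ _ h23)
        · exact absurd (h.trans h'.symm) (hne _ _ h13)
        · exact h'
      · refine ⟨i2, ?_⟩
        rcases hsupp i2 (Or.inr (Or.inl rfl)) with h' | h' | h'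
        · have := hinv i1
          rw [h] at this
          exact absurd (this.trans h'.symm) (hne _ _ h23.symm)
        · exact h'
        · exact absurd (h.trans h'.symm) (hne _ _ h12)
    obtain ⟨a, ha⟩ := hσ i
    rw [hi] at ha
    exact ⟨i, a, ha⟩

/-- The auxiliary involution for two factors of dimension three. -/
theorem exists_y_small (hm3 : m = 3) (ht2 : t = 2) :
    ∃ y, y * y = 1 ∧ Pure y ∧ y ∈ G ∧ ¬ IsD C.hm G y ∧
      (∀ x ∈ G, Commute y x → x ∈ mst m t F) ∧
      (∀ c ∈ mst m t F, Commute c y → c * c = 1 → (∃ z, z * y * z⁻¹ = y * c) → ∃ i a, Acts c i i a) := by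
  classical
  subst hm3 ht2
  have hm := C.hm
  set T := tv0 (F := F) hm with hT
  have hTs : ∀ e : F, T.val ≠ e • 1 := fun e => by simpa using tv0_ne_scalar hm 1 e
  have hTT : T * T = 1 := by simpa using tv_sq hm h2 1
  have h01' : (0 : Fin 2) ≠ 1 := by decide
  set y := fu (0 : Fin 2) T * fu (1 : Fin 2) T with hy
  have hy0 : Acts y 0 0 T := by simpa [hy] using (acts_fu (0 : Fin 2) T).mul (acts_fu_ne h01' T)
  have hy1 : Acts y 1 1 T := by simpa [hy] using (acts_fu_ne h01'.symm T).mul (acts_fu (1 : Fin 2) T)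
  have hpure : Pure y := (pure_fu _ T).mul (pure_fu _ T)
  have hyy : y * y = 1 := by
    rw [hy, (commute_fu h01'.symm T T).mul_mul_mul_comm, ← map_mul, ← map_mul, hTT, map_one, map_one, one_mul]
  have hd := det_tv0 (F := F) hm
  refine ⟨y, hyy, hpure, G.mul_mem (C.hov.sl _ _ hd) (C.hov.sl _ _ hd), fun hD => ?_, fun x hx hyx => ?_,
    fun c hc hcy hcc ⟨z, hz⟩ => ?_⟩
  · obtain ⟨k, hk⟩ := C.isTv_of_mem hD hpure.mem_mst
    by_cases h : (0 : Fin 2) = k
    · obtain ⟨e, he⟩ := hk.acts_ne (i := 1) (h ▸ h01'.symm) hy1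
      exact hTs e he
    · obtain ⟨e, he⟩ := hk.acts_ne h hy0
      exact hTs e he
  · refine cent_two C h2 h01' 1 1 hx ?_
    simp only [inv_one, one_mul, mul_one]
    exact hyx.symm
  · obtain ⟨σ, hσ⟩ := hc
    by_cases hσ0 : σ 0 = 0
    · obtain ⟨a, ha⟩ := hσ 0
      rw [hσ0] at ha
      exact ⟨0, a, ha⟩
    exfalso
    have hσ01 : σ 0 = 1 := (show ∀ p : Fin 2, p ≠ 0 → p = 1 by decide) _ hσ0
    obtain ⟨a, ha⟩ := hσ 0
    rw [hσ01] at ha
    have hyc : y * c * (y * c) = 1 := by rw [hcy.mul_mul_mul_comm, hyy, hcc, one_mul]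
    have hle := sw_rank_le h2 hyc (hy1.mul ha)
    rw [← hz, rank_conj_sub_one] at hle
    have hsq : (fa (0 : Fin 2) T.val * (fu (1 : Fin 2) T).val - 1) * (fa (0 : Fin 2) T.val * (fu (1 : Fin 2) T).val - 1) = 0 := by
      have e : ∀ M : Matrix (Idx 3 2) (Idx 3 2) F, (M - 1) * (M - 1) = M * M - (2 : F) • M + 1 := fun M => by
        simp only [sub_mul, mul_sub, one_mul, mul_one, two_smul]; abel
      rw [e, ← fu_val, ← Units.val_mul, ← hy, ← Units.val_mul, hyy, Units.val_one, h2, zero_smul, sub_zero,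
        ← two_smul F (1 : Matrix (Idx 3 2) (Idx 3 2) F), h2, zero_smul]
    have hlt := two_components hm (i := (0 : Fin 2)) (A := T.val) (β := fu (1 : Fin 2) T) (com_fa h01' _) hTs
      (fun e he => hTs e (fa_injective (by omega) (1 : Fin 2) (by rw [map_smul, map_one]; exact he))) hsq
    rw [← fu_val, ← Units.val_mul, ← hy] at hlt
    exact absurd hlt (not_lt.2 hle)

/-- The auxiliary involution for two factors of dimension at least four. -/
theorem exists_y_two (hm4 : 4 ≤ m) (ht2 : t = 2) :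
    ∃ y, y * y = 1 ∧ Pure y ∧ y ∈ G ∧ ¬ IsD C.hm G y ∧
      (∀ x ∈ G, Commute y x → x ∈ mst m t F) ∧
      (∀ c ∈ mst m t F, Commute c y → c * c = 1 → (∃ z, z * y * z⁻¹ = y * c) → ∃ i a, Acts c i i a) := by
  classical
  subst ht2
  have hm := C.hm
  have h01' : (0 : Fin 2) ≠ 1 := by decide
  set z0 := p0 hm with hz0
  set z1 := p1 hm with hz1
  set z2 : Fin m := ⟨2, by omega⟩ with hz2
  set z3 : Fin m := ⟨3, by omega⟩ with hz3
  have n01 : z0 ≠ z1 := h01 hm
  have n02 : z0 ≠ z2 := by simp [hz0, hz2, p0]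
  have n03 : z0 ≠ z3 := by simp [hz0, hz3, p0]
  have n12 : z1 ≠ z2 := by simp [hz1, hz2, p1]
  have n13 : z1 ≠ z3 := by simp [hz1, hz3, p1]
  have n23 : z2 ≠ z3 := by simp [hz2, hz3]
  set T := tv0 (F := F) hm with hT
  have hTs : ∀ e : F, T.val ≠ e • 1 := fun e => by simpa using tv0_ne_scalar hm 1 e
  have hTT : T * T = 1 := by simpa using tv_sq hm h2 1
  set E := trGL (F := F) n02 1 with hE
  set L := E * trGL (F := F) n13 1 with hL
  have hLv : L.val = 1 + (sg z0 z2 + sg z1 z3) := by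
    rw [hL, hE, Units.val_mul, trGL_val, trGL_val, one_smul, one_smul]
    simp only [mul_add, add_mul, one_mul, mul_one, sg_mul_ne _ _ n12.symm, add_zero]
    abel
  have hLs : ∀ e : F, L.val ≠ e • 1 := fun e h => by
    have := congrFun (congrFun h z0) z2
    simp [hLv, n02, n01, n01.symm, n02.symm] at this
  have hLL : L * L = 1 := by
    refine Units.ext ?_
    rw [Units.val_mul, hLv, Units.val_one]
    simp only [mul_add, add_mul, one_mul, mul_one, sg_mul_ne _ _ n02.symm, sg_mul_ne _ _ n12.symm,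
      sg_mul_ne _ _ n03.symm, sg_mul_ne _ _ n13.symm, add_zero]
    rw [add_assoc, ← two_smul F (sg z0 z2 + sg z1 z3 : Matrix (Fin m) (Fin m) F), h2, zero_smul, add_zero]
  set y := fu (0 : Fin 2) T * fu (1 : Fin 2) L with hy
  have hy0 : Acts y 0 0 T := by simpa [hy] using (acts_fu (0 : Fin 2) T).mul (acts_fu_ne h01' L)
  have hy1 : Acts y 1 1 L := by simpa [hy] using (acts_fu_ne h01'.symm T).mul (acts_fu (1 : Fin 2) L)
  have hpure : Pure y := (pure_fu _ T).mul (pure_fu _ L)
  have hyy : y * y = 1 := by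
    rw [hy, (commute_fu h01'.symm L T).mul_mul_mul_comm, ← map_mul, ← map_mul, hTT, hLL, map_one, map_one, one_mul]
  have hyG : y ∈ G := G.mul_mem (C.hov.sl _ _ (det_tv0 hm))
    (C.hov.sl _ _ (by rw [hL, hE, Units.val_mul, Matrix.det_mul, det_trGL, det_trGL, one_mul]))
  refine ⟨y, hyy, hpure, hyG, fun hD => ?_, fun x hx hyx => ?_, fun c hc hcy hcc _ => ?_⟩
  · obtain ⟨k, hk⟩ := C.isTv_of_mem hD hpure.mem_mst
    by_cases h : (0 : Fin 2) = k
    · obtain ⟨e, he⟩ := hk.acts_ne (i := 1) (h ▸ h01'.symm) hy1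
      exact hLs e he
    · obtain ⟨e, he⟩ := hk.acts_ne h hy0
      exact hTs e he
  · have h1 : IsTv hm (fu (0 : Fin 2) T) 0 := ⟨1, by simp [hT]⟩
    have h2' : IsTv hm (fu (1 : Fin 2) E) 1 := isTv_mk hm (c := Pi.single z0 1) (φ := Pi.single z2 1)
      (by rw [hE, trGL_val, one_smul, sg_eq_vecMulVec]) (by simp) (by simp) (by simp [n02.symm]) 1
    refine two_classes C h2 h1 h2' (commute_fu_of_acts hy0 (Commute.refl T))
      (commute_fu_of_acts hy1 (commute_val ?_)) (fun g hg hgy he => ?_) hx hyx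
    · rw [hLv, hE, trGL_val, one_smul]
      refine commute_one_add ?_
      show _ = _
      simp only [mul_add, add_mul, sg_mul_ne _ _ n02.symm, sg_mul_ne _ _ n03.symm, sg_mul_ne _ _ n12.symm]
    · obtain ⟨σ, hσ⟩ := hg
      obtain ⟨b, hb⟩ := hσ 0
      obtain ⟨d, hd⟩ := h2'
      have hσ0 : σ 0 = 1 := tv_acts (b := 1) hb (by rw [← hd]; simpa [hT] using he)
      obtain ⟨a, e, ha, he'⟩ := support C h2 hgy.symm hσ hy0 (hσ0.symm ▸ hy1)
      rw [hσ0] at ha
      rw [fu_conj_of_acts ha] at he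
      rw [fa_injective (by omega) (1 : Fin 2) (congrArg Units.val he), hE, trGL_val, one_smul, hLv] at he'
      have h4 := congrFun (congrFun he' z1) z3
      have h5 := congrFun (congrFun he' z0) z0
      simp [n01, n01.symm, n02, n02.symm, n13, n03] at h4 h5
      exact one_ne_zero (h5.trans h4.symm)
  · obtain ⟨σ, hσ⟩ := hc
    by_cases hσ0 : σ 0 = 0
    · obtain ⟨a, ha⟩ := hσ 0
      rw [hσ0] at ha
      exact ⟨0, a, ha⟩
    exfalso
    have hσ01 : σ 0 = 1 := (show ∀ p : Fin 2, p ≠ 0 → p = 1 by decide) _ hσ0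
    obtain ⟨a, e, -, he⟩ := support C h2 hcy hσ hy0 (hσ01.symm ▸ hy1)
    have he1 := eq_one_of_smul_sq hm h2 he (tv_sq hm h2 a) hLL
    rw [he1, one_smul, tvVal, hLv, conjA_apply, sg_eq_vecMulVec, Matrix.mul_vecMulVec, Matrix.vecMulVec_mul] at he
    have h6 := add_left_cancel he
    set U := a.val *ᵥ Pi.single (p0 hm) 1
    set V := Pi.single (p1 hm) 1 ᵥ* (a⁻¹).val
    have q1 := congrFun (congrFun h6 z0) z2
    have q2 := congrFun (congrFun h6 z1) z3
    have q3 := congrFun (congrFun h6 z0) z3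
    simp [Matrix.vecMulVec_apply, n01, n01.symm, n23, n23.symm] at q1 q2 q3
    rcases q3 with q3 | q3
    · rw [q3, zero_mul] at q1; exact zero_ne_one q1
    · rw [q3, mul_zero] at q2; exact zero_ne_one q2

/-- In characteristic two nothing is moved. -/
theorem even_false {b : GL (Idx m t) F} (hb : IsD C.hm G b) (hbm : b ∉ mst m t F) : False := by
  classical
  have hm := C.hm
  have ht := C.ht
  obtain ⟨y, hyy, hpure, hyG, hyD, hcent, hfix⟩ :
      ∃ y, y * y = 1 ∧ Pure y ∧ y ∈ G ∧ ¬ IsD C.hm G y ∧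
        (∀ x ∈ G, Commute y x → x ∈ mst m t F) ∧
        (∀ c ∈ mst m t F, Commute c y → c * c = 1 → (∃ z, z * y * z⁻¹ = y * c) → ∃ i a, Acts c i i a) := by
    rcases Nat.lt_or_ge t 3 with h | h
    · rcases Nat.lt_or_ge m 4 with h' | h'
      · exact exists_y_small C h2 (by omega) (by omega)
      · exact exists_y_two C h2 h' (by omega)
    · exact exists_y_three C h2 h
  have hb2 := hb.sq h2
  rcases Nat.even_or_odd (orderOf (y * b)) with he | ho
  · obtain ⟨c, w, hc, hw, hc1, hcc, hcy, hcb, hrefl⟩ := Dihedral.reflection hyy hb2 he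
    have hcl : Subgroup.closure ({y, b} : Set (GL (Idx m t) F)) ≤ G :=
      (Subgroup.closure_le _).2 (Set.insert_subset hyG (Set.singleton_subset_iff.2 (hb.mem C.hov)))
    have hcm : c ∈ mst m t F := hcent c (hcl hc) hcy.symm
    have hpc : Pure c := by
      have key : Pure (y * c) → Pure c := fun h => by
        have := hpure.mul h
        rwa [← mul_assoc, hyy, one_mul] at this
      rcases hrefl with hz | hz
      · obtain ⟨i, a, ha⟩ := hfix c hcm hcy hcc ⟨w, hz.symm⟩
        obtain ⟨T, hT⟩ := hpure i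
        have hy'' : y * c * (y * c) = 1 := by rw [hcy.mul_mul_mul_comm, hyy, hcc, one_mul]
        obtain ⟨M, hM, hTM⟩ := exists_tv_comm hm h2 (comp_sq hm hy'' (hT.mul ha)) i
        have hcom : Commute (y * c) (fu i M) := commute_fu_of_acts (hT.mul ha) hTM
        rw [hz] at hcom
        have hs : Commute y (w⁻¹ * fu i M * w) := by
          show _ = _
          have := congrArg (fun g => w⁻¹ * g * w) hcom.eq
          simp only [← mul_assoc, inv_mul_cancel, one_mul] at this ⊢
          simp only [mul_assoc, inv_mul_cancel_left, inv_mul_cancel, mul_one] at this ⊢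
          exact this
        have hsD : IsD C.hm G (w⁻¹ * fu i M * w) := by
          simpa using (hM.isD C.hov).conj (G.inv_mem (hcl hw))
        obtain ⟨k, hk⟩ := C.isTv_of_mem hsD (hcent _ (hsD.mem C.hov) hs)
        have hwm : w ∈ mst m t F := C.mem_of_tv (hcl hw) hk (j := i) (by
          have : w * (w⁻¹ * fu i M * w) * w⁻¹ = fu i M := by group
          rw [this]; exact hM)
        exact key (by rw [hz]; exact hpure.conj hwm)
      · have hD : IsD C.hm G (y * c) := by rw [hz]; exact hb.conj (hcl hw)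
        obtain ⟨k, hk⟩ := C.isTv_of_mem hD ((mst m t F).mul_mem hpure.mem_mst hcm)
        exact key hk.pure
    exact hbm (cent_pure C h2 hpc hc1 hcc (hb.mem C.hov) hcb)
  · obtain ⟨w, hw, hwb⟩ := Dihedral.conj_of_odd hyy hb2 ho
    refine hyD ?_
    have : y = w⁻¹ * b * (w⁻¹)⁻¹ := by rw [← hwb]; group
    rw [this]
    exact hb.conj (G.inv_mem ((Subgroup.closure_le _).2
      (Set.insert_subset hyG (Set.singleton_subset_iff.2 (hb.mem C.hov))) hw))

end Cfsg.Lib.Linear.TWreath
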