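import Cfsg.Agent.Lib.Linear.TWreath.Odd
import Cfsg.Agent.Lib.Linear.TWreath.EvenMain

/-!
# The stabiliser of a tensor power decomposition is maximal in the special linear group
-/

set_option autoImplicit false
set_option linter.unusedSectionVars false

namespace Cfsg.Lib.Linear.TWreath

open Cfsg.Geo Cfsg.Lib.Linear.AschGen
open scoped Matrix MatrixGroups Kronecker

variable {F : Type*} [Field F] {m t : ℕ}

/-- Without non-scalar coefficients every element permutes the factors. -/
theorem le_mst [Finite F] (hm : 3 ≤ m) : ∀ {t : ℕ}, 2 ≤ t → ∀ G : Subgroup (GL (Idx m t) F),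
    Over G → (∀ i, ¬ Rich G i) → G ≤ mst m t F := by
  intro t
  induction t with
  | zero => intro h; omega
  | succ t ih =>
    intro ht G hG hR x hx
    have C : Ctx G := ⟨hm, ht, hG, hR, fun h3 y hy i a ha =>
      mem_mst_of_cut hm (ih (by omega) (cut G i) (cut_over hG hm i) (cut_not_rich hG hm hR i)) hy ha⟩
    by_contra hxm
    obtain ⟨b, hb, hbm⟩ := C.exists_moved (i := (0 : Fin (t + 1))) hx hxm
    by_cases h2 : (2 : F) = 0
    · exact even_false C h2 hb hbm
    · exact C.odd_false h2 hb hbm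

theorem det_fa (i : Fin (t + 1)) (A : Matrix (Fin m) (Fin m) F) : (fa i A).det = A.det ^ m ^ t := by
  have e : fa i A = Matrix.reindexAlgEquiv F F (cutEquiv i) (A ⊗ₖ (1 : Matrix (Idx m t) (Idx m t) F)) := by
    ext x y
    show _ = (A ⊗ₖ (1 : Matrix (Idx m t) (Idx m t) F)) ((cutEquiv i).symm x) ((cutEquiv i).symm y)
    rw [Matrix.kroneckerMap_apply, fa_apply, powStd_apply]
    show _ = A (x i) (y i) * (1 : Matrix (Idx m t) (Idx m t) F) (i.removeNth x) (i.removeNth y)
    have hiff : (∀ j, j ≠ i → x j = y j) ↔ i.removeNth x = i.removeNth y := by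
      rw [funext_iff, Fin.forall_iff_succAbove i]
      simp [Fin.removeNth]
    simp only [hiff, Matrix.one_apply, mul_ite, mul_one, mul_zero]
  rw [e, Matrix.det_reindexAlgEquiv, Matrix.det_kronecker, Matrix.det_one, one_pow, mul_one]
  simp

theorem det_fa' (i : Fin t) (A : Matrix (Fin m) (Fin m) F) : (fa i A).det = A.det ^ m ^ (t - 1) := by
  cases t with
  | zero => exact i.elim0
  | succ t => exact det_fa i A

theorem det_psi (i : Fin (t + 1)) (Y : Matrix (Idx m t) (Idx m t) F) : (psi i Y).det = Y.det ^ m := by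
  show (Matrix.reindexAlgEquiv F F (cutEquiv i) ((1 : Matrix (Fin m) (Fin m) F) ⊗ₖ Y)).det = _
  rw [Matrix.det_reindexAlgEquiv, Matrix.det_kronecker, Matrix.det_one, one_pow, one_mul]
  simp

/-- The matrix permuting the factors. -/
def permMat (σ : Equiv.Perm (Fin t)) : Matrix (Idx m t) (Idx m t) F :=
  Matrix.of fun x y => if y = x ∘ σ then 1 else 0

theorem permMat_mul (σ τ : Equiv.Perm (Fin t)) :
    (permMat σ : Matrix (Idx m t) (Idx m t) F) * permMat τ = permMat (σ * τ) := by
  ext x y
  rw [Matrix.mul_apply, Finset.sum_eq_single (x ∘ σ) (fun z _ hz => by simp [permMat, hz])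
    (fun hn => absurd (Finset.mem_univ _) hn)]
  simp [permMat, Function.comp_assoc]
  congr

theorem permMat_one : (permMat (1 : Equiv.Perm (Fin t)) : Matrix (Idx m t) (Idx m t) F) = 1 := by
  ext x y
  simp [permMat, Matrix.one_apply, eq_comm]

/-- The permutation of the factors as a group element. -/
def permGL : Equiv.Perm (Fin t) →* GL (Idx m t) F where
  toFun σ := ⟨permMat σ, permMat σ⁻¹, by rw [permMat_mul, mul_inv_cancel, permMat_one],
    by rw [permMat_mul, inv_mul_cancel, permMat_one]⟩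
  map_one' := Units.ext permMat_one
  map_mul' σ τ := Units.ext (permMat_mul σ τ).symm

theorem permMat_pureTens (σ : Equiv.Perm (Fin t)) (X : Fin t → Matrix (Fin m) (Fin m) F) :
    permMat σ * pureTens X = pureTens (fun k => X (σ.symm k)) * permMat σ := by
  ext x y
  rw [Matrix.mul_apply, Matrix.mul_apply, Finset.sum_eq_single (x ∘ σ) (fun z _ hz => by simp [permMat, hz])
    (fun hn => absurd (Finset.mem_univ _) hn), Finset.sum_eq_single (y ∘ σ.symm) (fun z _ hz => by
      have : ¬ y = z ∘ σ := fun h => hz (by rw [h, Function.comp_assoc, Equiv.self_comp_symm, Function.comp_id])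
      simp [permMat, this]) (fun hn => absurd (Finset.mem_univ _) hn)]
  have hy : (y ∘ ⇑σ.symm) ∘ ⇑σ = y := by rw [Function.comp_assoc, Equiv.symm_comp_self, Function.comp_id]
  simp only [permMat, pureTens, Matrix.of_apply, hy, if_true, one_mul, mul_one, Function.comp_apply]
  rw [← Equiv.prod_comp σ (fun k => X (σ.symm k) (x k) (y (σ.symm k)))]
  simp

theorem acts_permGL (σ : Equiv.Perm (Fin t)) (i : Fin t) : Acts (permGL σ : GL (Idx m t) F) i (σ i) 1 := by
  intro X
  rw [conjA_one, conjA_apply]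
  have h : (permMat σ : Matrix (Idx m t) (Idx m t) F) * fa i X = fa (σ i) X * permMat σ := by
    rw [fa_apply, fa_apply, powStd, powStd, permMat_pureTens]
    congr 2
    funext k
    rcases eq_or_ne k (σ i) with rfl | hk
    · simp
    · have hk' : σ.symm k ≠ i := fun e => hk (by rw [← e, Equiv.apply_symm_apply])
      rw [Function.update_of_ne hk, Function.update_of_ne hk']
  show permMat σ * fa i X * ((permGL σ : GL (Idx m t) F)⁻¹).val = _
  rw [h, mul_assoc, show (permMat σ : Matrix (Idx m t) (Idx m t) F) * ((permGL σ : GL (Idx m t) F)⁻¹).val = 1 from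
    Units.mul_inv (permGL σ : GL (Idx m t) F), mul_one]

theorem permGL_mem_mst (σ : Equiv.Perm (Fin t)) : (permGL σ : GL (Idx m t) F) ∈ mst m t F :=
  ⟨σ, fun i => ⟨1, acts_permGL σ i⟩⟩

theorem mst_eq_standard (hm : 0 < m) (ht : 0 < t) : mst m t F = tensorWreathStandard m t F := by
  refine le_antisymm (fun g hg => ?_) ((Subgroup.closure_le _).2 ?_)
  · obtain ⟨σ, hσ⟩ := hg
    have hid : ∀ i X, powEmb (Equiv.refl (Idx m t)) (1 : GL (Idx m t) F) i X = fa i X := fun i X => by
      show conjA (1 : GL (Idx m t) F) ((powStd i X).submatrix id id) = _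
      rw [conjA_one]
      rfl
    obtain ⟨y, ⟨x, hx, hxy⟩, hyg⟩ := mem_tensorWreathSubgroup_of_conj hm ht (e := Equiv.refl (Idx m t))
      (P := (1 : GL (Idx m t) F)) σ (h := g) fun i X => by
        obtain ⟨a, ha⟩ := hσ i
        exact ⟨_, by rw [hid, hid]; exact ha X⟩
    have : g = x := by
      rw [← hyg, ← hxy]
      refine Units.ext ?_
      simp [glReindex]
    rw [this]; exact hx
  · rintro g (⟨gs, hg⟩ | ⟨σ, hg⟩)
    · refine ⟨1, fun i => ⟨gs i, fun X => ?_⟩⟩
      have hv : g.val = pureTens fun l => (gs l).val := Matrix.ext hg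
      have h : g.val * fa i X = fa i (conjA (gs i) X) * g.val := by
        rw [hv, fa_apply, fa_apply, powStd, powStd, pureTens_mul, pureTens_mul]
        congr 1
        funext l
        rcases eq_or_ne l i with rfl | hl
        · simp [conjA_apply, mul_assoc]
        · simp [hl]
      show g.val * fa i X * (g⁻¹).val = _
      rw [h, mul_assoc, Units.mul_inv, mul_one]
      rfl
    · have : g = permGL σ := Units.ext (Matrix.ext hg)
      rw [this]
      exact permGL_mem_mst σ

theorem det_swap_even {i j : Fin t} (hij : i ≠ j) (ht : 3 ≤ t) (hm : 0 < m) (he : Even m) :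
    ((permGL (Equiv.swap i j) : GL (Idx m t) F)).val.det = 1 := by
  obtain ⟨t, rfl⟩ : ∃ t', t = t' + 1 := ⟨t - 1, by omega⟩
  obtain ⟨l, hli, hlj⟩ := exists_third ht i j
  set g : GL (Idx m (t + 1)) F := permGL (Equiv.swap i j) with hg
  have hgl : Acts g l l 1 := by
    have := acts_permGL (F := F) (m := m) (Equiv.swap i j) l
    rwa [Equiv.swap_apply_of_ne_of_ne hli hlj] at this
  obtain ⟨Y, hY⟩ := exists_split hm hgl
  rw [map_one, one_mul] at hY
  have hgg : g * g = 1 := by rw [hg, ← map_mul, Equiv.swap_mul_self, map_one]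
  have hYY : Y.val * Y.val = 1 := psi_injective hm l (by
    rw [map_mul, map_one, ← psiU_val, ← hY, ← Units.val_mul, hgg, Units.val_one])
  obtain ⟨r, hr⟩ := he
  have e : Y.val.det ^ m = (Y.val.det * Y.val.det) ^ r := by
    rw [← sq, ← pow_mul]; congr 1; omega
  rw [hY, psiU_val, det_psi, e, ← Matrix.det_mul, hYY, Matrix.det_one, one_pow]

/-- Elements of determinant one inducing every permutation of at least three factors. -/
theorem exists_lift (hm : 3 ≤ m) (ht : 3 ≤ t) (σ : Equiv.Perm (Fin t)) :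
    ∃ g : GL (Idx m t) F, g.val.det = 1 ∧ ∀ i, ∃ a, Acts g i (σ i) a := by
  induction σ using Equiv.Perm.swap_induction_on with
  | one => exact ⟨1, Matrix.det_one, fun i => ⟨1, acts_one i⟩⟩
  | swap_mul τ x y hxy ih =>
    obtain ⟨g, hg, hga⟩ := ih
    suffices ∃ h : GL (Idx m t) F, h.val.det = 1 ∧ ∀ i, ∃ a, Acts h i (Equiv.swap x y i) a by
      obtain ⟨h, hh, hha⟩ := this
      refine ⟨h * g, by rw [Units.val_mul, Matrix.det_mul, hh, hg, mul_one], fun i => ?_⟩
      obtain ⟨a, ha⟩ := hga i
      obtain ⟨b, hb⟩ := hha (τ i)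
      exact ⟨b * a, hb.mul ha⟩
    set p : GL (Idx m t) F := permGL (Equiv.swap x y) with hp
    rcases Nat.even_or_odd m with he | ho
    · exact ⟨p, det_swap_even hxy ht (by omega) he, fun i => ⟨1, acts_permGL _ i⟩⟩
    · set d := p.val.det with hd
      have hdd : d * d = 1 := by
        rw [hd, ← Matrix.det_mul, ← Units.val_mul, hp, ← map_mul, Equiv.swap_mul_self, map_one, Units.val_one,
          Matrix.det_one]
      set z : Fin m := p0 hm
      let v : Fin m → F := Function.update (fun _ => 1) z d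
      have hv : (Matrix.diagonal v).det = d := by
        rw [Matrix.det_diagonal]; simp [v, Finset.prod_update_of_mem]
      let D := Matrix.GeneralLinearGroup.mkOfDetNeZero (Matrix.diagonal v)
        (by rw [hv]; exact fun h => by rw [h, mul_zero] at hdd; exact zero_ne_one hdd)
      refine ⟨p * fu x D, ?_, fun i => ?_⟩
      · rw [Units.val_mul, Matrix.det_mul, fu_val, det_fa']
        show d * (Matrix.diagonal v).det ^ m ^ (t - 1) = 1
        obtain ⟨r, hr⟩ := ho.pow (n := t - 1)
        rw [hv, hr, pow_succ, pow_mul, sq, hdd, one_pow, one_mul, hdd]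
      · rcases eq_or_ne i x with rfl | hix
        · exact ⟨_, (acts_permGL _ i).mul (acts_fu i D)⟩
        · exact ⟨_, (acts_permGL _ i).mul (acts_fu_ne hix D)⟩

theorem exists_not_mem (hm : 3 ≤ m) (ht : 2 ≤ t) :
    ∃ u : GL (Idx m t) F, u.val.det = 1 ∧ u ∉ mst m t F := by
  classical
  set z0 := p0 hm
  set z1 := p1 hm
  set x : Idx m t := fun _ => z0 with hx
  set y : Idx m t := fun _ => z1 with hy
  set i0 : Fin t := ⟨0, by omega⟩ with hi0
  set i1 : Fin t := ⟨1, by omega⟩ with hi1
  have h01' : i0 ≠ i1 := by simp [hi0, hi1]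
  have hxy : x ≠ y := fun h => h01 hm (congrFun h i0)
  have hdet : (Matrix.transvection x y (1 : F)).det = 1 := Matrix.det_transvection_of_ne x y hxy 1
  let u := Matrix.GeneralLinearGroup.mkOfDetNeZero (Matrix.transvection x y (1 : F)) (by rw [hdet]; exact one_ne_zero)
  refine ⟨u, hdet, fun ⟨σ, hσ⟩ => ?_⟩
  obtain ⟨a, ha⟩ := hσ i0
  have h1 := ha (sg z0 z0)
  rw [conjA_apply] at h1
  have h2 := congrArg (· * u.val) h1
  simp only [mul_assoc, Units.inv_mul, mul_one] at h2
  have h3 := congrFun (congrFun h2 x) y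
  rw [show u.val = 1 + Matrix.single x y (1 : F) from rfl, add_mul, one_mul, Matrix.mul_add, Matrix.mul_one,
    Matrix.add_apply, Matrix.add_apply, fa_sg_diag, Matrix.single_mul_apply_same, Matrix.mul_single_apply_same,
    Matrix.diagonal_apply_eq, Matrix.diagonal_apply_ne _ hxy] at h3
  have hzero : ∀ Y : Matrix (Fin m) (Fin m) F, fa (σ i0) Y x y = 0 := fun Y => by
    rw [fa_apply, powStd_apply, if_neg]
    intro h
    rcases eq_or_ne (σ i0) i0 with e | e
    · exact h01 hm (h i1 (by rw [e]; exact h01'.symm))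
    · exact h01 hm (h i0 (Ne.symm e))
  have hxx : ∀ Y : Matrix (Fin m) (Fin m) F, fa (σ i0) Y x x = Y z0 z0 := fun Y => by
    rw [fa_apply, powStd_apply, if_pos (fun _ _ => rfl)]
  rw [hzero, hxx, if_neg (show ¬ y i0 = z0 from (h01 hm).symm)] at h3
  -- the diagonal entry forces a value, the off-diagonal position another
  have h4 := congrFun (congrFun h2 y) y
  rw [show u.val = 1 + Matrix.single x y (1 : F) from rfl, add_mul, one_mul, Matrix.mul_add, Matrix.mul_one,
    Matrix.add_apply, Matrix.add_apply, Matrix.single_mul_apply_of_ne _ _ _ _ _ (Ne.symm hxy),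
    Matrix.mul_single_apply_same, fa_sg_diag, Matrix.diagonal_apply_eq, if_neg (show ¬ y i0 = z0 from (h01 hm).symm)] at h4
  have h5 := congrFun (congrFun h2 x) x
  rw [show u.val = 1 + Matrix.single x y (1 : F) from rfl, add_mul, one_mul, Matrix.mul_add, Matrix.mul_one,
    Matrix.add_apply, Matrix.add_apply, Matrix.single_mul_apply_same, Matrix.mul_single_apply_of_ne _ _ _ _ _ hxy,
    fa_sg_diag, Matrix.diagonal_apply_eq, Matrix.diagonal_apply_ne _ hxy.symm, if_pos (show x i0 = z0 from rfl), hxx] at h5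
  simp only [add_zero, zero_add, one_mul, mul_one, mul_zero] at h3 h5
  rw [← h5] at h3
  exact one_ne_zero h3.symm

/-- The stabiliser of a tensor power decomposition is maximal in the special linear group. -/
theorem isMaximalIn [Finite F] {ι : Type} [Fintype ι] [DecidableEq ι] (hm : 3 ≤ m) (ht : 2 ≤ t)
    (e : ι ≃ Idx m t) (P : GL ι F) :
    IsMaximalIn (specialLinear ι F) (tensorWreathSubgroup m t e P ⊓ specialLinear ι F) := by
  classical
  let Θ : GL (Idx m t) F ≃* GL ι F := (glReindex e.symm).trans (MulAut.conj P)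
  have hdet : ∀ g : GL (Idx m t) F, Θ g ∈ specialLinear ι F ↔ g.val.det = 1 := fun g => by
    show Matrix.GeneralLinearGroup.det (P * glReindex e.symm g * P⁻¹) = 1 ↔ _
    rw [map_mul, map_mul, map_inv, mul_inv_cancel_comm, Units.ext_iff]
    show (Matrix.reindexAlgEquiv F F e.symm g.val).det = 1 ↔ _
    rw [Matrix.det_reindexAlgEquiv]
  have hT : ∀ g : GL (Idx m t) F, Θ g ∈ tensorWreathSubgroup m t e P ↔ g ∈ mst m t F := fun g => by
    rw [mst_eq_standard (by omega) (by omega)]
    constructor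
    · rintro ⟨_, ⟨x, hx, rfl⟩, hxg⟩
      have : x = g := Θ.injective hxg
      exact this ▸ hx
    · intro hg
      exact ⟨_, ⟨g, hg, rfl⟩, rfl⟩
  refine ⟨lt_of_le_of_ne inf_le_right fun h => ?_, fun L hL hLS => ?_⟩
  · obtain ⟨u, hu, hum⟩ := exists_not_mem (F := F) hm ht
    have h1 : Θ u ∈ tensorWreathSubgroup m t e P ⊓ specialLinear ι F := h.symm.le ((hdet u).2 hu)
    exact hum ((hT u).1 h1.1)
  set G := L.comap Θ.toMonoidHom with hG
  have hmem : ∀ g : GL (Idx m t) F, g ∈ mst m t F → g.val.det = 1 → g ∈ G := fun g h1 h2 =>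
    hL ⟨(hT g).2 h1, (hdet g).2 h2⟩
  have hOver : Over G := by
    refine ⟨fun i a ha => hmem _ (fu_mem_mst i a) ?_, fun h3 σ => ?_⟩
    · rw [fu_val, det_fa', ha, one_pow]
    · obtain ⟨g, hg, hga⟩ := exists_lift (F := F) hm h3 σ
      exact ⟨g, hmem g ⟨σ, hga⟩ hg, hga⟩
  by_cases hR : ∃ i, Rich G i
  · obtain ⟨i, hi⟩ := hR
    refine Or.inr (le_antisymm hLS fun x hx => ?_)
    obtain ⟨g, rfl⟩ := Θ.surjective x
    exact sl_le_of_rich hOver hm hi (show g ∈ specialLinear (Idx m t) F from Units.ext ((hdet g).1 hx))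
  · push Not at hR
    refine Or.inl (le_antisymm (le_inf (fun x hx => ?_) hLS) hL)
    obtain ⟨g, rfl⟩ := Θ.surjective x
    exact (hT g).2 (le_mst hm ht G hOver hR hx)

end Cfsg.Lib.Linear.TWreath
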