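import Cfsg.Agent.Lib.Linear.TWreath.Cut

/-!
# Ranks of matrices in one factor
-/

set_option autoImplicit false
set_option linter.unusedSectionVars false

namespace Cfsg.Lib.Linear.TWreath

open Cfsg.Geo Cfsg.Lib.Linear.AschGen
open scoped Matrix MatrixGroups

variable {F : Type*} [Field F] {m t : ℕ}

/-- A matrix killing `X * R` but not `X` shows that the rank drops. -/
theorem rank_lt {ι : Type} [Fintype ι] [DecidableEq ι] {X R e : Matrix ι ι F} (h : e * (X * R) = 0)
    (hne : e * X ≠ 0) : (X * R).rank < X.rank := by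
  refine Submodule.finrank_lt_finrank_of_lt (lt_of_le_of_ne ?_ fun he => hne ?_)
  · rw [Matrix.mulVecLin_mul]
    exact LinearMap.range_comp_le_range _ _
  · refine Matrix.toLin'.injective (LinearMap.ext fun v => ?_)
    have hv : X *ᵥ v ∈ LinearMap.range (X * R).mulVecLin := by rw [he]; exact ⟨v, rfl⟩
    obtain ⟨w, hw⟩ := hv
    rw [Matrix.mulVecLin_apply] at hw
    rw [Matrix.toLin'_apply, ← Matrix.mulVec_mulVec, ← hw, Matrix.mulVec_mulVec, h]
    simp

theorem rank_conjA {ι : Type} [Fintype ι] [DecidableEq ι] (g : GL ι F) (X : Matrix ι ι F) :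
    (conjA g X).rank = X.rank := by
  refine le_antisymm ?_ ?_
  · rw [conjA_apply]
    exact (Matrix.rank_mul_le_left _ _).trans (Matrix.rank_mul_le_right _ _)
  · conv_lhs => rw [← conjA_inv g X]
    rw [conjA_apply]
    exact (Matrix.rank_mul_le_left _ _).trans (Matrix.rank_mul_le_right _ _)

theorem rank_conj_sub_one {ι : Type} [Fintype ι] [DecidableEq ι] (g x : GL ι F) :
    ((g * x * g⁻¹).val - 1).rank = (x.val - 1).rank := by
  conv_lhs => rw [val_conj, ← map_one (conjA g), ← map_sub, rank_conjA]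

theorem sg_apply_self (a : Fin m) (x y : Fin m) :
    (sg a a : Matrix (Fin m) (Fin m) F) x y = if x = y then (if x = a then 1 else 0) else 0 := by
  by_cases hxy : x = y
  · subst hxy; simp [Matrix.single_apply, eq_comm]
  · rw [if_neg hxy]
    exact Matrix.single_apply_of_ne _ _ _ _ _ (by rintro ⟨rfl, rfl⟩; exact hxy rfl)

theorem fa_sg_diag (i : Fin t) (a : Fin m) :
    fa i (sg a a : Matrix (Fin m) (Fin m) F) =
      Matrix.diagonal (fun x : Idx m t => if x i = a then (1 : F) else 0) := by
  ext x y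
  rw [fa_apply, powStd_apply, Matrix.diagonal_apply]
  by_cases hxy : x = y
  · subst hxy; rw [if_pos (fun j _ => rfl), if_pos rfl, sg_apply_self, if_pos rfl]
  · rw [if_neg hxy]
    split_ifs with h
    · rw [sg_apply_self, if_neg fun he => hxy (funext fun j => by
        rcases eq_or_ne j i with rfl | hj
        · exact he
        · exact h j hj)]
    · rfl

theorem rank_fa_sg (i : Fin t) (a b c : Fin m) :
    (fa i (sg a b : Matrix (Fin m) (Fin m) F)).rank = (fa i (sg c c : Matrix (Fin m) (Fin m) F)).rank := by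
  refine le_antisymm ?_ ?_
  · rw [← sg_mul a c b, ← sg_mul a c c, map_mul, map_mul]
    exact (Matrix.rank_mul_le_left _ _).trans (Matrix.rank_mul_le_right _ _)
  · rw [← sg_mul c b c, ← sg_mul c a b, map_mul, map_mul]
    exact (Matrix.rank_mul_le_left _ _).trans (Matrix.rank_mul_le_right _ _)

theorem rank_fa_indep (i j : Fin t) (a : Fin m) :
    (fa i (sg a a : Matrix (Fin m) (Fin m) F)).rank = (fa j (sg a a : Matrix (Fin m) (Fin m) F)).rank := by
  classical
  rw [fa_sg_diag, fa_sg_diag, Matrix.rank_diagonal, Matrix.rank_diagonal]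
  refine Fintype.card_congr (Equiv.subtypeEquiv ((Equiv.swap i j).arrowCongr (Equiv.refl (Fin m))) fun x => ?_)
  simp [Equiv.arrowCongr]

theorem fa_ne_zero (hm : 0 < m) (i : Fin t) {X : Matrix (Fin m) (Fin m) F} (hX : X ≠ 0) : fa i X ≠ 0 :=
  fun h => hX (fa_injective hm i (h.trans (map_zero _).symm))

theorem rank_pos_fa (hm : 0 < m) (i : Fin t) (a : Fin m) :
    0 < (fa i (sg a a : Matrix (Fin m) (Fin m) F)).rank := by
  refine Nat.pos_of_ne_zero fun h => fa_ne_zero (F := F) hm i (X := sg a a) (fun e => by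
    simpa using congrFun (congrFun e a) a) ?_
  have h1 := Submodule.finrank_eq_zero.1 h
  rw [LinearMap.range_eq_bot] at h1
  exact Matrix.toLin'.injective (h1.trans (map_zero _).symm)

/-- A vector with a functional separating it from two others. -/
theorem exists_sep {y w x : Fin m → F} (h : x ∉ Submodule.span F {y, w}) :
    ∃ ξ : Fin m → F, ξ ⬝ᵥ y = 0 ∧ ξ ⬝ᵥ w = 0 ∧ ξ ⬝ᵥ x = 1 := by
  obtain ⟨φ, hφx, hφ⟩ := Submodule.exists_dual_map_eq_bot_of_notMem h inferInstance
  let ξ : Fin m → F := fun l => φ (Pi.single l 1) / φ x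
  have hξ : ∀ v, ξ ⬝ᵥ v = φ v / φ x := fun v => by
    conv_rhs => rw [← Finset.univ_sum_single v, map_sum, Finset.sum_div]
    refine Finset.sum_congr rfl fun l _ => ?_
    rw [show (Pi.single l (v l) : Fin m → F) = v l • Pi.single l 1 by simp [← Pi.single_smul], map_smul,
      smul_eq_mul]
    simp only [ξ]
    ring
  have h0 : ∀ v ∈ ({y, w} : Set (Fin m → F)), φ v = 0 := fun v hv => by
    have : φ v ∈ (Submodule.span F {y, w}).map φ := ⟨v, Submodule.subset_span hv, rfl⟩
    rw [hφ, Submodule.mem_bot] at this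
    exact this
  exact ⟨ξ, by rw [hξ, h0 y (by simp), zero_div], by rw [hξ, h0 w (by simp), zero_div],
    by rw [hξ, div_self hφx]⟩

end Cfsg.Lib.Linear.TWreath
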