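import Cfsg.Agent.Lib.Linear.OOTensor.Pair

/-!
# Two quadratic elements of a linear group

The inverse of an element of the generated algebra is its image under the anti-automorphism
negating the two square zero maps, so no form is needed for the central involution.
-/

set_option autoImplicit false
set_option linter.unusedSectionVars false
set_option linter.unusedSimpArgs false
set_option linter.style.haveILetI false

namespace Cfsg.Lib.Linear.TWreath.Pair

open Module Polynomial
open scoped Matrix MatrixGroups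
open Cfsg.Lib.Linear.Dickson (tU tL)
open Cfsg.Lib.Linear.OOTensor (opHom opHom_apply opHom_injective lc aeval_comm commute_T nmn mnm left_M left_N Rep rep_one rep_M rep_N rep_unique mul_one_sub_eq)

variable {ι : Type} [Fintype ι] [DecidableEq ι] {F : Type*} [Field F]
variable {M N : Module.End F (ι → F)}

/-- The image under the anti-automorphism. -/
noncomputable def lcI (M N : Module.End F (ι → F)) (P₀ P₁ P₂ P₃ : F[X]) : Module.End F (ι → F) :=
  aeval (M * N + N * M) P₀ - aeval (M * N + N * M) P₁ * M - aeval (M * N + N * M) P₂ * N +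
    aeval (M * N + N * M) P₃ * (N * M)

theorem add_lc (P₀ P₁ P₂ P₃ : F[X]) : lc M N P₀ P₁ P₂ P₃ + lcI M N P₀ P₁ P₂ P₃ =
    aeval (M * N + N * M) (2 * P₀ + P₃ * X) := by
  simp only [lc, lcI, map_add, map_mul, aeval_X, map_ofNat, two_mul, mul_add]
  abel

variable (hM : M * M = 0) (hN : N * N = 0)
include hM hN

theorem right_M (P₀ P₁ P₂ P₃ : F[X]) (c : F) :
    lcI M N P₀ P₁ P₂ P₃ * (1 - c • M) = lcI M N P₀ (P₁ + C c * P₀) P₂ (P₃ + C c * P₂) := by
  simp only [lcI, map_add, map_mul, aeval_C, Algebra.algebraMap_eq_smul_one, smul_mul_assoc, one_mul,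
    mul_sub, mul_one, add_mul, sub_mul, mul_smul_comm, mul_assoc, hM, mul_zero, smul_zero]
  module

theorem right_N (P₀ P₁ P₂ P₃ : F[X]) (c : F) :
    lcI M N P₀ P₁ P₂ P₃ * (1 - c • N) =
      lcI M N (P₀ + C c * (P₁ * X)) P₁ (P₂ + C c * (P₀ + P₃ * X)) (P₃ - C c * P₁) := by
  simp only [lcI, map_add, map_sub, map_mul, aeval_C, aeval_X, Algebra.algebraMap_eq_smul_one, smul_mul_assoc,
    one_mul, mul_sub, mul_one, add_mul, sub_mul, mul_smul_comm, mul_assoc, hN, mul_zero, smul_zero]
  conv_lhs => rw [nmn hM hN]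
  simp only [add_mul, mul_add, smul_add, mul_assoc, hN, mul_zero, smul_zero, zero_add, add_zero]
  module

omit hM hN

/-- The group generated by two quadratic elements. -/
theorem exists_central_involution [Finite F] (h2 : (2 : F) ≠ 0) (p : ℕ)
    [Fact p.Prime] [CharP F p] {a b : GL ι F} (ha2 : (opHom a - 1) * (opHom a - 1) = 0)
    (hb2 : (opHom b - 1) * (opHom b - 1) = 0)
    (hnp : ¬ IsPGroup p (Subgroup.closure {a, b} : Subgroup (GL ι F))) :
    ∃ z ∈ Subgroup.closure {a, b}, z * z = 1 ∧ z ≠ 1 ∧ z * a = a * z ∧ z * b = b * z ∧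
      ∃ R : Module.End F (ι → F), Commute R (opHom a - 1) ∧ Commute R (opHom b - 1) ∧
        opHom z - 1 = R * ((opHom a - 1) * (opHom b - 1) + (opHom b - 1) * (opHom a - 1)) := by
  classical
  set X₀ : Subgroup (GL ι F) := Subgroup.closure {a, b} with hX₀
  set M : Module.End F (ι → F) := opHom a - 1 with hMdef
  set N : Module.End F (ι → F) := opHom b - 1 with hNdef
  set T := M * N + N * M with hT
  have hainv : opHom a⁻¹ = 1 + (-1 : F) • M := by
    refine left_inv_eq_right_inv (a := opHom a) (by rw [← map_mul, inv_mul_cancel, map_one]) ?_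
    rw [show (-1 : F) • M = -M from neg_one_smul F M, ← sub_eq_add_neg]
    exact mul_one_sub_eq ha2
  have hbinv : opHom b⁻¹ = 1 + (-1 : F) • N := by
    refine left_inv_eq_right_inv (a := opHom b) (by rw [← map_mul, inv_mul_cancel, map_one]) ?_
    rw [show (-1 : F) • N = -N from neg_one_smul F N, ← sub_eq_add_neg]
    exact mul_one_sub_eq hb2
  have haop : opHom a = 1 + (1 : F) • M := by rw [hMdef, one_smul, add_sub_cancel]
  have hbop : opHom b = 1 + (1 : F) • N := by rw [hNdef, one_smul, add_sub_cancel]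
  let K := AlgebraicClosure F
  -- every element is in the algebra, with a matrix
  have hrep : ∀ (l : K) (g : GL ι F × SL(2, K)),
      g ∈ Subgroup.closure {(a, tU (1 : K)), (b, tL l)} → Rep M N l (opHom g.1) g.2 := by
    intro l g hg
    induction hg using Subgroup.closure_induction_left with
    | one => simpa using rep_one (M := M) (N := N) ha2 hb2 l
    | mul_left x hx y _ ih =>
      rcases hx with rfl | rfl
      · simpa [haop] using rep_M ha2 hb2 l ih 1
      · simpa [hbop] using rep_N ha2 hb2 l ih 1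
    | inv_mul_cancel x hx y _ ih =>
      rcases hx with rfl | rfl
      · simpa [hainv, Dickson.tU_inv] using rep_M ha2 hb2 l ih (-1)
      · have e : (tL l)⁻¹ = tL (-l) :=
          inv_eq_of_mul_eq_one_right (by rw [Dickson.tL_mul, add_neg_cancel, Dickson.tL_zero])
        have h7 := rep_N ha2 hb2 l ih (-1)
        rw [map_neg, map_one, neg_one_mul] at h7
        simpa [hbinv, e] using h7
  have hfst : ∀ l : K, X₀ = (Subgroup.closure {(a, tU (1 : K)), (b, tL l)}).map
      (MonoidHom.fst (GL ι F) SL(2, K)) := fun l => by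
    rw [MonoidHom.map_closure, hX₀, Set.image_insert_eq, Set.image_singleton]
    rfl
  have hform : ∀ g ∈ X₀, ∃ P₀ P₁ P₂ P₃ : F[X],
      opHom g = lc M N P₀ P₁ P₂ P₃ ∧ opHom g⁻¹ = lcI M N P₀ P₁ P₂ P₃ ∧ P₀.eval 0 = 1 := by
    intro g hg
    induction hg using Subgroup.closure_induction_left with
    | one => exact ⟨1, 0, 0, 0, by simp [lc], by simp [lcI], by simp⟩
    | mul_left x hx y _ ih =>
      obtain ⟨P₀, P₁, P₂, P₃, e1, e2, e3⟩ := ih
      rcases hx with rfl | rfl
      · exact ⟨_, _, _, _, by rw [map_mul, haop, e1, left_M ha2 hb2],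
          by rw [mul_inv_rev, map_mul, hainv, e2, show (1 + (-1 : F) • M) = 1 - (1 : F) • M by module,
            right_M ha2 hb2], e3⟩
      · exact ⟨_, _, _, _, by rw [map_mul, hbop, e1, left_N ha2 hb2],
          by rw [mul_inv_rev, map_mul, hbinv, e2, show (1 + (-1 : F) • N) = 1 - (1 : F) • N by module,
            right_N ha2 hb2], by simp [e3]⟩
    | inv_mul_cancel x hx y _ ih =>
      obtain ⟨P₀, P₁, P₂, P₃, e1, e2, e3⟩ := ih
      rcases hx with rfl | rfl
      · exact ⟨_, _, _, _, by rw [map_mul, hainv, e1, left_M ha2 hb2],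
          by rw [mul_inv_rev, inv_inv, map_mul, haop, e2, one_smul,
            show (1 + M) = 1 - (-1 : F) • M by module, right_M ha2 hb2], e3⟩
      · exact ⟨_, _, _, _, by rw [map_mul, hbinv, e1, left_N ha2 hb2],
          by rw [mul_inv_rev, inv_inv, map_mul, hbop, e2, one_smul,
            show (1 + N) = 1 - (-1 : F) • N by module, right_N ha2 hb2], by simp [e3]⟩
  have hsum : ∀ g ∈ X₀, ∃ P₀ P₃ : F[X], P₀.eval 0 = 1 ∧
      opHom g + opHom g⁻¹ = aeval T (2 * P₀ + P₃ * X) := by
    intro g hg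
    obtain ⟨P₀, P₁, P₂, P₃, e1, e2, e3⟩ := hform g hg
    exact ⟨P₀, P₃, e3, by rw [e1, e2, hT, add_lc]⟩
  -- `T` is not nilpotent
  have hnil : ¬ IsNilpotent T := by
    intro hTn
    refine hnp fun ⟨g, hg⟩ => ?_
    obtain ⟨P₀, P₃, h0, h1⟩ := hsum g hg
    obtain ⟨R, hR⟩ : X ∣ (2 * P₀ + P₃ * X - 2) :=
      X_dvd_iff.2 (by rw [coeff_zero_eq_eval_zero]; simp [h0])
    have h3 : (opHom g - 1) * (opHom g - 1) = opHom g * (T * aeval T R) := by
      have h4 : opHom g + opHom g⁻¹ - 2 = T * aeval T R := by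
        rw [h1, ← map_ofNat (aeval (R := F) T) 2, ← map_sub, hR, map_mul, aeval_X]
      rw [← h4]
      have h5 : opHom g * opHom g⁻¹ = 1 := by rw [← map_mul, mul_inv_cancel, map_one]
      rw [mul_sub (opHom g), mul_add (opHom g), h5, mul_two]
      simp only [sub_mul, mul_sub, one_mul, mul_one]
      abel
    have hcg : Commute (opHom g) (T * aeval T R) := by
      have hc : Commute (opHom g) (opHom g + opHom g⁻¹ - 2) :=
        ((Commute.refl _).add_right (by
          show _ * _ = _ * _
          rw [← map_mul, ← map_mul, mul_inv_cancel, inv_mul_cancel])).sub_right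
          (Commute.ofNat_right _ 2)
      rwa [h1, ← map_ofNat (aeval (R := F) T) 2, ← map_sub, hR, map_mul, aeval_X] at hc
    have hn : IsNilpotent (opHom g - 1) := by
      have h6 : IsNilpotent (opHom g * (T * aeval T R)) :=
        hcg.isNilpotent_mul_left (((aeval_comm (Commute.refl T) R).symm).isNilpotent_mul_right hTn)
      rw [← h3, ← sq] at h6
      obtain ⟨j, hj⟩ := h6
      exact ⟨2 * j, by rw [pow_mul, hj]⟩
    obtain ⟨j, hj⟩ := hn
    refine ⟨j, Subtype.ext (opHom_injective ?_)⟩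
    rcases isEmpty_or_nonempty ι with hι | hι
    · exact LinearMap.ext fun v => Subsingleton.elim _ _
    haveI : CharP (Module.End F (ι → F)) p :=
      charP_of_injective_algebraMap (RingHom.injective (algebraMap F (Module.End F (ι → F)))) p
    have h7 := sub_pow_char_pow_of_commute (p := p) j (Commute.one_right (opHom g))
    rw [one_pow, pow_eq_zero_of_le (Nat.lt_pow_self (Fact.out : p.Prime).one_lt).le hj] at h7
    simp only [Subgroup.coe_pow, Subgroup.coe_one, map_pow, map_one]
    exact sub_eq_zero.1 h7.symm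
  -- a non-zero root
  obtain ⟨l, hl, hker⟩ : ∃ l : K, l ≠ 0 ∧ ∀ P : F[X], aeval T P = 0 → aeval l P = 0 := by
    have hmo := minpoly.ne_zero (Algebra.IsIntegral.isIntegral (R := F) T)
    obtain ⟨R, hR, hRd⟩ := Polynomial.exists_eq_pow_rootMultiplicity_mul_and_not_dvd _ hmo 0
    rw [map_zero, sub_zero] at hR hRd
    by_cases hdeg : R.degree = 0
    · refine absurd ⟨(minpoly F T).rootMultiplicity 0, ?_⟩ hnil
      have h1 := minpoly.aeval F T
      rw [hR, Polynomial.eq_C_of_degree_eq_zero hdeg, map_mul, map_pow, aeval_X, aeval_C,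
        ← Algebra.commutes, ← Algebra.smul_def] at h1
      refine (smul_eq_zero.1 h1).resolve_left fun h => hRd ?_
      rw [Polynomial.eq_C_of_degree_eq_zero hdeg, h, map_zero]
      exact dvd_zero _
    · obtain ⟨l, hl⟩ := IsAlgClosed.exists_aeval_eq_zero K R hdeg
      refine ⟨l, fun h0 => hRd (X_dvd_iff.2 ?_), fun P hP => ?_⟩
      · rw [h0, aeval_def, eval₂_at_zero, map_eq_zero] at hl
        exact hl
      · obtain ⟨S, rfl⟩ := (minpoly.dvd F T hP)
        rw [hR, map_mul, map_mul, hl, mul_zero, zero_mul]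
  haveI : CharP K p := charP_of_injective_algebraMap (RingHom.injective (algebraMap F K)) p
  set G := Subgroup.closure {(a, tU (1 : K)), (b, tL l)} with hG
  have hinj : Function.Injective fun y : G => (y : GL ι F × SL(2, K)).1 := by
    intro y y' h
    have h1 : ((y⁻¹ * y' : G) : GL ι F × SL(2, K)).1 = 1 := by
      simp only at h
      simp [h]
    have h2 := hrep l _ (y⁻¹ * y' : G).2
    rw [h1, map_one] at h2
    have h3 := rep_unique ha2 hb2 l hl hker h2
    exact inv_mul_eq_one.1 (Subtype.ext (Prod.ext h1 h3))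
  haveI : Finite G := Finite.of_injective _ hinj
  let snd : G →* SL(2, K) := (MonoidHom.snd _ _).comp G.subtype
  haveI : Finite snd.range := Finite.of_surjective _ snd.rangeRestrict_surjective
  have hu : tU (1 : K) ∈ snd.range := ⟨⟨(a, tU 1), Subgroup.subset_closure (by simp)⟩, rfl⟩
  have hw : tL l ∈ snd.range := ⟨⟨(b, tL l), Subgroup.subset_closure (by simp)⟩, rfl⟩
  have h2K : (2 : K) ≠ 0 := fun h => h2 ((algebraMap F K).injective (by rw [map_ofNat, map_zero]; exact h))
  have hp2 : p ≠ 2 := fun e => h2 (by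
    haveI : CharP F 2 := e ▸ ‹CharP F p›
    exact CharTwo.two_eq_zero)
  obtain ⟨d, hd⟩ := Dickson.exists_SL2_map_le (p := p) hp2 snd.range hu hw (i := 1) (j := 1)
    (by rw [pow_one, Dickson.tU_pow, mul_one, CharP.cast_eq_zero, Dickson.tU_zero])
    (by rw [pow_one, Dickson.tL_pow, CharP.cast_eq_zero, zero_mul, Dickson.tL_zero])
    (fun hc => hl (by
      have := congrArg (fun A : SL(2, K) => A 0 0) hc.eq
      simpa [Dickson.mul_apply', Dickson.tU_coe, Dickson.tL_coe] using this))
  obtain ⟨A, hA1, hA2⟩ : ∃ A : SL(2, K), A * A = 1 ∧ A ≠ 1 ∧ A ∈ snd.range := by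
    haveI : Fact (Even (Fintype.card (Fin 2))) := ⟨by simp⟩
    refine ⟨_, ?_, fun e => ?_, hd (-1)⟩
    · rw [← map_mul, ← map_mul, neg_mul_neg, one_mul, map_one, map_one]
    · have h3 := (map_eq_one_iff _ (Dickson.conjGL_injective d)).1 e
      have h4 := congrArg (fun A : SL(2, K) => A 0 0) h3
      simp [Dickson.map_apply'] at h4
      exact h2K (by linear_combination -h4)
  obtain ⟨y, rfl⟩ := hA2.2
  obtain ⟨z₀, hz₀⟩ : ∃ z₀ : G, orderOf z₀ = 2 := by
    haveI : Fact (Nat.Prime 2) := ⟨Nat.prime_two⟩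
    refine exists_prime_orderOf_dvd_card' 2 (dvd_trans ?_ (orderOf_dvd_natCard y))
    have h6 : orderOf (snd y) = 2 := orderOf_eq_prime (by rw [sq]; exact hA1) hA2.1
    have h7 := orderOf_map_dvd snd y
    rw [h6] at h7
    exact h7
  obtain ⟨hz₁, hz₂⟩ := orderOf_eq_prime_iff.1 hz₀
  set z := (z₀ : GL ι F × SL(2, K)).1 with hz
  have hzX : z ∈ X₀ := by rw [hfst l]; exact ⟨_, z₀.2, rfl⟩
  have hzz : z * z = 1 := by
    have h5 := congrArg (fun y : G => (y : GL ι F × SL(2, K)).1) hz₁
    rw [sq] at h5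
    simpa using h5
  obtain ⟨P₀, P₃, h0, h5⟩ := hsum z hzX
  rw [inv_eq_of_mul_eq_one_right hzz] at h5
  have hz' : opHom z = (2 : F)⁻¹ • aeval T (2 * P₀ + P₃ * X) := by
    rw [← h5, ← two_smul F (opHom z), smul_smul, inv_mul_cancel₀ h2, one_smul]
  have hc : ∀ S, Commute T S → opHom z * S = S * opHom z := fun S hS => by
    rw [hz', smul_mul_assoc, mul_smul_comm, (aeval_comm hS _).eq]
  refine ⟨z, hzX, hzz, fun e => hz₂ (hinj (by simpa [hz] using e)), ?_, ?_, ?_⟩
  · apply opHom_injective
    rw [map_mul, map_mul, haop, mul_add, add_mul, one_smul, mul_one, one_mul, hc M (commute_T ha2 hb2).1]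
  · apply opHom_injective
    rw [map_mul, map_mul, hbop, mul_add, add_mul, one_smul, mul_one, one_mul, hc N (commute_T ha2 hb2).2]
  · obtain ⟨S, hS⟩ : X ∣ (2 * P₀ + P₃ * X - 2) :=
      X_dvd_iff.2 (by rw [coeff_zero_eq_eval_zero]; simp [h0])
    refine ⟨(2 : F)⁻¹ • aeval T S, (aeval_comm (commute_T ha2 hb2).1 S).smul_left _,
      (aeval_comm (commute_T ha2 hb2).2 S).smul_left _, ?_⟩
    show opHom z - 1 = (2 : F)⁻¹ • aeval T S * T
    rw [smul_mul_assoc, hz', show aeval T S * T = aeval T (2 * P₀ + P₃ * X - 2) by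
      rw [hS, map_mul, aeval_X, (aeval_comm (Commute.refl T) S).eq], map_sub, map_ofNat, smul_sub,
      ← one_add_one_eq_two (R := Module.End F (ι → F)), ← two_smul F (1 : Module.End F (ι → F)),
      smul_smul, inv_mul_cancel₀ h2, one_smul]

end Cfsg.Lib.Linear.TWreath.Pair
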