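import Cfsg.Agent.Lib.Linear.TWreath.Basic
import Cfsg.Agent.Lib.Linear.SubfieldBasic

/-!
# Groups with a non-scalar coefficient

A group containing the special linear groups of the factors and an elementary element with a
coefficient which is not a scalar contains the whole special linear group.
-/

set_option autoImplicit false
set_option linter.unusedSectionVars false

namespace Cfsg.Lib.Linear.TWreath

open Cfsg.Geo Cfsg.Lib.Linear.AschGen
open scoped Matrix MatrixGroups

variable {F : Type*} [Field F] {m t : ℕ} {G : Subgroup (GL (Idx m t) F)}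

theorem exists_third (hm : 3 ≤ m) (a b : Fin m) : ∃ c, c ≠ a ∧ c ≠ b := by
  by_contra h
  push Not at h
  have h1 : (Finset.univ : Finset (Fin m)) ⊆ {a, b} := fun c _ => by
    rcases eq_or_ne c a with rfl | hc
    · simp
    · simp [h c hc]
  have h2 := (Finset.card_le_card h1).trans Finset.card_le_two
  simp only [Finset.card_univ, Fintype.card_fin] at h2
  omega

theorem fa_mul_fa {i : Fin t} {Φ : Matrix (Idx m t) (Idx m t) F} (hΦ : Com i Φ)
    (X Y : Matrix (Fin m) (Fin m) F) (Ψ : Matrix (Idx m t) (Idx m t) F) :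
    fa i X * Φ * (fa i Y * Ψ) = fa i (X * Y) * (Φ * Ψ) := by
  rw [map_mul, mul_assoc, mul_assoc (fa i X) (fa i Y), ← mul_assoc Φ, ← (hΦ Y).eq, mul_assoc (fa i Y)]

theorem fa_mul_zero {i : Fin t} {Φ : Matrix (Idx m t) (Idx m t) F} (hΦ : Com i Φ)
    {X Y : Matrix (Fin m) (Fin m) F} (h : X * Y = 0) (Ψ : Matrix (Idx m t) (Idx m t) F) :
    fa i X * Φ * (fa i Y * Ψ) = 0 := by rw [fa_mul_fa hΦ, h, map_zero, zero_mul]

/-- A transvection in the general linear group. -/
noncomputable def trGL {a b : Fin m} (h : a ≠ b) (c : F) : GL (Fin m) F :=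
  Matrix.GeneralLinearGroup.mkOfDetNeZero (Matrix.transvection a b c)
    (by rw [Matrix.det_transvection_of_ne _ _ h]; exact one_ne_zero)

theorem trGL_val {a b : Fin m} (h : a ≠ b) (c : F) : (trGL h c).val = 1 + c • sg a b := by
  show Matrix.transvection a b c = _
  rw [Matrix.transvection, show Matrix.single a b c = c • (sg a b : Matrix (Fin m) (Fin m) F) by simp]

theorem det_trGL {a b : Fin m} (h : a ≠ b) (c : F) : (trGL h c).val.det = 1 :=
  Matrix.det_transvection_of_ne a b h c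

theorem trGL_inv_val {a b : Fin m} (h : a ≠ b) (c : F) : ((trGL h c)⁻¹).val = 1 - c • sg a b := by
  refine left_inv_eq_right_inv (Units.inv_mul (trGL h c)) ?_
  have e : ∀ x : Matrix (Fin m) (Fin m) F, (1 + x) * (1 - x) = 1 - x * x := fun x => by noncomm_ring
  rw [trGL_val, e, smul_mul_smul_comm, sg_mul_ne _ _ h.symm, smul_zero, sub_zero]

theorem inM_scalar (hG : Over G) (i : Fin t) {a b : Fin m} (h : a ≠ b) (c : F) :
    InM G (1 + fa i (sg a b) * (c • 1)) :=
  ⟨fu i (trGL h c), hG.sl i _ (det_trGL h c),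
    by rw [fu_val, trGL_val, map_add, map_one, map_smul, mul_smul_comm, mul_one]⟩

theorem inM_chain {i : Fin t} {a b c : Fin m} (hab : a ≠ b) (hbc : b ≠ c) (hac : a ≠ c)
    {Φ Ψ : Matrix (Idx m t) (Idx m t) F} (hΦ : Com i Φ) (hΨ : Com i Ψ)
    (h : InM G (1 + fa i (sg a b) * Φ)) (h' : InM G (1 + fa i (sg b c) * Ψ)) :
    InM G (1 + fa i (sg a c) * (Φ * Ψ)) := by
  have := h.comm h' (fa_mul_zero hΦ (sg_mul_ne _ _ hab.symm) _) (fa_mul_zero hΨ (sg_mul_ne _ _ hbc.symm) _)
    (fa_mul_zero hΨ (sg_mul_ne _ _ hac.symm) _)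
  rwa [fa_mul_fa hΦ, sg_mul] at this

theorem good_of_one (hG : Over G) (hm : 3 ≤ m) {i : Fin t} {Φ : Matrix (Idx m t) (Idx m t) F}
    (hΦ : Com i Φ) {a b : Fin m} (hab : a ≠ b) (h : InM G (1 + fa i (sg a b) * Φ)) : Good G i Φ := by
  have hone : ∀ {p q : Fin m}, p ≠ q → InM G (1 + fa i (sg p q) * 1) := fun {p q} hpq => by
    simpa using inM_scalar hG i hpq 1
  have row : ∀ {p q r : Fin m}, p ≠ q → p ≠ r → InM G (1 + fa i (sg p q) * Φ) →
      InM G (1 + fa i (sg p r) * Φ) := fun {p q r} hpq hpr h => by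
    rcases eq_or_ne q r with rfl | hqr
    · exact h
    · simpa using inM_chain hpq hqr hpr hΦ (com_one i) h (hone hqr)
  have col : ∀ {p q r : Fin m}, p ≠ q → r ≠ q → InM G (1 + fa i (sg p q) * Φ) →
      InM G (1 + fa i (sg r q) * Φ) := fun {p q r} hpq hrq h => by
    rcases eq_or_ne r p with rfl | hrp
    · exact h
    · simpa using inM_chain hrp hpq hrq (com_one i) hΦ (hone hrp) h
  refine ⟨hΦ, fun p q hpq => ?_⟩
  rcases eq_or_ne q a with rfl | hqa
  · obtain ⟨r, hrq, hrp⟩ := exists_third hm q p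
    exact row hrp.symm hpq (col hrq.symm hrp.symm (row hab hrq.symm h))
  · exact col hqa.symm hpq (row hab hqa.symm h)

theorem Good.mul (hm : 3 ≤ m) {i : Fin t} {Φ Ψ : Matrix (Idx m t) (Idx m t) F} (h : Good G i Φ)
    (h' : Good G i Ψ) : Good G i (Φ * Ψ) := by
  refine ⟨h.1.mul h'.1, fun a b hab => ?_⟩
  obtain ⟨c, hca, hcb⟩ := exists_third hm a b
  exact inM_chain hca.symm hcb hab h.1 h'.1 (h.2 a c hca.symm) (h'.2 c b hcb)

/-- The coefficients available at a factor. -/
def goodAlg (hG : Over G) (hm : 3 ≤ m) (i : Fin t) :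
    Subalgebra F (Matrix (Idx m t) (Idx m t) F) where
  carrier := {Φ | Good G i Φ}
  mul_mem' h h' := Good.mul hm h h'
  one_mem' := ⟨com_one i, fun a b h => by simpa using inM_scalar hG i h 1⟩
  add_mem' {x y} hx hy := ⟨hx.1.add hy.1, fun a b h => by
    have h1 := (hx.2 a b h).mul (hy.2 a b h)
    rw [add_mul, one_mul, mul_add, mul_one, fa_mul_zero hx.1 (sg_mul_ne _ _ h.symm), add_zero] at h1
    rw [mul_add]
    convert h1 using 1
    abel⟩
  zero_mem' := ⟨fun X => Commute.zero_right _, fun a b _ => ⟨1, G.one_mem, by simp⟩⟩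
  algebraMap_mem' c := by
    rw [Algebra.algebraMap_eq_smul_one]
    exact ⟨com_scalar i c, fun a b h => inM_scalar hG i h c⟩

theorem exists_sl_same (hm : 3 ≤ m) (a : GL (Fin m) F) {p q : Fin m} (h : p ≠ q) :
    ∃ s : GL (Fin m) F, s.val.det = 1 ∧ conjA s (conjA a (sg p q)) = sg p q := by
  obtain ⟨r, hrp, hrq⟩ := exists_third hm p q
  let d : Fin m → F := Function.update (fun _ => 1) r a.val.det
  have hd : (Matrix.diagonal d).det = a.val.det := by
    rw [Matrix.det_diagonal]; simp [d, Finset.prod_update_of_mem]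
  let D := Matrix.GeneralLinearGroup.mkOfDetNeZero (Matrix.diagonal d)
    (by rw [hd]; exact Matrix.GeneralLinearGroup.det_ne_zero a)
  refine ⟨D * a⁻¹, ?_, ?_⟩
  · rw [Units.val_mul, Matrix.det_mul]
    show (Matrix.diagonal d).det * _ = 1
    rw [hd, ← Matrix.det_mul, Units.mul_inv, Matrix.det_one]
  · rw [conjA_mul, conjA_inv, conjA_apply]
    have e : D.val * sg p q = sg p q * D.val := by
      show Matrix.diagonal d * _ = _ * Matrix.diagonal d
      ext x y
      rw [Matrix.diagonal_mul, Matrix.mul_diagonal]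
      simp only [Matrix.single_apply]
      split_ifs with hh
      · obtain ⟨rfl, rfl⟩ := hh; simp [d, hrp.symm, hrq.symm]
      · simp
    rw [e, mul_assoc, Units.mul_inv, mul_one]

theorem Good.conj (hG : Over G) (hm : 3 ≤ m) {i : Fin t} {Φ : Matrix (Idx m t) (Idx m t) F}
    (h : Good G i Φ) {g : GL (Idx m t) F} (hg : g ∈ G) {a : GL (Fin m) F} (ha : Acts g i i a) :
    Good G i (conjA g Φ) := by
  let p : Fin m := ⟨0, by omega⟩
  let q : Fin m := ⟨1, by omega⟩
  have hpq : p ≠ q := by simp [p, q]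
  obtain ⟨s, hs, hsa⟩ := exists_sl_same hm a hpq
  have h1 := ((h.2 p q hpq).conj hg).conj (hG.sl i s hs)
  rw [map_add, map_one, map_mul, ha, map_add, map_one, map_mul, acts_fu i s, hsa,
    conjA_fu_com (ha.com h.1)] at h1
  exact good_of_one hG hm (ha.com h.1) hpq h1

/-- The displacement by an elementary matrix in one factor. -/
def disp (l : Fin t) (a b : Fin m) (Φ : Matrix (Idx m t) (Idx m t) F) : Matrix (Idx m t) (Idx m t) F :=
  fa l (sg a b) * Φ - Φ * fa l (sg a b) - fa l (sg a b) * Φ * fa l (sg a b)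

theorem disp_mul {l l' : Fin t} (h : l ≠ l') (X : Matrix (Fin m) (Fin m) F) (a b : Fin m)
    (Ψ : Matrix (Idx m t) (Idx m t) F) : disp l' a b (fa l X * Ψ) = fa l X * disp l' a b Ψ := by
  have hc := (fa_comm h X (sg a b : Matrix (Fin m) (Fin m) F)).eq
  simp only [disp, mul_sub, ← mul_assoc, hc]

theorem disp_com {l l' : Fin t} (h : l ≠ l') {Ψ : Matrix (Idx m t) (Idx m t) F} (hΨ : Com l Ψ) (a b : Fin m) :
    Com l (disp l' a b Ψ) :=
  (((com_fa h _).mul hΨ).sub (hΨ.mul (com_fa h _))).sub (((com_fa h _).mul hΨ).mul (com_fa h _))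

theorem disp_eq_conj (l : Fin t) {a b : Fin m} (h : a ≠ b) (Φ : Matrix (Idx m t) (Idx m t) F) :
    disp l a b Φ = conjA (fu l (trGL h 1)) Φ - Φ := by
  rw [conjA_apply, fu_val, fu_inv_val, trGL_val, trGL_inv_val, one_smul, map_add, map_sub, map_one, disp]
  noncomm_ring

section Extract

variable {J : Submodule F (Matrix (Idx m t) (Idx m t) F)} {l : Fin t}
  (hJ : ∀ a b, a ≠ b → ∀ Φ ∈ J, disp l a b Φ ∈ J)

include hJ in
theorem spread (hm : 3 ≤ m) {Ψ : Matrix (Idx m t) (Idx m t) F} (hΨ : Com l Ψ) {a b : Fin m} (hab : a ≠ b)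
    (h : fa l (sg a b) * Ψ ∈ J) : ∀ p q, p ≠ q → fa l (sg p q) * Ψ ∈ J := by
  have hmv : ∀ {p q r : Fin m}, q ≠ r → fa l (sg p q) * Ψ * fa l (sg q r) = fa l (sg p r) * Ψ :=
    fun {p q r} _ => by rw [mul_assoc, ← (hΨ _).eq, ← mul_assoc, ← map_mul, sg_mul]
  have row : ∀ {p q r : Fin m}, p ≠ q → p ≠ r → fa l (sg p q) * Ψ ∈ J → fa l (sg p r) * Ψ ∈ J :=
    fun {p q r} hpq hpr h => by
    rcases eq_or_ne q r with rfl | hqr
    · exact h
    have h1 := hJ q r hqr _ h
    have e : fa l (sg q r) * (fa l (sg p q) * Ψ) = 0 := by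
      rw [← mul_assoc, ← map_mul, sg_mul_ne _ _ hpr.symm, map_zero, zero_mul]
    rw [disp, e, zero_mul, sub_zero, zero_sub, hmv hqr, neg_mem_iff] at h1
    exact h1
  have col : ∀ {p q r : Fin m}, p ≠ q → r ≠ q → fa l (sg p q) * Ψ ∈ J → fa l (sg r q) * Ψ ∈ J :=
    fun {p q r} hpq hrq h => by
    rcases eq_or_ne r p with rfl | hrp
    · exact h
    have h1 := hJ r p hrp _ h
    have e : fa l (sg p q) * Ψ * fa l (sg r p) = 0 := by
      rw [mul_assoc, ← (hΨ _).eq, ← mul_assoc, ← map_mul, sg_mul_ne _ _ hrq.symm, map_zero, zero_mul]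
    rw [disp, ← mul_assoc, ← map_mul, sg_mul, e, sub_zero, mul_assoc (fa l (sg r q)), ← (hΨ _).eq,
      ← mul_assoc, ← map_mul, sg_mul_ne _ _ hrq.symm, map_zero, zero_mul, sub_zero] at h1
    exact h1
  intro p q hpq
  rcases eq_or_ne q a with rfl | hqa
  · obtain ⟨r, hrq, hrp⟩ := exists_third hm q p
    exact row hrp.symm hpq (col hrq.symm hrp.symm (row hab hrq.symm h))
  · exact col hqa.symm hpq (row hab hqa.symm h)

include hJ in
theorem extract (hm : 3 ≤ m) {Φ : Matrix (Idx m t) (Idx m t) F} (hΦ : Φ ∈ J) (hn : ¬ Com l Φ) :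
    ∃ Ψ, Ψ ≠ 0 ∧ Com l Ψ ∧ (∀ l', l' ≠ l → Com l' Φ → Com l' Ψ) ∧
      ∀ a b : Fin m, a ≠ b → fa l (sg a b) * Ψ ∈ J := by
  by_cases hoff : ∀ a b, b ≠ a → comp l Φ b a = 0
  · obtain ⟨a, b, hne⟩ : ∃ a b, comp l Φ b b - comp l Φ a a ≠ 0 := by
      by_contra hc
      push Not at hc
      refine hn (Com.of_sg fun a b => ?_)
      have hdiag : ∀ p, comp l Φ p p = comp l Φ a a := fun p => sub_eq_zero.1 (hc a p)
      have e : Φ = comp l Φ a a := by
        conv_lhs => rw [← sum_comp l Φ]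
        have : ∀ p, ∑ q, fa l (sg p q) * comp l Φ p q = fa l (sg p p) * comp l Φ a a := fun p => by
          rw [Finset.sum_eq_single p (fun q _ hq => by rw [hoff q p hq.symm, mul_zero])
            (fun h => absurd (Finset.mem_univ _) h), hdiag]
        rw [Finset.sum_congr rfl (fun p _ => this p), ← Finset.sum_mul, ← map_sum, sum_sg, map_one, one_mul]
      rw [e]
      exact comp_com l Φ a a _
    have hab : a ≠ b := by rintro rfl; simp at hne
    refine ⟨_, hne, (comp_com _ _ _ _).sub (comp_com _ _ _ _),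
      fun l' hl' h => (comp_com_other l Φ hl' h _ _).sub (comp_com_other l Φ hl' h _ _), ?_⟩
    refine spread hJ hm ((comp_com _ _ _ _).sub (comp_com _ _ _ _)) hab ?_
    have h1 := hJ a b hab Φ hΦ
    have e1 : fa l (sg a b) * Φ = fa l (sg a b) * comp l Φ b b := by
      conv_lhs => rw [← sum_comp l Φ, Finset.mul_sum]
      simp only [Finset.mul_sum, ← mul_assoc, ← map_mul]
      rw [Finset.sum_eq_single b (fun p _ hp => Finset.sum_eq_zero fun q _ => by
        rw [sg_mul_ne _ _ hp.symm, map_zero, zero_mul]) (fun h => absurd (Finset.mem_univ _) h),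
        Finset.sum_eq_single b (fun q _ hq => by rw [hoff q b hq.symm, mul_zero])
        (fun h => absurd (Finset.mem_univ _) h), sg_mul]
    have e2 : Φ * fa l (sg a b) = fa l (sg a b) * comp l Φ a a := by
      conv_lhs => rw [← sum_comp l Φ, Finset.sum_mul]
      simp only [Finset.sum_mul, mul_assoc, ← (comp_com l Φ _ _ (sg a b)).eq]
      simp only [← mul_assoc, ← map_mul]
      rw [Finset.sum_eq_single a (fun p _ hp => Finset.sum_eq_zero fun q _ => by
        rcases eq_or_ne q a with rfl | hq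
        · rw [hoff q p hp, mul_zero]
        · rw [sg_mul_ne _ _ hq, map_zero, zero_mul]) (fun h => absurd (Finset.mem_univ _) h),
        Finset.sum_eq_single a (fun q _ hq => by rw [sg_mul_ne _ _ hq, map_zero, zero_mul])
        (fun h => absurd (Finset.mem_univ _) h), sg_mul]
    have e3 : fa l (sg a b) * Φ * fa l (sg a b) = 0 := by
      rw [e1, mul_assoc, ← (comp_com l Φ b b _).eq, ← mul_assoc, ← map_mul, sg_mul_ne _ _ hab.symm,
        map_zero, zero_mul]
    rwa [disp, e3, sub_zero, e1, e2, ← mul_sub] at h1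
  · push Not at hoff
    obtain ⟨a, b, hba, hne⟩ := hoff
    obtain ⟨c, hca, hcb⟩ := exists_third hm a b
    refine ⟨_, hne, comp_com _ _ _ _, fun l' hl' h => comp_com_other l Φ hl' h _ _, ?_⟩
    refine spread hJ hm (comp_com _ _ _ _) hba.symm ?_
    set N := fa (t := t) l (sg a b : Matrix (Fin m) (Fin m) F)
    set M := fa (t := t) l (sg c b : Matrix (Fin m) (Fin m) F)
    set K := fa (t := t) l (sg a c : Matrix (Fin m) (Fin m) F)
    have hNM : N * M = 0 := by simp only [N, M, ← map_mul, sg_mul_ne _ _ hcb.symm, map_zero]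
    have hMN : M * N = 0 := by simp only [N, M, ← map_mul, sg_mul_ne _ _ hba, map_zero]
    have hKN : K * N = 0 := by simp only [N, K, ← map_mul, sg_mul_ne _ _ hca, map_zero]
    have hNK : N * K = 0 := by simp only [N, K, ← map_mul, sg_mul_ne _ _ hba, map_zero]
    have hMK : M * K = 0 := by simp only [M, K, ← map_mul, sg_mul_ne _ _ hba, map_zero]
    have hKM : K * M = N := by simp only [M, K, N, ← map_mul, sg_mul]
    have h1 := hJ a c hca.symm _ (hJ c b hcb _ (hJ a b hba.symm _ hΦ))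
    have hNM' : ∀ x, N * (M * x) = 0 := fun x => by rw [← mul_assoc, hNM, zero_mul]
    have hMN' : ∀ x, M * (N * x) = 0 := fun x => by rw [← mul_assoc, hMN, zero_mul]
    have hKN' : ∀ x, K * (N * x) = 0 := fun x => by rw [← mul_assoc, hKN, zero_mul]
    have hKM' : ∀ x, K * (M * x) = N * x := fun x => by rw [← mul_assoc, hKM]
    have hMK' : ∀ x, M * (K * x) = 0 := fun x => by rw [← mul_assoc, hMK, zero_mul]
    have hNK' : ∀ x, N * (K * x) = 0 := fun x => by rw [← mul_assoc, hNK, zero_mul]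
    have e : disp l a c (disp l c b (disp l a b Φ)) = -(N * Φ * N) := by
      show (K * ((M * (N * Φ - Φ * N - N * Φ * N) - (N * Φ - Φ * N - N * Φ * N) * M -
          M * (N * Φ - Φ * N - N * Φ * N) * M)) - (M * (N * Φ - Φ * N - N * Φ * N) -
          (N * Φ - Φ * N - N * Φ * N) * M - M * (N * Φ - Φ * N - N * Φ * N) * M) * K -
          K * (M * (N * Φ - Φ * N - N * Φ * N) - (N * Φ - Φ * N - N * Φ * N) * M -
          M * (N * Φ - Φ * N - N * Φ * N) * M) * K) = _
      simp only [mul_sub, sub_mul, mul_assoc, hNM, hMN, hKN, hNK, hMK, hKM, hNM', hMN', hKN',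
        hKM', hMK', hNK', mul_zero, zero_mul, sub_zero, zero_sub, mul_neg, neg_mul]
      abel
    rw [e, neg_mem_iff] at h1
    rw [sg_comp]
    exact h1

end Extract

/-- A non-zero space of coefficients, closed under products and stable in the remaining factors,
contains one. -/
theorem one_mem (hm : 3 ≤ m) : ∀ (S : Finset (Fin t)) (J : Submodule F (Matrix (Idx m t) (Idx m t) F)),
    (∀ Φ ∈ J, ∀ Ψ ∈ J, Φ * Ψ ∈ J) → (∀ l ∈ S, ∀ Φ ∈ J, Com l Φ) →
    (∀ l, l ∉ S → ∀ a b, a ≠ b → ∀ Φ ∈ J, disp l a b Φ ∈ J) → (∃ Φ ∈ J, Φ ≠ 0) → (1 : Matrix (Idx m t) (Idx m t) F) ∈ J := by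
  intro S
  induction hn : Sᶜ.card using Nat.strong_induction_on generalizing S with
  | _ n ih =>
  intro J hmul hcom hst ⟨Φ, hΦ, hΦ0⟩
  by_cases hall : ∀ l, Com l Φ
  · obtain ⟨c, hc⟩ := scalar_of_com (by omega) hall
    have hc0 : c ≠ 0 := fun h => hΦ0 (by rw [hc, h, zero_smul])
    have := J.smul_mem c⁻¹ hΦ
    rwa [hc, smul_smul, inv_mul_cancel₀ hc0, one_smul] at this
  push Not at hall
  obtain ⟨l, hl⟩ := hall
  have hlS : l ∉ S := fun h => hl (hcom l h Φ hΦ)
  obtain ⟨Ψ, hΨ0, hΨl, hΨo, hΨJ⟩ := extract (hst l hlS) hm hΦ hl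
  let J' : Submodule F (Matrix (Idx m t) (Idx m t) F) :=
    { carrier := {Ψ | (∀ l' ∈ insert l S, Com l' Ψ) ∧ ∀ a b : Fin m, a ≠ b → fa l (sg a b) * Ψ ∈ J}
      add_mem' := fun hx hy => ⟨fun l' h => (hx.1 l' h).add (hy.1 l' h), fun a b h => by
        rw [mul_add]; exact J.add_mem (hx.2 a b h) (hy.2 a b h)⟩
      zero_mem' := ⟨fun l' _ X => Commute.zero_right _, fun a b _ => by rw [mul_zero]; exact J.zero_mem⟩
      smul_mem' := fun c x hx => ⟨fun l' h => (hx.1 l' h).smul c, fun a b h => by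
        rw [mul_smul_comm]; exact J.smul_mem c (hx.2 a b h)⟩ }
  have hlt : (insert l S)ᶜ.card < n := by
    rw [← hn, Finset.compl_insert]
    exact Finset.card_erase_lt_of_mem (Finset.mem_compl.2 hlS)
  have h1 : (1 : Matrix (Idx m t) (Idx m t) F) ∈ J' := by
    refine ih _ hlt (insert l S) rfl J' ?_ (fun l' hl' x hx => hx.1 l' hl') ?_ ⟨Ψ, ⟨fun l' hl' => ?_, hΨJ⟩, hΨ0⟩
    · rintro x hx y hy
      refine ⟨fun l' h => (hx.1 l' h).mul (hy.1 l' h), fun a b h => ?_⟩
      obtain ⟨c, hca, hcb⟩ := exists_third hm a b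
      have := hmul _ (hx.2 a c hca.symm) _ (hy.2 c b hcb)
      rwa [fa_mul_fa (hx.1 l (Finset.mem_insert_self l S)), sg_mul] at this
    · intro l' hl' a b hab x hx
      have hl'l : l ≠ l' := fun e => hl' (e ▸ Finset.mem_insert_self l S)
      refine ⟨fun l'' h'' => disp_com (fun e => hl' (by rw [← e]; exact h'')) (hx.1 l'' h'') a b, fun p q hpq => ?_⟩
      rw [← disp_mul hl'l]
      exact hst l' (fun h => hl' (Finset.mem_insert_of_mem h)) a b hab _ (hx.2 p q hpq)
    · rcases Finset.mem_insert.1 hl' with rfl | h'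
      · exact hΨl
      · exact hΨo l' (fun e => hlS (e ▸ h')) (hcom l' h' Φ hΦ)
  have h2 : ∀ a b : Fin m, a ≠ b → fa l (sg a b) ∈ J := fun a b h => by simpa using h1.2 a b h
  rw [show (1 : Matrix (Idx m t) (Idx m t) F) = ∑ a, fa l (sg a a) by rw [← map_sum, sum_sg, map_one]]
  refine J.sum_mem fun a _ => ?_
  obtain ⟨b, hb, -⟩ := exists_third hm a a
  rw [← sg_mul a b a, map_mul]
  exact hmul _ (h2 a b hb.symm) _ (h2 b a hb)

theorem disp_good (hG : Over G) (hm : 3 ≤ m) {i l : Fin t} (hl : l ≠ i) {a b : Fin m} (hab : a ≠ b)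
    {Φ : Matrix (Idx m t) (Idx m t) F} (h : Φ ∈ goodAlg hG hm i) : disp l a b Φ ∈ goodAlg hG hm i := by
  rw [disp_eq_conj l hab]
  exact (goodAlg hG hm i).sub_mem
    (Good.conj hG hm h (hG.sl l _ (det_trGL hab 1)) (acts_fu_ne hl.symm _)) h

theorem factor_good (hG : Over G) (hm : 3 ≤ m) {i : Fin t} (hR : Rich G i) {j : Fin t} (hj : j ≠ i)
    (X : Matrix (Fin m) (Fin m) F) : fa j X ∈ goodAlg hG hm i := by
  obtain ⟨Φ, hΦ, hns⟩ := hR
  obtain ⟨l, hl⟩ : ∃ l, ¬ Com l Φ := by
    by_contra hc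
    push Not at hc
    obtain ⟨c, hc⟩ := scalar_of_com (by omega) hc
    exact hns c hc
  have hli : l ≠ i := fun e => hl (e ▸ hΦ.1)
  set J := Subalgebra.toSubmodule (goodAlg hG hm i)
  have hJ : ∀ l', l' ≠ i → ∀ a b, a ≠ b → ∀ Φ ∈ J, disp l' a b Φ ∈ J :=
    fun l' hl' a b hab x hx => disp_good hG hm hl' hab hx
  obtain ⟨Ψ, hΨ0, hΨl, hΨo, hΨJ⟩ := extract (hJ l hli) hm (show Φ ∈ J from hΦ) hl
  let J' : Submodule F (Matrix (Idx m t) (Idx m t) F) :=
    { carrier := {Ψ | (∀ l' ∈ ({i, l} : Finset (Fin t)), Com l' Ψ) ∧ ∀ a b : Fin m, a ≠ b → fa l (sg a b) * Ψ ∈ J}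
      add_mem' := fun hx hy => ⟨fun l' h => (hx.1 l' h).add (hy.1 l' h), fun a b h => by
        rw [mul_add]; exact J.add_mem (hx.2 a b h) (hy.2 a b h)⟩
      zero_mem' := ⟨fun l' _ X => Commute.zero_right _, fun a b _ => by rw [mul_zero]; exact J.zero_mem⟩
      smul_mem' := fun c x hx => ⟨fun l' h => (hx.1 l' h).smul c, fun a b h => by
        rw [mul_smul_comm]; exact J.smul_mem c (hx.2 a b h)⟩ }
  have h1 : (1 : Matrix (Idx m t) (Idx m t) F) ∈ J' := by
    refine one_mem hm {i, l} J' ?_ (fun l' hl' x hx => hx.1 l' hl') ?_ ⟨Ψ, ⟨fun l' hl' => ?_, hΨJ⟩, hΨ0⟩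
    · rintro x hx y hy
      refine ⟨fun l' h => (hx.1 l' h).mul (hy.1 l' h), fun a b h => ?_⟩
      obtain ⟨c, hca, hcb⟩ := exists_third hm a b
      have := (goodAlg hG hm i).mul_mem (hx.2 a c hca.symm) (hy.2 c b hcb)
      rwa [fa_mul_fa (hx.1 l (by simp)), sg_mul] at this
    · intro l' hl' a b hab x hx
      simp only [Finset.mem_insert, Finset.mem_singleton, not_or] at hl'
      refine ⟨fun l'' h'' => disp_com (fun e => ?_) (hx.1 l'' h'') a b, fun p q hpq => ?_⟩
      · simp only [Finset.mem_insert, Finset.mem_singleton] at h''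
        rcases h'' with rfl | rfl
        · exact hl'.1 e.symm
        · exact hl'.2 e.symm
      · rw [← disp_mul (Ne.symm hl'.2)]
        exact hJ l' hl'.1 a b hab _ (hx.2 p q hpq)
    · simp only [Finset.mem_insert, Finset.mem_singleton] at hl'
      rcases hl' with rfl | rfl
      · exact hΨo l' hli.symm hΦ.1
      · exact hΨl
  have hoff : ∀ a b : Fin m, a ≠ b → fa l (sg a b) ∈ goodAlg hG hm i := fun a b h => by
    have := h1.2 a b h
    rwa [mul_one] at this
  have hFl : ∀ Y, fa l Y ∈ goodAlg hG hm i := fun Y => by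
    rw [Matrix.matrix_eq_sum_single Y, map_sum]
    refine (goodAlg hG hm i).sum_mem fun a _ => ?_
    rw [map_sum]
    refine (goodAlg hG hm i).sum_mem fun b _ => ?_
    rw [show Matrix.single a b (Y a b) = Y a b • (sg a b : Matrix (Fin m) (Fin m) F) by simp, map_smul]
    refine (goodAlg hG hm i).smul_mem ?_ _
    rcases eq_or_ne a b with rfl | hab
    · obtain ⟨c, hc, -⟩ := exists_third hm a a
      rw [← sg_mul a c a, map_mul]
      exact (goodAlg hG hm i).mul_mem (hoff a c hc.symm) (hoff c a hc)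
    · exact hoff a b hab
  rcases eq_or_ne j l with rfl | hjl
  · exact hFl X
  have ht : 3 ≤ t := by
    have := Finset.card_le_univ ({i, j, l} : Finset (Fin t))
    rw [Finset.card_eq_three.2 ⟨i, j, l, hj.symm, hli.symm, hjl, rfl⟩, Fintype.card_fin] at this
    exact this
  obtain ⟨g, hg, hσ⟩ := hG.perm ht (Equiv.swap l j)
  obtain ⟨a, ha⟩ := hσ l
  obtain ⟨b, hb⟩ := hσ i
  rw [Equiv.swap_apply_left] at ha
  rw [Equiv.swap_apply_of_ne_of_ne hli.symm hj.symm] at hb
  have h2 := Good.conj hG hm (hFl (conjA a⁻¹ X)) hg hb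
  rw [ha, ← conjA_mul, mul_inv_cancel, conjA_one] at h2
  exact h2

theorem pureTens_eq_zero {X : Fin t → Matrix (Fin m) (Fin m) F} {j : Fin t} (h : X j = 0) :
    pureTens X = 0 := by
  ext x y
  exact Finset.prod_eq_zero (Finset.mem_univ j) (by rw [h]; rfl)

theorem inM_single (hG : Over G) (hm : 3 ≤ m) {i : Fin t} (hR : Rich G i) {x y : Idx m t} (hxy : x ≠ y)
    (c : F) : InM G (1 + c • Matrix.single x y 1) := by
  classical
  set R : Idx m t → Idx m t → Matrix (Idx m t) (Idx m t) F := fun u v =>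
    pureTens (Function.update (fun j => (sg (u j) (v j) : Matrix (Fin m) (Fin m) F)) i 1) with hRdef
  have hgood : ∀ u v, R u v ∈ goodAlg hG hm i := fun u v => pureTens_mem fun l => by
    rcases eq_or_ne l i with rfl | h
    · exact Or.inl (by simp)
    · exact Or.inr (factor_good hG hm hR h _)
  have hsplit : ∀ a b u v, fa i (sg a b) * R u v =
      pureTens (Function.update (fun j => (sg (u j) (v j) : Matrix (Fin m) (Fin m) F)) i (sg a b)) := by
    intro a b u v
    rw [fa_apply, powStd, pureTens_mul]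
    congr 1
    funext j
    rcases eq_or_ne j i with rfl | hj <;> simp [*]
  have hxyR : Matrix.single x y (1 : F) = fa i (sg (x i) (y i)) * R x y := by
    rw [hsplit, single_eq_pureTens]
    congr 1
    funext j
    rcases eq_or_ne j i with rfl | hj <;> simp [*]
  by_cases hi : x i = y i
  · obtain ⟨d, hd, -⟩ := exists_third hm (x i) (x i)
    have hA := (hgood x x).2 (x i) d hd.symm
    have hB := ((goodAlg hG hm i).smul_mem (hgood x y) c).2 d (x i) hd
    have h := hA.comm hB (fa_mul_zero (hgood x x).1 (sg_mul_ne _ _ hd) _)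
      (fa_mul_zero ((goodAlg hG hm i).smul_mem (hgood x y) c).1 (sg_mul_ne _ _ hd.symm) _) (by
        rw [fa_mul_fa ((goodAlg hG hm i).smul_mem (hgood x y) c).1, smul_mul_assoc, hRdef]
        simp only [pureTens_mul]
        obtain ⟨j, hj⟩ := Function.ne_iff.1 hxy
        have hji : j ≠ i := fun e => hj (e ▸ hi)
        rw [pureTens_eq_zero (j := j) (by simp [hji, Ne.symm hj]), smul_zero, mul_zero])
    rw [fa_mul_fa (hgood x x).1, sg_mul, mul_smul_comm, mul_smul_comm] at h
    have e : R x x * R x y = R x y := by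
      simp only [hRdef, pureTens_mul]
      congr 1
      funext j
      rcases eq_or_ne j i with rfl | hj <;> simp [*]
    rw [hxyR, ← hi]
    rwa [e] at h
  · have := ((goodAlg hG hm i).smul_mem (hgood x y) c).2 _ _ hi
    rwa [mul_smul_comm, ← hxyR] at this

/-- With a non-scalar coefficient the group contains the special linear group. -/
theorem sl_le_of_rich (hG : Over G) (hm : 3 ≤ m) {i : Fin t} (hR : Rich G i) :
    specialLinear (Idx m t) F ≤ G := by
  refine Rat0.SL_le_of_elem fun x y hxy c => ?_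
  obtain ⟨g, hg, hgv⟩ := inM_single hG hm hR hxy c
  have h0 : (c • Pi.single y 1 : Idx m t → F) ⬝ᵥ Pi.single x 1 = 0 := by simp [hxy.symm]
  refine ⟨h0, ?_⟩
  have e : tv (Pi.single x (1 : F)) (c • Pi.single y 1) h0 = g := by
    refine Units.ext ?_
    rw [coe_tv, hgv, tvMat, Matrix.vecMulVec_smul, ← Matrix.single_eq_single_vecMulVec_single]
  exact e ▸ hg

end Cfsg.Lib.Linear.TWreath
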