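import Mathlib

/-!
# Two involutions
-/

set_option autoImplicit false

namespace Cfsg.Lib.Linear.TWreath.Dihedral

variable {G : Type*} [Group G] {s b : G}

theorem s_inv (hs : s * s = 1) : s⁻¹ = s := inv_eq_of_mul_eq_one_right hs

theorem mul_mem_closure (j : ℕ) : (s * b) ^ j ∈ Subgroup.closure ({s, b} : Set G) :=
  pow_mem (mul_mem (Subgroup.subset_closure (by simp)) (Subgroup.subset_closure (by simp))) j

theorem conj_inv (hs : s * s = 1) (hb : b * b = 1) (j : ℕ) : s * (s * b) ^ j * s = ((s * b) ^ j)⁻¹ := by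
  have h1 : s * (s * b) * s⁻¹ = (s * b)⁻¹ := by
    rw [mul_inv_rev, s_inv hs, s_inv hb, ← mul_assoc, hs, one_mul]
  rw [← inv_pow, ← h1, conj_pow, s_inv hs]

theorem pow_two_mul (hs : s * s = 1) (hb : b * b = 1) (k : ℕ) :
    s * (s * b) ^ (2 * k) = ((s * b) ^ k)⁻¹ * s * (s * b) ^ k := by
  rw [two_mul, pow_add, ← conj_inv hs hb k, mul_assoc (s * (s * b) ^ k) s s, hs, mul_one, mul_assoc]

theorem pow_two_mul_add (hs : s * s = 1) (hb : b * b = 1) (k : ℕ) :
    s * (s * b) ^ (2 * k + 1) = ((s * b) ^ k)⁻¹ * b * (s * b) ^ k := by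
  rw [two_mul, show k + k + 1 = k + (1 + k) by ring, pow_add, pow_add, pow_one, ← conj_inv hs hb k]
  simp only [← mul_assoc]

/-- Involutions with product of odd order are conjugate. -/
theorem conj_of_odd (hs : s * s = 1) (hb : b * b = 1) (ho : Odd (orderOf (s * b))) :
    ∃ y ∈ Subgroup.closure ({s, b} : Set G), y * s * y⁻¹ = b := by
  obtain ⟨k, hk⟩ := ho
  refine ⟨(s * b) ^ k, mul_mem_closure k, ?_⟩
  have h := pow_two_mul_add hs hb k
  rw [← hk, pow_orderOf_eq_one, mul_one] at h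
  calc (s * b) ^ k * s * ((s * b) ^ k)⁻¹
      = (s * b) ^ k * (((s * b) ^ k)⁻¹ * b * (s * b) ^ k) * ((s * b) ^ k)⁻¹ :=
        congrArg (fun z => (s * b) ^ k * z * ((s * b) ^ k)⁻¹) h
    _ = b := by group

/-- Involutions with product of even order. -/
theorem of_even [Finite G] (hs : s * s = 1) (hb : b * b = 1) (he : Even (orderOf (s * b))) :
    ∃ (b' y c : G), y ∈ Subgroup.closure ({s, b} : Set G) ∧ b' = y * b * y⁻¹ ∧
      IsPGroup 2 (Subgroup.closure ({s, b'} : Set G)) ∧ c ∈ Subgroup.closure ({s, b'} : Set G) ∧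
      c ≠ 1 ∧ c * c = 1 ∧ Commute c s ∧ Commute c b ∧ (Commute s b' → c = s * b') := by
  set r := orderOf (s * b) with hr
  have hr0 : r ≠ 0 := (orderOf_pos (s * b)).ne'
  obtain ⟨a, o, ho, hao⟩ := Nat.exists_eq_two_pow_mul_odd hr0
  obtain ⟨k, hk⟩ := ho
  have ha : a ≠ 0 := by
    rintro rfl
    rw [hao, pow_zero, one_mul, hk] at he
    exact (Nat.not_even_iff_odd.2 ⟨k, rfl⟩) he
  obtain ⟨a', rfl⟩ := Nat.exists_eq_succ_of_ne_zero ha
  set d := s * b with hd
  set u := d ^ o with hu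
  have hou : u ^ (2 ^ (a' + 1)) = 1 := by rw [hu, ← pow_mul, mul_comm, ← hao, hr, pow_orderOf_eq_one]
  set c := d ^ (2 ^ a' * o) with hc
  have hcu : c = u ^ (2 ^ a') := by rw [hc, hu, ← pow_mul, mul_comm]
  have hcc : c * c = 1 := by
    rw [hc, ← pow_add, ← two_mul, ← mul_assoc, ← pow_succ', ← hao, hr, pow_orderOf_eq_one]
  have hc1 : c ≠ 1 := fun h => by
    have h1 : orderOf d ∣ 2 ^ a' * o := orderOf_dvd_of_pow_eq_one h
    rw [← hr, hao, pow_succ] at h1
    have hopos : 0 < o := by omega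
    have := Nat.le_of_dvd (Nat.mul_pos (by positivity) hopos) h1
    nlinarith [pow_pos (show 0 < 2 by norm_num) a', this]
  set b' := s * u with hb'
  have hb'y : b' = (d ^ k)⁻¹ * b * d ^ k := by rw [hb', hu, hk]; exact pow_two_mul_add hs hb k
  have hinv : ∀ j : ℕ, s * u ^ j * s = (u ^ j)⁻¹ := fun j => by
    rw [hu, ← pow_mul]; exact conj_inv hs hb _
  have hcs : Commute c s := by
    have h1 := hinv (2 ^ a')
    rw [← hcu, inv_eq_of_mul_eq_one_right hcc] at h1
    show c * s = s * c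
    conv_lhs => rw [← h1]
    rw [mul_assoc _ s s, hs, mul_one]
  have hcb : Commute c b := by
    have : b = s * d := by rw [hd, ← mul_assoc, hs, one_mul]
    rw [this]
    exact hcs.mul_right ((Commute.refl d).pow_left _)
  have hsm : s ∈ Subgroup.closure ({s, b'} : Set G) := Subgroup.subset_closure (by simp)
  have hum : u ∈ Subgroup.closure ({s, b'} : Set G) := by
    rw [show u = s * b' by rw [hb', ← mul_assoc, hs, one_mul]]
    exact mul_mem hsm (Subgroup.subset_closure (by simp))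
  refine ⟨b', (d ^ k)⁻¹, c, inv_mem (mul_mem_closure k), by rw [inv_inv]; exact hb'y, ?_, ?_, hc1, hcc, hcs, hcb, fun hcm => ?_⟩
  · have hZ : IsPGroup 2 (Subgroup.zpowers u) := fun x => by
      obtain ⟨_, ⟨j, rfl⟩⟩ := x
      refine ⟨a' + 1, Subtype.ext ?_⟩
      show (u ^ j) ^ (2 ^ (a' + 1)) = 1
      rw [← zpow_natCast, ← zpow_mul, mul_comm, zpow_mul, zpow_natCast, hou, one_zpow]
    have hS : IsPGroup 2 (Subgroup.zpowers s) := fun x => by
      obtain ⟨_, ⟨j, rfl⟩⟩ := x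
      refine ⟨1, Subtype.ext ?_⟩
      show (s ^ j) ^ (2 ^ 1) = 1
      rw [← zpow_natCast, ← zpow_mul, mul_comm, zpow_mul, zpow_natCast, pow_one, sq, hs, one_zpow]
    have hn : Subgroup.zpowers s ≤ Subgroup.normalizer (Subgroup.zpowers u) := by
      rw [Subgroup.zpowers_le, Subgroup.mem_normalizer_iff]
      have key : ∀ x ∈ Subgroup.zpowers u, s * x * s⁻¹ ∈ Subgroup.zpowers u := by
        rintro _ ⟨j, rfl⟩
        have h1 : s * u * s⁻¹ = u⁻¹ := by rw [s_inv hs]; simpa using hinv 1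
        show s * u ^ j * s⁻¹ ∈ _
        rw [← conj_zpow, h1]
        exact Subgroup.zpow_mem _ (Subgroup.inv_mem _ (Subgroup.mem_zpowers u)) j
      intro x
      refine ⟨key x, fun hx => ?_⟩
      have := key _ hx
      rwa [s_inv hs, ← mul_assoc, ← mul_assoc, hs, one_mul, mul_assoc, hs, mul_one] at this
    refine (IsPGroup.to_sup_of_normal_right' hS hZ hn).to_le ((Subgroup.closure_le _).2 ?_)
    rintro x (rfl | rfl)
    · exact Subgroup.mem_sup_left (Subgroup.mem_zpowers _)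
    · exact mul_mem (Subgroup.mem_sup_left (Subgroup.mem_zpowers s)) (Subgroup.mem_sup_right (Subgroup.mem_zpowers u))
  · rw [hcu]; exact pow_mem hum _
  · have hu2 : u * u = 1 := by
      have h1 : u = s * b' := by rw [hb', ← mul_assoc, hs, one_mul]
      rw [h1, hcm.symm.mul_mul_mul_comm, hs, one_mul, hb'y]
      calc (d ^ k)⁻¹ * b * d ^ k * ((d ^ k)⁻¹ * b * d ^ k) = (d ^ k)⁻¹ * (b * b) * d ^ k := by group
        _ = 1 := by rw [hb]; group
    rcases Nat.eq_zero_or_pos a' with rfl | hpos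
    · rw [hcu, pow_zero, pow_one, hb', ← mul_assoc, hs, one_mul]
    · refine absurd ?_ hc1
      obtain ⟨a'', rfl⟩ := Nat.exists_eq_add_of_le hpos
      rw [hcu, show 2 ^ (1 + a'') = 2 * 2 ^ a'' by rw [pow_add, pow_one], pow_mul, sq, hu2, one_pow]

/-- The central involution and its reflection. -/
theorem reflection [Finite G] (hs : s * s = 1) (hb : b * b = 1) (he : Even (orderOf (s * b))) :
    ∃ (c y : G), c ∈ Subgroup.closure ({s, b} : Set G) ∧ y ∈ Subgroup.closure ({s, b} : Set G) ∧ c ≠ 1 ∧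
      c * c = 1 ∧ Commute c s ∧ Commute c b ∧ (s * c = y * s * y⁻¹ ∨ s * c = y * b * y⁻¹) := by
  obtain ⟨h, hh⟩ := he
  set c := (s * b) ^ h with hc
  have hcc : c * c = 1 := by rw [hc, ← pow_add, ← hh, pow_orderOf_eq_one]
  have hpos := orderOf_pos (s * b)
  have hc1 : c ≠ 1 := fun e => by
    have := Nat.le_of_dvd (by omega) (orderOf_dvd_of_pow_eq_one e)
    omega
  have hcs : Commute c s := by
    have h1 := conj_inv hs hb h
    rw [← hc, inv_eq_of_mul_eq_one_right hcc] at h1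
    show c * s = s * c
    conv_lhs => rw [← h1]
    rw [mul_assoc _ s s, hs, mul_one]
  have hcb : Commute c b := by
    have : b = s * (s * b) := by rw [← mul_assoc, hs, one_mul]
    rw [this]
    exact hcs.mul_right ((Commute.refl _).pow_left _)
  rcases Nat.even_or_odd h with ⟨k, hk⟩ | ⟨k, hk⟩
  · refine ⟨c, ((s * b) ^ k)⁻¹, mul_mem_closure h, inv_mem (mul_mem_closure k), hc1, hcc, hcs, hcb, Or.inl ?_⟩
    rw [inv_inv, hc, hk, ← two_mul]
    exact pow_two_mul hs hb k
  · refine ⟨c, ((s * b) ^ k)⁻¹, mul_mem_closure h, inv_mem (mul_mem_closure k), hc1, hcc, hcs, hcb, Or.inr ?_⟩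
    rw [inv_inv, hc, hk]
    exact pow_two_mul_add hs hb k

end Cfsg.Lib.Linear.TWreath.Dihedral
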