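import Cfsg.Agent.Lib.Linear.TWreath.Trans
import Cfsg.Agent.Lib.Linear.TWreath.Dihedral

/-!
# Characteristic two: centralisers of involutions

A transvection and a conjugate outside the stabiliser have product of odd order, and hence the
centraliser of an involution with two classes of commuting transvections permutes the factors.
-/

set_option autoImplicit false
set_option linter.unusedSectionVars false

namespace Cfsg.Lib.Linear.TWreath

open Cfsg.Geo Cfsg.Lib.Linear.AschGen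
open scoped Matrix MatrixGroups

variable {F : Type*} [Field F] {m t : ℕ} {G : Subgroup (GL (Idx m t) F)}

theorem conjA_eq_iff {a b : GL (Fin m) F} (hm : 0 < m) (h : ∀ X, conjA a X = conjA b X) :
    ∃ c : F, a.val = c • b.val := by
  haveI : Nonempty (Fin m) := ⟨⟨0, hm⟩⟩
  set d := b⁻¹ * a with hd
  have hfix : ∀ X, conjA d X = X := fun X => by rw [hd, conjA_mul, h, conjA_inv]
  obtain ⟨c, hc⟩ := Matrix.mem_range_scalar_of_commute_single (M := d.val) fun i j _ => by
    have h1 := congrArg (· * d.val) (hfix (Matrix.single i j 1))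
    simp only [conjA_apply, mul_assoc, Units.inv_mul, mul_one] at h1
    exact h1.symm
  refine ⟨c, ?_⟩
  have e : a.val = b.val * d.val := by rw [← Units.val_mul, hd, mul_inv_cancel_left]
  rw [e, ← hc, Matrix.scalar_apply, ← Matrix.smul_one_eq_diagonal, mul_smul_comm, mul_one]

theorem Acts.unique (hm : 0 < m) {g : GL (Idx m t) F} {i j : Fin t} {a b : GL (Fin m) F} (h : Acts g i j a)
    (h' : Acts g i j b) : ∃ c : F, a.val = c • b.val :=
  conjA_eq_iff hm fun X => fa_injective hm j ((h X).symm.trans (h' X))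

theorem IsTv.acts_ne {hm : 3 ≤ m} {x : GL (Idx m t) F} {k i : Fin t} {a : GL (Fin m) F} (hx : IsTv hm x k)
    (hik : i ≠ k) (ha : Acts x i i a) : ∃ c : F, a.val = c • 1 := by
  obtain ⟨b, rfl⟩ := hx
  simpa using ha.unique (by omega) (acts_fu_ne hik _)

theorem tv0_ne_scalar (hm : 3 ≤ m) (a : GL (Fin m) F) (c : F) :
    (a * tv0 hm * a⁻¹).val ≠ c • 1 := by
  intro h
  rw [tvVal] at h
  have h1 := congrArg (conjA a⁻¹) h
  rw [map_add, map_one, conjA_inv, map_smul, map_one] at h1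
  have h2 := congrFun (congrFun h1 (p0 hm)) (p1 hm)
  simp [h01 hm] at h2

theorem isTv_mk (hm : 3 ≤ m) {M : GL (Fin m) F} {c φ : Fin m → F} (hM : M.val = 1 + Matrix.vecMulVec c φ)
    (hc : c ≠ 0) (hφ : φ ≠ 0) (h : φ ⬝ᵥ c = 0) (i : Fin t) : IsTv hm (fu i M) i := by
  obtain ⟨a, ha⟩ := exists_conj_sg (h01 hm) hc hφ h
  exact ⟨a, congrArg (fu i) (Units.ext (by rw [hM, tvVal, ha]))⟩

/-- A transvection in the given line and hyperplane. -/
theorem exists_tv (hm : 3 ≤ m) {c φ : Fin m → F} (hc : c ≠ 0) (hφ : φ ≠ 0) (h : φ ⬝ᵥ c = 0) (i : Fin t) :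
    ∃ M : GL (Fin m) F, M.val = 1 + Matrix.vecMulVec c φ ∧ IsTv hm (fu i M) i := by
  obtain ⟨a, ha⟩ := exists_conj_sg (h01 hm) hc hφ h
  exact ⟨a * tv0 hm * a⁻¹, by rw [tvVal, ha], a, rfl⟩

theorem commute_one_add {X Y : Matrix (Fin m) (Fin m) F} (h : Commute X Y) : Commute (1 + X) (1 + Y) :=
  ((Commute.one_left _).add_left ((Commute.one_right _).add_right h))

theorem commute_val {ι : Type} [Fintype ι] [DecidableEq ι] {a b : GL ι F} (h : Commute a.val b.val) :
    Commute a b := Units.ext h.eq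

theorem commute_fu {i j : Fin t} (h : i ≠ j) (A B : GL (Fin m) F) : Commute (fu i A) (fu j B) :=
  Units.ext (fa_comm h _ _).eq

theorem tv_sq (hm : 3 ≤ m) (h2 : (2 : F) = 0) (a : GL (Fin m) F) :
    a * tv0 hm * a⁻¹ * (a * tv0 hm * a⁻¹) = 1 := by
  have h : tv0 (F := F) hm * tv0 hm = 1 := by
    refine Units.ext ?_
    rw [Units.val_mul, tv0_val, Units.val_one]
    simp only [mul_add, add_mul, one_mul, mul_one, sg_mul_ne _ _ (h01 hm).symm, add_zero]
    rw [add_assoc, ← two_smul F (sg (p0 hm) (p1 hm) : Matrix (Fin m) (Fin m) F), h2, zero_smul, add_zero]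
  calc a * tv0 hm * a⁻¹ * (a * tv0 hm * a⁻¹) = a * (tv0 hm * tv0 hm) * a⁻¹ := by group
    _ = 1 := by rw [h]; group

/-- An element conjugating a transvection to a transvection carries the factor. -/
theorem tv_acts {hm : 3 ≤ m} {m0 : GL (Idx m t) F} {i j l : Fin t} {a b c : GL (Fin m) F}
    (hm0 : Acts m0 i l a) (h : m0 * fu i (b * tv0 hm * b⁻¹) * m0⁻¹ = fu j (c * tv0 hm * c⁻¹)) : l = j := by
  by_contra hne
  rw [fu_conj_of_acts hm0] at h
  obtain ⟨e, he⟩ := eq_of_fa_eq (by omega) hne (congrArg Units.val h)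
  refine tv0_ne_scalar hm (a * b) e ?_
  rw [← he]
  congr 1
  group

variable [Finite F] (C : Ctx G) (h2 : (2 : F) = 0)
include C h2

/-- The even case: a conjugate inside the stabiliser and the central involution. -/
theorem even_tv {s b : GL (Idx m t) F} {i : Fin t} (hs : IsTv C.hm s i) (hb : IsD C.hm G b)
    (he : Even (orderOf (s * b))) :
    ∃ b' y c j, y ∈ Subgroup.closure ({s, b} : Set (GL (Idx m t) F)) ∧ b' = y * b * y⁻¹ ∧ IsTv C.hm b' j ∧
      c ∈ G ∧ Commute c b ∧ Commute c s ∧ (Commute s b' → c = s * b') ∧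
      (j = i → ∃ L : GL (Fin m) F, c = fu i L ∧ L ≠ 1 ∧ L * L = 1) := by
  have hm := C.hm
  have hs2 := (hs.isD C.hov).sq h2
  obtain ⟨b', y, c, hy, hb', hp, hcc, hc1, hc2, hcs, hcb, hcm⟩ := Dihedral.of_even hs2 (hb.sq h2) he
  have hyG : y ∈ G := (Subgroup.closure_le _).2 (Set.insert_subset (hs.mem C.hov)
    (Set.singleton_subset_iff.2 (hb.mem C.hov))) hy
  have hb'D : IsD C.hm G b' := hb' ▸ hb.conj hyG
  haveI : Fact (Nat.Prime 2) := ⟨Nat.prime_two⟩
  obtain ⟨j, hj⟩ := C.isTv_of_mem hb'D (C.not_pgroup 2 hs hb'D hp)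
  have hcG : c ∈ G := (Subgroup.closure_le _).2 (Set.insert_subset (hs.mem C.hov)
    (Set.singleton_subset_iff.2 (hj.mem C.hov))) hcc
  refine ⟨b', y, c, j, hy, hb', hj, hcG, hcb, hcs, hcm, fun hji => ?_⟩
  subst hji
  obtain ⟨A, hA⟩ := hs
  obtain ⟨B, hB⟩ := hj
  have hle : Subgroup.closure ({s, b'} : Set (GL (Idx m t) F)) ≤ (fu (m := m) (F := F) j).range :=
    (Subgroup.closure_le _).2 (Set.insert_subset ⟨_, hA.symm⟩ (Set.singleton_subset_iff.2 ⟨_, hB.symm⟩))
  obtain ⟨L, hL⟩ := hle hcc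
  have hinj : Function.Injective (fu (m := m) (F := F) j) := fun X Y h =>
    Units.ext (fa_injective (by omega) j (congrArg Units.val h))
  refine ⟨L, hL.symm, fun h => hc1 (by rw [← hL, h, map_one]), hinj ?_⟩
  rw [map_mul, hL, hc2, map_one]

/-- The centraliser of two commuting transvections of different factors. -/
theorem cent_two {i j : Fin t} (hij : i ≠ j) (a₁ a₂ : GL (Fin m) F) {x : GL (Idx m t) F} (hx : x ∈ G)
    (hc : Commute x (fu i (a₁ * tv0 C.hm * a₁⁻¹) * fu j (a₂ * tv0 C.hm * a₂⁻¹))) : x ∈ mst m t F := by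
  classical
  have hm := C.hm
  by_contra hxm
  set T1 := a₁ * tv0 C.hm * a₁⁻¹ with hT1
  set T2 := a₂ * tv0 C.hm * a₂⁻¹ with hT2
  set τ1 := fu i T1 with hτ1
  set τ2 := fu j T2 with hτ2
  have h1 : IsTv C.hm τ1 i := ⟨a₁, rfl⟩
  have h2' : IsTv C.hm τ2 j := ⟨a₂, rfl⟩
  obtain ⟨r, hr0, hr1⟩ := exists_third hm (p0 hm) (p1 hm)
  set e0 : Matrix (Fin m) (Fin m) F := sg (p0 hm) r with he0
  set E := a₂ * trGL (F := F) hr0.symm 1 * a₂⁻¹ with hE
  set ε := fu j E with hε
  have hεT : IsTv C.hm ε j := by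
    obtain ⟨b, hb⟩ := exists_conj_sg (h01 hm) (c := Pi.single (p0 hm) (1 : F)) (φ := Pi.single r 1)
      (by simp) (by simp) (by simp [hr0])
    refine ⟨a₂ * b, congrArg (fu j) (Units.ext ?_)⟩
    rw [tvVal, conjA_mul, hb, val_conj, trGL_val, one_smul, map_add, map_one, sg_eq_vecMulVec]
  have hET : ∃ k, IsTv C.hm (ε * τ2) k := by
    obtain ⟨b, hb⟩ := exists_conj_sg (h01 hm) (c := Pi.single (p0 hm) (1 : F))
      (φ := Pi.single (p1 hm) 1 + Pi.single r 1) (by simp)
      (fun h => by simpa [hr1] using congrFun h r) (by simp [hr0, (h01 hm).symm, h01 hm])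
    refine ⟨j, a₂ * b, ?_⟩
    rw [hε, hτ2, ← map_mul]
    refine congrArg (fu j) ?_
    rw [hE, hT2, show a₂ * trGL hr0.symm 1 * a₂⁻¹ * (a₂ * tv0 C.hm * a₂⁻¹) =
      a₂ * (trGL hr0.symm 1 * tv0 C.hm) * a₂⁻¹ by group]
    refine Units.ext ?_
    rw [tvVal, conjA_mul, hb, val_conj, Units.val_mul, trGL_val, tv0_val, one_smul]
    conv_rhs => rw [← map_one (conjA a₂), ← map_add]
    congr 1
    rw [Matrix.vecMulVec_add, ← sg_eq_vecMulVec, ← sg_eq_vecMulVec]
    simp only [mul_add, add_mul, one_mul, mul_one, sg_mul_ne _ _ hr0, add_zero]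
    abel
  obtain ⟨k0, hk0⟩ := hET
  set l := τ1 * τ2 with hl
  have hc12 : Commute τ1 τ2 := commute_fu hij _ _
  have hc1ε : Commute τ1 ε := commute_fu hij _ _
  have hc2ε : Commute τ2 ε := by
    refine Commute.map ?_ (fu j)
    show T2 * E = E * T2
    rw [hT2, hE, show a₂ * tv0 C.hm * a₂⁻¹ * (a₂ * trGL hr0.symm 1 * a₂⁻¹) = a₂ * (tv0 C.hm * trGL hr0.symm 1) * a₂⁻¹ by group,
      show a₂ * trGL hr0.symm 1 * a₂⁻¹ * (a₂ * tv0 C.hm * a₂⁻¹) = a₂ * (trGL hr0.symm 1 * tv0 C.hm) * a₂⁻¹ by group,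
      show tv0 C.hm * trGL hr0.symm 1 = trGL (F := F) hr0.symm 1 * tv0 C.hm from (commute_val (by
        rw [tv0_val, trGL_val, one_smul]
        exact commute_one_add (by show _ = _; rw [sg_mul_ne _ _ (h01 hm).symm, sg_mul_ne _ _ hr0]))).eq]
  have hlε : Commute l ε := hc1ε.mul_left hc2ε
  have hl1 : Commute l τ1 := (Commute.refl τ1).mul_left hc12.symm
  have hτ11 : τ1 * τ1 = 1 := (h1.isD C.hov).sq h2
  have hτ22 : τ2 * τ2 = 1 := (h2'.isD C.hov).sq h2
  set b := x * τ1 * x⁻¹ with hb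
  have hbD : IsD C.hm G b := (h1.isD C.hov).conj hx
  have hbm : b ∉ mst m t F := fun h => by
    obtain ⟨k, hk⟩ := C.isTv_of_mem hbD h
    exact hxm (C.mem_of_tv hx h1 hk)
  have hlb : Commute l b := by
    rw [hb]
    exact ((hc.symm.mul_right hl1).mul_right hc.symm.inv_right)
  have hcl : ∀ y ∈ Subgroup.closure ({ε, b} : Set (GL (Idx m t) F)), y ∈ G ∧ Commute l y := fun y hy => by
    refine ⟨(Subgroup.closure_le _).2 (Set.insert_subset (hεT.mem C.hov)
      (Set.singleton_subset_iff.2 (hbD.mem C.hov))) hy, ?_⟩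
    have := (Subgroup.closure_le (Subgroup.centralizer ({l} : Set (GL (Idx m t) F)))).2
      (Set.insert_subset (Subgroup.mem_centralizer_iff.2 fun z hz => by rw [Set.mem_singleton_iff.1 hz]; exact hlε.eq)
        (Set.singleton_subset_iff.2 (Subgroup.mem_centralizer_iff.2 fun z hz => by
          rw [Set.mem_singleton_iff.1 hz]; exact hlb.eq))) hy
    exact Subgroup.mem_centralizer_iff.1 this l rfl
  -- elements of the centraliser carrying the first transvection to a transvection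
  have key : ∀ g ∈ G, Commute l g → ∀ k, IsTv C.hm (g * τ1 * g⁻¹) k →
      ∃ k', IsTv C.hm (g * τ1 * g⁻¹ * l) k' := by
    intro g hg hgl k hk
    obtain ⟨σ, hσ⟩ := C.mem_of_tv hg h1 hk
    obtain ⟨a, ha⟩ := hσ j
    refine ⟨σ j, ?_⟩
    have e : g * τ1 * g⁻¹ * l = g * τ2 * g⁻¹ := by
      have e1 : l = g * l * g⁻¹ := by rw [← hgl.eq, mul_inv_cancel_right]
      conv_lhs => arg 2; rw [e1]
      rw [hl, show g * τ1 * g⁻¹ * (g * (τ1 * τ2) * g⁻¹) = g * ((τ1 * τ1) * τ2) * g⁻¹ by group, hτ11, one_mul]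
    rw [e]
    exact h2'.conj ha
  -- a product with components in two factors is not a transvection
  have two : ∀ (A B : GL (Fin m) F) k, IsTv C.hm (fu i A * fu j B) k →
      (∀ c : F, A.val ≠ c • 1) → (∀ c : F, B.val ≠ c • 1) → False := by
    intro A B k hk hA hB
    rcases eq_or_ne i k with rfl | hik
    · obtain ⟨e, he⟩ := hk.acts_ne hij.symm ((acts_fu_ne hij.symm A).mul (acts_fu j B))
      exact hB e (by simpa using he)
    · obtain ⟨e, he⟩ := hk.acts_ne hik ((acts_fu i A).mul (acts_fu_ne hij B))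
      exact hA e (by simpa using he)
  rcases Nat.even_or_odd (orderOf (ε * b)) with he | ho
  · obtain ⟨b', y, c, k, hy, hb', hk, -, hcb, -, hcm, -⟩ := even_tv C h2 hεT hbD he
    have hb'x : b' = (y * x) * τ1 * (y * x)⁻¹ := by rw [hb', hb]; group
    have hgl : Commute l (y * x) := (hcl y hy).2.mul_right hc.symm
    obtain ⟨k', hk'⟩ := key _ (G.mul_mem (hcl y hy).1 hx) hgl k (hb'x ▸ hk)
    rw [← hb'x] at hk'
    obtain ⟨a, ha⟩ := hk
    have hsc : ∀ (X : GL (Fin m) F), X * X = 1 → ∀ e : F, (a * tv0 C.hm * a⁻¹ * X).val = e • 1 →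
        a * tv0 C.hm * a⁻¹ = X := by
      intro X hX e he
      have h3 := congrArg (· * X.val) he
      simp only [Units.val_mul, smul_mul_assoc, one_mul, mul_assoc] at h3
      rw [← Units.val_mul X X, hX, Units.val_one, mul_one] at h3
      have h4 : (a * tv0 C.hm * a⁻¹).val = e • X.val := by simpa only [Units.val_mul, mul_assoc] using h3
      have h5 := congrArg Units.val (tv_sq C.hm h2 a)
      rw [Units.val_mul, h4, smul_mul_smul_comm, ← Units.val_mul, hX, Units.val_one] at h5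
      have h6 := congrFun (congrFun h5 (p0 hm)) (p0 hm)
      simp at h6
      have h7 : (e - 1) * (e - 1) = 0 := by linear_combination h6 - e * h2 + h2
      have h8 : e = 1 := sub_eq_zero.1 (mul_self_eq_zero.1 h7)
      exact Units.ext (by rw [h4, h8, one_smul])
    rcases eq_or_ne k i with rfl | hki
    · -- the conjugate is the first transvection
      have hform : b' * l = fu k (a * tv0 C.hm * a⁻¹ * T1) * fu j T2 := by
        rw [ha, hl, hτ1, hτ2, ← mul_assoc, ← map_mul]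
      have hT : ∃ e : F, (a * tv0 C.hm * a⁻¹ * T1).val = e • 1 := by
        by_contra hne
        push Not at hne
        exact two _ _ k' (hform ▸ hk') hne (tv0_ne_scalar hm a₂)
      obtain ⟨e, he⟩ := hT
      have hb1 : b' = τ1 := by rw [ha, hτ1, hsc T1 (tv_sq C.hm h2 a₁) e he]
      have hcε : c = ε * τ1 := by rw [hcm (by rw [hb1]; exact hc1ε.symm), hb1]
      have hlc : Commute b (l * c) := hlb.symm.mul_right hcb.symm
      rw [hl, hcε, hc1ε.symm.eq, show τ1 * τ2 * (τ1 * ε) = τ1 * τ2 * τ1 * ε by group, hc12.eq,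
        mul_assoc τ2 τ1 τ1, hτ11, mul_one, hc2ε.eq] at hlc
      exact hbm (C.cent_tv (hbD.mem C.hov) hk0 hlc)
    · rcases eq_or_ne k j with rfl | hkj
      · have hform : b' * l = fu i T1 * fu k (a * tv0 C.hm * a⁻¹ * T2) := by
          rw [ha, hl, hτ1, hτ2, ← mul_assoc, (commute_fu hki _ _).eq, mul_assoc, ← map_mul]
        have hT : ∃ e : F, (a * tv0 C.hm * a⁻¹ * T2).val = e • 1 := by
          by_contra hne
          push Not at hne
          exact two _ _ k' (hform ▸ hk') (tv0_ne_scalar hm a₁) hne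
        obtain ⟨e, he⟩ := hT
        have hb1 : b' = τ2 := by rw [ha, hτ2, hsc T2 (tv_sq C.hm h2 a₂) e he]
        have hcε : c = ε * τ2 := by rw [hcm (by rw [hb1]; exact hc2ε.symm), hb1]
        exact hbm (C.cent_tv (hbD.mem C.hov) hk0 (hcε ▸ hcb.symm))
      · -- three components
        rcases eq_or_ne i k' with rfl | hik'
        · obtain ⟨e, he⟩ := hk'.acts_ne hij.symm (a := 1 * (1 * T2)) (by
            rw [ha, hl, hτ1, hτ2]
            exact (acts_fu_ne hkj.symm _).mul ((acts_fu_ne hij.symm _).mul (acts_fu j _)))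
          rw [one_mul, one_mul] at he
          exact tv0_ne_scalar hm a₂ e he
        · obtain ⟨e, he⟩ := hk'.acts_ne hik' (a := 1 * (T1 * 1)) (by
            rw [ha, hl, hτ1, hτ2]
            exact (acts_fu_ne hki.symm _).mul ((acts_fu i _).mul (acts_fu_ne hij _)))
          rw [mul_one, one_mul] at he
          exact tv0_ne_scalar hm a₁ e he
  · obtain ⟨y, hy, hyb⟩ := Dihedral.conj_of_odd ((hεT.isD C.hov).sq h2) (hbD.sq h2) ho
    set g := y⁻¹ * x with hg
    have hgε : g * τ1 * g⁻¹ = ε := by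
      calc g * τ1 * g⁻¹ = y⁻¹ * b * y := by rw [hg, hb]; group
        _ = ε := by rw [← hyb]; group
    obtain ⟨k', hk'⟩ := key g (G.mul_mem (G.inv_mem (hcl y hy).1) hx) ((hcl y hy).2.inv_right.mul_right hc.symm)
      j (by rw [hgε]; exact hεT)
    rw [hgε, hl, ← mul_assoc, hc1ε.symm.eq, mul_assoc, hε, hτ2, ← map_mul, hτ1] at hk'
    refine two T1 (E * T2) k' hk' (tv0_ne_scalar hm a₁) fun e he => ?_
    obtain ⟨d, hd⟩ := hk0
    rw [hε, hτ2, ← map_mul] at hd
    rcases eq_or_ne j k0 with rfl | hjk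
    · have h3 : E * T2 = d * tv0 C.hm * d⁻¹ := Units.ext (fa_injective (by omega) j (congrArg Units.val hd))
      exact tv0_ne_scalar hm d e (h3 ▸ he)
    · obtain ⟨e', he'⟩ := eq_of_fa_eq (by omega) hjk.symm (congrArg Units.val hd).symm
      exact tv0_ne_scalar hm d e' he'

/-- The centraliser of an involution of one factor. -/
theorem cent_one {i : Fin t} {L : GL (Fin m) F} (hL1 : L ≠ 1) (hL2 : L * L = 1) {x : GL (Idx m t) F}
    (hx : x ∈ G) (hc : Commute x (fu i L)) : x ∈ mst m t F := by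
  classical
  have hm := C.hm
  by_contra hxm
  set l := fu (t := t) i L with hl
  set N := L.val - 1 with hN
  have hNN : N * N = 0 := by
    have e : N * N = L.val * L.val - (2 : F) • L.val + 1 := by
      simp only [hN, sub_mul, mul_sub, one_mul, mul_one, two_smul]; abel
    rw [e, ← Units.val_mul, hL2, Units.val_one, h2, zero_smul, sub_zero,
      ← two_smul F (1 : Matrix (Fin m) (Fin m) F), h2, zero_smul]
  obtain ⟨p, q, hpq⟩ : ∃ p q, N p q ≠ 0 := by
    by_contra h
    push Not at h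
    exact hL1 (Units.ext (sub_eq_zero.1 (Matrix.ext h : N = 0)))
  set c := N *ᵥ Pi.single q 1 with hcv
  set φ := Pi.single p 1 ᵥ* N with hφv
  have hc0 : c ≠ 0 := fun h => hpq (by simpa [hcv] using congrFun h p)
  have hφ0 : φ ≠ 0 := fun h => hpq (by simpa [hφv] using congrFun h q)
  have hφc : φ ⬝ᵥ c = 0 := by
    rw [hφv, hcv, Matrix.dotProduct_mulVec, Matrix.vecMul_vecMul, hNN, Matrix.vecMul_zero, zero_dotProduct]
  obtain ⟨M, hM, hMT⟩ := exists_tv hm hc0 hφ0 hφc i
  have hLv : L.val = 1 + N := by rw [hN, add_sub_cancel]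
  have hlM : Commute l (fu i M) := by
    refine Commute.map (commute_val ?_) (fu i)
    rw [hLv, hM]
    refine commute_one_add ?_
    show _ = _
    rw [Matrix.mul_vecMulVec, Matrix.vecMulVec_mul, hcv, hφv, Matrix.mulVec_mulVec, Matrix.vecMul_vecMul, hNN]
    simp [Matrix.zero_mulVec, Matrix.vecMul_zero]
    exact Or.inl rfl
  have ht := C.ht
  obtain ⟨j, hji⟩ : ∃ j : Fin t, j ≠ i := by
    haveI : Nontrivial (Fin t) := Fin.nontrivial_iff_two_le.2 ht
    exact exists_ne i
  set ε := fu j (tv0 (F := F) hm) with hε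
  have hεT : IsTv C.hm ε j := ⟨1, by rw [hε]; simp⟩
  set b := x * fu i M * x⁻¹ with hb
  have hbD : IsD C.hm G b := (hMT.isD C.hov).conj hx
  have hbm : b ∉ mst m t F := fun h => by
    obtain ⟨k, hk⟩ := C.isTv_of_mem hbD h
    exact hxm (C.mem_of_tv hx hMT hk)
  have hlb : Commute l b := by
    rw [hb]
    exact (hc.symm.mul_right hlM).mul_right hc.symm.inv_right
  have hcl : ∀ y ∈ Subgroup.closure ({ε, b} : Set (GL (Idx m t) F)), y ∈ G ∧ Commute l y := fun y hy => by
    refine ⟨(Subgroup.closure_le _).2 (Set.insert_subset (hεT.mem C.hov)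
      (Set.singleton_subset_iff.2 (hbD.mem C.hov))) hy, ?_⟩
    have := (Subgroup.closure_le (Subgroup.centralizer ({l} : Set (GL (Idx m t) F)))).2
      (Set.insert_subset (Subgroup.mem_centralizer_iff.2 fun z hz => by
        rw [Set.mem_singleton_iff.1 hz]; exact (commute_fu hji.symm _ _).eq)
        (Set.singleton_subset_iff.2 (Subgroup.mem_centralizer_iff.2 fun z hz => by
          rw [Set.mem_singleton_iff.1 hz]; exact hlb.eq))) hy
    exact Subgroup.mem_centralizer_iff.1 this l rfl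
  -- the centraliser keeps the factor
  have key : ∀ g ∈ G, Commute l g → ∀ k, IsTv C.hm (g * fu i M * g⁻¹) k → k = i := by
    intro g hg hgl k hk
    obtain ⟨σ, hσ⟩ := C.mem_of_tv hg hMT hk
    obtain ⟨a, ha⟩ := hσ i
    obtain ⟨a', ha'⟩ := hMT
    obtain ⟨d, hd⟩ := hk
    rw [ha'] at hd
    have hki : σ i = k := tv_acts ha hd
    rw [← hki]
    by_contra hne
    have h1 : g * l * g⁻¹ = l := by rw [← hgl.eq, mul_inv_cancel_right]
    rw [hl, fu_conj_of_acts ha] at h1
    obtain ⟨e, he⟩ := eq_of_fa_eq (by omega) (Ne.symm hne) (congrArg Units.val h1).symm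
    refine hL1 (Units.ext ?_)
    have h5 := congrArg Units.val hL2
    rw [Units.val_mul, he, smul_mul_smul_comm, one_mul, Units.val_one] at h5
    have h6 := congrFun (congrFun h5 (p0 hm)) (p0 hm)
    simp at h6
    have h7 : (e - 1) * (e - 1) = 0 := by linear_combination h6 - e * h2 + h2
    rw [he, sub_eq_zero.1 (mul_self_eq_zero.1 h7), one_smul, Units.val_one]
  rcases Nat.even_or_odd (orderOf (ε * b)) with he | ho
  · obtain ⟨b', y, c, k, hy, hb', hk, -, hcb, -, hcm, -⟩ := even_tv C h2 hεT hbD he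
    have hb'x : b' = (y * x) * fu i M * (y * x)⁻¹ := by rw [hb', hb]; group
    obtain rfl := key _ (G.mul_mem (hcl y hy).1 hx) ((hcl y hy).2.mul_right hc.symm) k (hb'x ▸ hk)
    obtain ⟨a, ha⟩ := hk
    have hcε : c = ε * b' := hcm (by rw [ha, hε]; exact commute_fu hji _ _)
    refine hbm (cent_two C h2 hji 1 a (hbD.mem C.hov) ?_)
    simp only [inv_one, one_mul, mul_one]
    rw [← hε, ← ha, ← hcε]
    exact hcb.symm
  · obtain ⟨y, hy, hyb⟩ := Dihedral.conj_of_odd ((hεT.isD C.hov).sq h2) (hbD.sq h2) ho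
    set g := y⁻¹ * x with hg
    have hgε : g * fu i M * g⁻¹ = ε := by
      calc g * fu i M * g⁻¹ = y⁻¹ * b * y := by rw [hg, hb]; group
        _ = ε := by rw [← hyb]; group
    exact hji (key g (G.mul_mem (G.inv_mem (hcl y hy).1) hx) ((hcl y hy).2.inv_right.mul_right hc.symm) j
      (by rw [hgε]; exact hεT))

/-- A transvection and a moved conjugate are conjugate in the group they generate. -/
theorem conj_tv {s b : GL (Idx m t) F} {i : Fin t} (hs : IsTv C.hm s i) (hb : IsD C.hm G b) (hbm : b ∉ mst m t F) :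
    ∃ y ∈ Subgroup.closure ({s, b} : Set (GL (Idx m t) F)), y * s * y⁻¹ = b := by
  rcases Nat.even_or_odd (orderOf (s * b)) with he | ho
  · obtain ⟨b', y, c, j, -, -, hj, -, hcb, -, hcm, hsame⟩ := even_tv C h2 hs hb he
    exfalso
    rcases eq_or_ne j i with hji | hji
    · obtain ⟨L, hL, hL1, hL2⟩ := hsame hji
      exact hbm (cent_one C h2 hL1 hL2 (hb.mem C.hov) (hL ▸ hcb.symm))
    · obtain ⟨a, ha⟩ := hs
      obtain ⟨d, hd⟩ := hj
      have : c = s * b' := hcm (by rw [ha, hd]; exact commute_fu hji.symm _ _)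
      rw [this, ha, hd] at hcb
      exact hbm (cent_two C h2 hji.symm a d (hb.mem C.hov) hcb.symm)
  · exact Dihedral.conj_of_odd ((hs.isD C.hov).sq h2) (hb.sq h2) ho

/-- An element commuting with two classes of transvections has its centraliser permuting the factors. -/
theorem two_classes {l : GL (Idx m t) F} {σ1 σ2 : GL (Idx m t) F} {i j : Fin t} (h1 : IsTv C.hm σ1 i)
    (h2' : IsTv C.hm σ2 j) (hl1 : Commute l σ1) (hl2 : Commute l σ2)
    (hno : ∀ g ∈ mst m t F, Commute l g → g * σ1 * g⁻¹ ≠ σ2)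
    {x : GL (Idx m t) F} (hx : x ∈ G) (hc : Commute l x) : x ∈ mst m t F := by
  by_contra hxm
  set b := x * σ1 * x⁻¹ with hb
  have hbD : IsD C.hm G b := (h1.isD C.hov).conj hx
  have hbm : b ∉ mst m t F := fun h => by
    obtain ⟨k, hk⟩ := C.isTv_of_mem hbD h
    exact hxm (C.mem_of_tv hx h1 hk)
  have hlb : Commute l b := (hc.mul_right hl1).mul_right hc.inv_right
  have hcl : ∀ {σ : GL (Idx m t) F} {k : Fin t}, IsTv C.hm σ k → Commute l σ →
      ∃ y, y ∈ G ∧ Commute l y ∧ y * σ * y⁻¹ = b := fun {σ k} hσ hlσ => by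
    obtain ⟨y, hy, hyb⟩ := conj_tv C h2 hσ hbD hbm
    refine ⟨y, (Subgroup.closure_le _).2 (Set.insert_subset (hσ.mem C.hov)
      (Set.singleton_subset_iff.2 (hbD.mem C.hov))) hy, ?_, hyb⟩
    have := (Subgroup.closure_le (Subgroup.centralizer ({l} : Set (GL (Idx m t) F)))).2
      (Set.insert_subset (Subgroup.mem_centralizer_iff.2 fun z hz => by
        rw [Set.mem_singleton_iff.1 hz]; exact hlσ.eq)
        (Set.singleton_subset_iff.2 (Subgroup.mem_centralizer_iff.2 fun z hz => by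
          rw [Set.mem_singleton_iff.1 hz]; exact hlb.eq))) hy
    exact Subgroup.mem_centralizer_iff.1 this l rfl
  obtain ⟨y1, hy1, hly1, e1⟩ := hcl h1 hl1
  obtain ⟨y2, hy2, hly2, e2⟩ := hcl h2' hl2
  have e : (y2⁻¹ * y1) * σ1 * (y2⁻¹ * y1)⁻¹ = σ2 := by
    calc _ = y2⁻¹ * (y1 * σ1 * y1⁻¹) * y2 := by group
      _ = σ2 := by rw [e1, ← e2]; group
  exact hno _ (C.mem_of_tv (G.mul_mem (G.inv_mem hy2) hy1) h1 (e ▸ h2')) (hly2.inv_right.mul_right hly1) e

end Cfsg.Lib.Linear.TWreath
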