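import Cfsg.Agent.Lib.Linear.AschGen.Wreath

/-!
# Tensor factors as commuting algebras

Vocabulary for groups of invertible matrices on a tensor power: the factor algebras, their
commutants, and the elements permuting the factors.
-/

set_option autoImplicit false
set_option linter.unusedSectionVars false

namespace Cfsg.Lib.Linear.TWreath

open Cfsg.Geo Cfsg.Lib.Linear.AschGen
open scoped Matrix MatrixGroups

variable {F : Type*} [Field F] {m t : ℕ}

/-- The index set of a tensor power. -/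
abbrev Idx (m t : ℕ) : Type := Fin t → Fin m

/-- The elementary matrix. -/
abbrev sg (a b : Fin m) : Matrix (Fin m) (Fin m) F := Matrix.single a b 1

theorem sg_mul (a b c : Fin m) : (sg a b : Matrix (Fin m) (Fin m) F) * sg b c = sg a c := by
  simp

theorem sg_mul_ne {b b' : Fin m} (a c : Fin m) (h : b ≠ b') :
    (sg a b : Matrix (Fin m) (Fin m) F) * sg b' c = 0 := by simp [h]

theorem sum_sg : (∑ a : Fin m, (sg a a : Matrix (Fin m) (Fin m) F)) = 1 := by
  ext p q
  rw [Matrix.sum_apply]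
  by_cases h : p = q
  · subst h; simp [Matrix.single_apply]
  · rw [Matrix.one_apply_ne h]
    exact Finset.sum_eq_zero fun x _ => if_neg (by rintro ⟨rfl, rfl⟩; exact h rfl)

theorem sg_mul_mul (c p q d : Fin m) (X : Matrix (Fin m) (Fin m) F) :
    sg c p * X * sg q d = X p q • sg c d := by
  ext a b
  simp only [Matrix.smul_apply, smul_eq_mul, Matrix.single_apply]
  by_cases ha : c = a <;> by_cases hb : d = b
  · subst ha hb; simp
  all_goals simp [ha, hb, Ne.symm]

/-- The algebra of the `i`-th factor. -/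
def fa (i : Fin t) : Matrix (Fin m) (Fin m) F →ₐ[F] Matrix (Idx m t) (Idx m t) F :=
  AlgHom.ofLinearMap (powStdLin i) (powStd_one i) fun X Y => (powStd_mul i X Y).symm

theorem fa_apply (i : Fin t) (X : Matrix (Fin m) (Fin m) F) : fa i X = powStd i X := rfl

theorem fa_comm {i j : Fin t} (h : i ≠ j) (X Y : Matrix (Fin m) (Fin m) F) :
    Commute (fa i X) (fa j Y) := by
  show _ * _ = _ * _
  simp only [fa_apply, powStd, pureTens_mul]
  congr 1
  funext k
  rcases eq_or_ne k i with rfl | hk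
  · simp [h]
  · rcases eq_or_ne k j with rfl | hk' <;> simp [*]

theorem fa_injective (hm : 0 < m) (i : Fin t) : Function.Injective (fa (F := F) (m := m) i) := by
  intro X Y h
  ext a b
  let x : Idx m t := Function.update (fun _ => ⟨0, hm⟩) i a
  let y : Idx m t := Function.update (fun _ => ⟨0, hm⟩) i b
  have h1 := congrFun (congrFun h x) y
  rw [fa_apply, fa_apply, powStd_apply, powStd_apply, if_pos (fun j hj => by simp [x, y, hj]),
    if_pos (fun j hj => by simp [x, y, hj])] at h1
  simpa [x, y] using h1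

/-- The matrix commutes with the whole `i`-th factor. -/
def Com (i : Fin t) (Φ : Matrix (Idx m t) (Idx m t) F) : Prop :=
  ∀ X : Matrix (Fin m) (Fin m) F, Commute (fa i X) Φ

theorem Com.of_sg {i : Fin t} {Φ : Matrix (Idx m t) (Idx m t) F}
    (h : ∀ a b, Commute (fa i (sg a b)) Φ) : Com i Φ := by
  intro X
  rw [Matrix.matrix_eq_sum_single X, map_sum]
  refine Commute.sum_left _ _ _ fun a _ => ?_
  rw [map_sum]
  refine Commute.sum_left _ _ _ fun b _ => ?_
  have e : Matrix.single a b (X a b) = X a b • (sg a b : Matrix (Fin m) (Fin m) F) := by simp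
  rw [e, map_smul]
  exact (h a b).smul_left _

theorem com_fa {i j : Fin t} (h : i ≠ j) (Y : Matrix (Fin m) (Fin m) F) : Com i (fa j Y) :=
  fun X => fa_comm h X Y

theorem Com.mul {i : Fin t} {Φ Ψ : Matrix (Idx m t) (Idx m t) F} (h : Com i Φ) (h' : Com i Ψ) :
    Com i (Φ * Ψ) := fun X => (h X).mul_right (h' X)

theorem Com.add {i : Fin t} {Φ Ψ : Matrix (Idx m t) (Idx m t) F} (h : Com i Φ) (h' : Com i Ψ) :
    Com i (Φ + Ψ) := fun X => (h X).add_right (h' X)

theorem Com.sub {i : Fin t} {Φ Ψ : Matrix (Idx m t) (Idx m t) F} (h : Com i Φ) (h' : Com i Ψ) :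
    Com i (Φ - Ψ) := fun X => (h X).sub_right (h' X)

theorem Com.smul {i : Fin t} {Φ : Matrix (Idx m t) (Idx m t) F} (h : Com i Φ) (c : F) :
    Com i (c • Φ) := fun X => (h X).smul_right c

theorem com_one (i : Fin t) : Com i (1 : Matrix (Idx m t) (Idx m t) F) := fun _ => Commute.one_right _

theorem com_scalar (i : Fin t) (c : F) : Com i (c • (1 : Matrix (Idx m t) (Idx m t) F)) :=
  (com_one i).smul c

/-- A product over the factors lies in every subalgebra containing the factors. -/
theorem pureTens_mem {C : Subalgebra F (Matrix (Idx m t) (Idx m t) F)}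
    {X : Fin t → Matrix (Fin m) (Fin m) F} (h : ∀ l, X l = 1 ∨ fa l (X l) ∈ C) : pureTens X ∈ C := by
  classical
  have key : ∀ S : Finset (Fin t), (pureTens fun j => if j ∈ S then X j else 1) ∈ C := by
    intro S
    induction S using Finset.induction_on with
    | empty => simp [pureTens_one]
    | insert i S hi ih =>
      have e0 : (pureTens fun j => if j ∈ insert i S then X j else 1) =
          fa i (X i) * pureTens fun j => if j ∈ S then X j else 1 := by
        rw [fa_apply, powStd, pureTens_mul]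
        congr 1
        funext j
        rcases eq_or_ne j i with rfl | hj
        · simp [hi]
        · simp [hj]
      rw [e0]
      refine C.mul_mem ?_ ih
      rcases h i with h1 | h1
      · rw [h1, map_one]; exact C.one_mem
      · exact h1
  simpa using key Finset.univ

theorem single_eq_pureTens (x y : Idx m t) :
    Matrix.single x y (1 : F) = pureTens fun j => (sg (x j) (y j) : Matrix (Fin m) (Fin m) F) := by
  ext p q
  simp only [pureTens, Matrix.of_apply, Matrix.single_apply]
  by_cases hpq : x = p ∧ y = q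
  · obtain ⟨rfl, rfl⟩ := hpq; simp
  · rw [if_neg hpq]
    obtain ⟨j, hj⟩ : ∃ j, ¬ (x j = p j ∧ y j = q j) := by
      by_contra hne
      push Not at hne
      exact hpq ⟨funext fun j => (hne j).1, funext fun j => (hne j).2⟩
    exact (Finset.prod_eq_zero (Finset.mem_univ j) (if_neg hj)).symm

/-- The factors generate the matrix algebra. -/
theorem eq_top_of_fa_mem {C : Subalgebra F (Matrix (Idx m t) (Idx m t) F)}
    (h : ∀ l X, fa l X ∈ C) : C = ⊤ := by
  refine eq_top_iff.2 fun M _ => ?_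
  rw [Matrix.matrix_eq_sum_single M]
  refine C.sum_mem fun x _ => C.sum_mem fun y _ => ?_
  rw [show Matrix.single x y (M x y) = M x y • Matrix.single x y (1 : F) by simp, single_eq_pureTens]
  exact C.smul_mem (pureTens_mem fun l => Or.inr (h _ _)) _

/-- What commutes with every factor is a scalar. -/
theorem scalar_of_com (hm : 0 < m) {Φ : Matrix (Idx m t) (Idx m t) F} (h : ∀ l, Com l Φ) :
    ∃ c : F, Φ = c • 1 := by
  haveI : Nonempty (Idx m t) := ⟨fun _ => ⟨0, hm⟩⟩
  have htop : Subalgebra.centralizer F ({Φ} : Set (Matrix (Idx m t) (Idx m t) F)) = ⊤ :=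
    eq_top_of_fa_mem fun l X => by
      rw [Subalgebra.mem_centralizer_iff]
      rintro _ rfl
      exact ((h l X).eq).symm
  have h1 : ∀ M : Matrix (Idx m t) (Idx m t) F, Φ * M = M * Φ := fun M => by
    have hM : M ∈ Subalgebra.centralizer F ({Φ} : Set (Matrix (Idx m t) (Idx m t) F)) :=
      htop ▸ Algebra.mem_top
    exact (Subalgebra.mem_centralizer_iff F).1 hM Φ rfl
  obtain ⟨c, hc⟩ := Matrix.mem_range_scalar_of_commute_single (M := Φ)
    (fun i j _ => (h1 (Matrix.single i j 1)).symm)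
  exact ⟨c, by rw [← hc, Matrix.scalar_apply, Matrix.smul_one_eq_diagonal]⟩

section Comp

variable (i : Fin t) (Φ : Matrix (Idx m t) (Idx m t) F)

/-- The coefficients with respect to the `i`-th factor. -/
def comp (p q : Fin m) : Matrix (Idx m t) (Idx m t) F := ∑ c, fa i (sg c p) * Φ * fa i (sg q c)

theorem sg_comp (a b p q : Fin m) :
    fa i (sg a b) * comp i Φ p q = fa i (sg a p) * Φ * fa i (sg q b) := by
  rw [comp, Finset.mul_sum, Finset.sum_eq_single b (fun c _ hc => by
    rw [← mul_assoc, ← mul_assoc, ← map_mul, sg_mul_ne _ _ hc.symm, map_zero, zero_mul, zero_mul])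
    (fun h => absurd (Finset.mem_univ _) h), ← mul_assoc, ← mul_assoc, ← map_mul, sg_mul]

theorem comp_sg (a b p q : Fin m) :
    comp i Φ p q * fa i (sg a b) = fa i (sg a p) * Φ * fa i (sg q b) := by
  rw [comp, Finset.sum_mul, Finset.sum_eq_single a (fun c _ hc => by
    rw [mul_assoc _ (fa i (sg q c)), ← map_mul, sg_mul_ne _ _ hc, map_zero, mul_zero])
    (fun h => absurd (Finset.mem_univ _) h), mul_assoc _ (fa i (sg q a)), ← map_mul, sg_mul]

theorem comp_com (p q : Fin m) : Com i (comp i Φ p q) :=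
  Com.of_sg fun a b => by
    show _ * _ = _ * _
    rw [sg_comp, comp_sg]

theorem sum_comp : ∑ p, ∑ q, fa i (sg p q) * comp i Φ p q = Φ := by
  simp only [sg_comp, ← Finset.mul_sum, ← Finset.sum_mul, ← map_sum, sum_sg, map_one, one_mul, mul_one]

theorem comp_com_other {l : Fin t} (hl : l ≠ i) (h : Com l Φ) (p q : Fin m) : Com l (comp i Φ p q) := by
  intro X
  exact Commute.sum_right _ _ _ fun c _ => (((fa_comm hl _ _)).mul_right (h X)).mul_right (fa_comm hl _ _)

end Comp

theorem eq_zero_of_fa_mul {i : Fin t} {X : Matrix (Fin m) (Fin m) F} (hX : X ≠ 0)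
    {Ψ : Matrix (Idx m t) (Idx m t) F} (hΨ : Com i Ψ) (h : fa i X * Ψ = 0) : Ψ = 0 := by
  obtain ⟨p, q, hpq⟩ : ∃ p q, X p q ≠ 0 := by
    by_contra hc
    push Not at hc
    exact hX (Matrix.ext hc)
  have h1 : ∀ c, fa i (sg c c) * (X p q • Ψ) = 0 := fun c => by
    rw [mul_smul_comm, ← smul_mul_assoc, ← map_smul, ← sg_mul_mul, map_mul, map_mul,
      mul_assoc (_ * _), (hΨ (sg q c)).eq, ← mul_assoc, mul_assoc (fa i (sg c p)), h, mul_zero, zero_mul]
  have h2 := congrArg (fun s : Matrix (Fin m) (Fin m) F => fa i s * (X p q • Ψ)) (sum_sg (m := m) (F := F))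
  simp only [map_one, one_mul, map_sum, Finset.sum_mul, h1, Finset.sum_const_zero] at h2
  exact (smul_eq_zero.1 h2.symm).resolve_left hpq

/-- A factor algebra is the commutant of its commutant. -/
theorem mem_range_of_commute (hm : 0 < m) {i : Fin t} {a : Matrix (Idx m t) (Idx m t) F}
    (h : ∀ Φ, Com i Φ → Commute Φ a) : ∃ X, fa i X = a := by
  have hs : ∀ p q, ∃ c : F, comp i a p q = c • 1 := fun p q => scalar_of_com hm fun l => by
    rcases eq_or_ne l i with rfl | hl
    · exact comp_com _ _ _ _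
    · exact comp_com_other i a hl (fun X => h _ (com_fa hl.symm X)) p q
  choose c hc using hs
  refine ⟨Matrix.of c, ?_⟩
  conv_rhs => rw [← sum_comp i a]
  rw [Matrix.matrix_eq_sum_single (Matrix.of c)]
  simp only [map_sum, hc, mul_smul_comm, mul_one, ← map_smul, Matrix.smul_single, smul_eq_mul, Matrix.of_apply]

theorem eq_of_fa_eq (hm : 0 < m) {i j : Fin t} {X Y : Matrix (Fin m) (Fin m) F} (hij : i ≠ j)
    (h : fa i X = fa j Y) : ∃ c : F, X = c • 1 := by
  obtain ⟨c, hc⟩ := scalar_of_com hm (Φ := fa i X) fun l => by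
    rcases eq_or_ne l i with rfl | hl
    · rw [h]; exact com_fa hij Y
    · exact com_fa hl X
  exact ⟨c, fa_injective hm i (by rw [hc, map_smul, map_one])⟩

/-- The element `g` maps the `i`-th factor to the `j`-th one, acting as `a`. -/
def Acts (g : GL (Idx m t) F) (i j : Fin t) (a : GL (Fin m) F) : Prop :=
  ∀ X, conjA g (fa i X) = fa j (conjA a X)

theorem exists_acts (hm : 0 < m) {g : GL (Idx m t) F} {i j : Fin t}
    (h : ∀ X, ∃ Y, conjA g (fa i X) = fa j Y) : ∃ a, Acts g i j a := by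
  choose φ hφ using h
  have hg := fa_injective (F := F) hm j
  let L : Matrix (Fin m) (Fin m) F →ₗ[F] Matrix (Fin m) (Fin m) F :=
    { toFun := φ
      map_add' := fun a b => hg (by rw [← hφ, map_add, map_add, hφ, hφ, ← map_add])
      map_smul' := fun c a => hg (by rw [← hφ, map_smul, map_smul, hφ, RingHom.id_apply, ← map_smul]) }
  let Φ : Matrix (Fin m) (Fin m) F →ₐ[F] Matrix (Fin m) (Fin m) F :=
    AlgHom.ofLinearMap L (hg (by show fa j (φ 1) = _; rw [← hφ, map_one, map_one, map_one]))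
      fun a b => hg (by show fa j (φ (a * b)) = fa j (φ a * φ b); rw [← hφ, map_mul, map_mul, hφ, hφ, ← map_mul])
  have hinj : Function.Injective Φ := fun a b hab => fa_injective hm i ((conjA g).injective (by
    rw [hφ, hφ]; exact congrArg (fa j) hab))
  obtain ⟨a, ha⟩ := exists_conjA (AlgEquiv.ofBijective Φ
    ⟨hinj, LinearMap.surjective_of_injective (f := Φ.toLinearMap) hinj⟩)
  exact ⟨a, fun X => by rw [hφ]; exact congrArg (fa j) (ha X)⟩

theorem acts_one (i : Fin t) : Acts (1 : GL (Idx m t) F) i i 1 := fun X => by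
  rw [conjA_one, conjA_one]

theorem Acts.mul {g h : GL (Idx m t) F} {i j l : Fin t} {a b : GL (Fin m) F} (hg : Acts g j l a)
    (hh : Acts h i j b) : Acts (g * h) i l (a * b) := fun X => by
  rw [conjA_mul, hh, hg, conjA_mul]

theorem Acts.inv {g : GL (Idx m t) F} {i j : Fin t} {a : GL (Fin m) F} (hg : Acts g i j a) :
    Acts g⁻¹ j i a⁻¹ := fun X => by
  have h := hg (conjA a⁻¹ X)
  rw [← conjA_mul, mul_inv_cancel, conjA_one] at h
  rw [← h, conjA_inv]

theorem Acts.com {g : GL (Idx m t) F} {i j : Fin t} {a : GL (Fin m) F} (hg : Acts g i j a)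
    {Φ : Matrix (Idx m t) (Idx m t) F} (hΦ : Com i Φ) : Com j (conjA g Φ) := fun X => by
  have h := hg (conjA a⁻¹ X)
  rw [← conjA_mul, mul_inv_cancel, conjA_one] at h
  rw [← h]
  exact (hΦ _).map (conjA g)

theorem Acts.target_unique (hm : 2 ≤ m) {g : GL (Idx m t) F} {i j j' : Fin t} {a a' : GL (Fin m) F}
    (h : Acts g i j a) (h' : Acts g i j' a') : j = j' := by
  by_contra hne
  obtain ⟨c, hc⟩ := eq_of_fa_eq (by omega) hne
    ((h (sg ⟨0, by omega⟩ ⟨0, by omega⟩)).symm.trans (h' _))
  have h1 := congrArg (conjA a⁻¹) hc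
  rw [conjA_inv, map_smul, map_one] at h1
  have h2 := congrFun (congrFun h1 ⟨0, by omega⟩) ⟨0, by omega⟩
  have h3 := congrFun (congrFun h1 ⟨1, by omega⟩) ⟨1, by omega⟩
  simp [Matrix.single_apply] at h2 h3
  rw [← h3] at h2
  exact one_ne_zero h2

/-- The elements permuting the factors. -/
def mst (m t : ℕ) (F : Type*) [Field F] : Subgroup (GL (Idx m t) F) where
  carrier := {g | ∃ σ : Equiv.Perm (Fin t), ∀ i, ∃ a, Acts g i (σ i) a}
  mul_mem' {g h} hg hh := by
    obtain ⟨σ, hσ⟩ := hg
    obtain ⟨τ, hτ⟩ := hh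
    refine ⟨τ.trans σ, fun i => ?_⟩
    obtain ⟨b, hb⟩ := hτ i
    obtain ⟨a, ha⟩ := hσ (τ i)
    exact ⟨a * b, ha.mul hb⟩
  one_mem' := ⟨1, fun i => ⟨1, acts_one i⟩⟩
  inv_mem' {g} hg := by
    obtain ⟨σ, hσ⟩ := hg
    refine ⟨σ.symm, fun i => ?_⟩
    obtain ⟨a, ha⟩ := hσ (σ.symm i)
    rw [Equiv.apply_symm_apply] at ha
    exact ⟨a⁻¹, ha.inv⟩

theorem mem_mst_iff {g : GL (Idx m t) F} :
    g ∈ mst m t F ↔ ∃ σ : Equiv.Perm (Fin t), ∀ i, ∃ a, Acts g i (σ i) a := Iff.rfl

/-- An invertible matrix in one factor. -/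
def fu (i : Fin t) : GL (Fin m) F →* GL (Idx m t) F := Units.map (fa i).toRingHom.toMonoidHom

theorem fu_val (i : Fin t) (a : GL (Fin m) F) : (fu i a).val = fa i a.val := rfl

theorem fu_inv_val (i : Fin t) (a : GL (Fin m) F) : ((fu i a)⁻¹).val = fa i (a⁻¹).val := by
  rw [← map_inv]; rfl

theorem conjA_fu_com {i : Fin t} {Φ : Matrix (Idx m t) (Idx m t) F} (h : Com i Φ) (a : GL (Fin m) F) :
    conjA (fu i a) Φ = Φ := by
  rw [conjA_apply, fu_val, fu_inv_val, (h a.val).eq, mul_assoc, ← map_mul, Units.mul_inv, map_one, mul_one]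

theorem acts_fu (i : Fin t) (a : GL (Fin m) F) : Acts (fu i a) i i a := fun X => by
  rw [conjA_apply, conjA_apply, fu_val, fu_inv_val, map_mul, map_mul]

theorem acts_fu_ne {i l : Fin t} (h : l ≠ i) (a : GL (Fin m) F) : Acts (fu i a) l l 1 := fun X => by
  rw [conjA_fu_com (com_fa h.symm X), conjA_one]

theorem fu_mem_mst (i : Fin t) (a : GL (Fin m) F) : fu i a ∈ mst m t F :=
  ⟨1, fun l => by
    rcases eq_or_ne l i with rfl | h
    · exact ⟨a, acts_fu l a⟩
    · exact ⟨1, acts_fu_ne h a⟩⟩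

theorem val_conj {ι : Type} [Fintype ι] [DecidableEq ι] (g x : GL ι F) :
    (g * x * g⁻¹).val = conjA g x.val := rfl

/-- The matrix is that of an element of the group. -/
def InM (G : Subgroup (GL (Idx m t) F)) (a : Matrix (Idx m t) (Idx m t) F) : Prop :=
  ∃ g ∈ G, g.val = a

theorem InM.conj {G : Subgroup (GL (Idx m t) F)} {a : Matrix (Idx m t) (Idx m t) F} (h : InM G a)
    {g : GL (Idx m t) F} (hg : g ∈ G) : InM G (conjA g a) := by
  obtain ⟨x, hx, rfl⟩ := h
  exact ⟨g * x * g⁻¹, G.mul_mem (G.mul_mem hg hx) (G.inv_mem hg), rfl⟩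

theorem InM.mul {G : Subgroup (GL (Idx m t) F)} {a b : Matrix (Idx m t) (Idx m t) F} (h : InM G a)
    (h' : InM G b) : InM G (a * b) := by
  obtain ⟨x, hx, rfl⟩ := h
  obtain ⟨y, hy, rfl⟩ := h'
  exact ⟨x * y, G.mul_mem hx hy, rfl⟩

theorem InM.neg {G : Subgroup (GL (Idx m t) F)} {n : Matrix (Idx m t) (Idx m t) F} (h : InM G (1 + n))
    (hn : n * n = 0) : InM G (1 - n) := by
  obtain ⟨x, hx, hxn⟩ := h
  refine ⟨x⁻¹, G.inv_mem hx, left_inv_eq_right_inv (Units.inv_mul x) ?_⟩
  rw [hxn, show (1 + n) * (1 - n) = 1 - n * n by noncomm_ring, hn, sub_zero]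

theorem InM.comm {G : Subgroup (GL (Idx m t) F)} {a b : Matrix (Idx m t) (Idx m t) F} (ha : InM G (1 + a))
    (hb : InM G (1 + b)) (haa : a * a = 0) (hbb : b * b = 0) (hba : b * a = 0) : InM G (1 + a * b) := by
  have h := ((ha.mul hb).mul (ha.neg haa)).mul (hb.neg hbb)
  have e : (1 + a) * (1 + b) * (1 - a) * (1 - b) = 1 + a * b := by
    have h1 : b * (a * b) = 0 := by rw [← mul_assoc, hba, zero_mul]
    have h2 : ∀ x, a * (a * x) = 0 := fun x => by rw [← mul_assoc, haa, zero_mul]
    have h3 : ∀ x, b * (b * x) = 0 := fun x => by rw [← mul_assoc, hbb, zero_mul]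
    simp only [add_mul, mul_add, mul_sub, sub_mul, one_mul, mul_one, mul_assoc, haa, hbb, hba, h1, h2, h3,
      mul_zero, zero_mul, sub_zero, add_zero]
    abel
  rwa [e] at h

/-- A group containing the special linear group of every factor and, if there are at least three
factors, elements inducing every permutation of them. -/
structure Over (G : Subgroup (GL (Idx m t) F)) : Prop where
  sl : ∀ i (a : GL (Fin m) F), a.val.det = 1 → fu i a ∈ G
  perm : 3 ≤ t → ∀ σ : Equiv.Perm (Fin t), ∃ g ∈ G, ∀ i, ∃ a, Acts g i (σ i) a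

/-- The coefficient is available at every pair of distinct places of the factor. -/
def Good (G : Subgroup (GL (Idx m t) F)) (i : Fin t) (Φ : Matrix (Idx m t) (Idx m t) F) : Prop :=
  Com i Φ ∧ ∀ a b : Fin m, a ≠ b → InM G (1 + fa i (sg a b) * Φ)

/-- A coefficient which is not a scalar is available. -/
def Rich (G : Subgroup (GL (Idx m t) F)) (i : Fin t) : Prop :=
  ∃ Φ, Good G i Φ ∧ ∀ c : F, Φ ≠ c • 1

end Cfsg.Lib.Linear.TWreath
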