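import Cfsg.Agent.Lib.Linear.TWreath.Rank

/-!
# Elements permuting the factors with a small quadratic displacement
-/

set_option autoImplicit false
set_option linter.unusedSectionVars false

namespace Cfsg.Lib.Linear.TWreath

open Cfsg.Geo Cfsg.Lib.Linear.AschGen
open scoped Matrix MatrixGroups

variable {F : Type*} [Field F] {m t : ℕ}

/-- The first index. -/
def p0 (hm : 3 ≤ m) : Fin m := ⟨0, by omega⟩

/-- The second index. -/
def p1 (hm : 3 ≤ m) : Fin m := ⟨1, by omega⟩

theorem h01 (hm : 3 ≤ m) : p0 hm ≠ p1 hm := by simp [p0, p1]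

/-- The standard transvection. -/
noncomputable def tv0 (hm : 3 ≤ m) : GL (Fin m) F := trGL (h01 hm) 1

theorem tv0_val (hm : 3 ≤ m) : (tv0 (F := F) hm).val = 1 + sg (p0 hm) (p1 hm) := by
  rw [tv0, trGL_val, one_smul]

/-- A transvection of the `i`-th factor. -/
def IsTv (hm : 3 ≤ m) (x : GL (Idx m t) F) (i : Fin t) : Prop :=
  ∃ a, x = fu i (a * tv0 hm * a⁻¹)

/-- A conjugate of a transvection of a factor. -/
def IsD (hm : 3 ≤ m) (G : Subgroup (GL (Idx m t) F)) (x : GL (Idx m t) F) : Prop :=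
  ∃ g ∈ G, ∃ i, x = g * fu i (tv0 hm) * g⁻¹

/-- An element interchanging two factors and centralising the others. -/
def IsSw (x : GL (Idx m t) F) : Prop :=
  (2 : F) = 0 ∧ m = 3 ∧ ∃ i j, i ≠ j ∧ (∀ l, l ≠ i → l ≠ j → Com l x.val) ∧
    ∃ a b, Acts x i j a ∧ Acts x j i b

theorem sg_ne_zero (a b : Fin m) : (sg a b : Matrix (Fin m) (Fin m) F) ≠ 0 := fun e => by
  simpa using congrFun (congrFun e a) b

theorem fu_sub_one (hm : 3 ≤ m) (i : Fin t) :
    (fu i (tv0 (F := F) hm)).val - 1 = fa i (sg (p0 hm) (p1 hm)) := by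
  rw [fu_val, tv0_val, map_add, map_one, add_sub_cancel_left]

theorem isD_facts (hm : 3 ≤ m) {G : Subgroup (GL (Idx m t) F)} {x : GL (Idx m t) F} (hx : IsD hm G x) :
    (x.val - 1) * (x.val - 1) = 0 ∧
      ∀ (i : Fin t) (a : Fin m), (x.val - 1).rank = (fa i (sg a a : Matrix (Fin m) (Fin m) F)).rank := by
  obtain ⟨g, -, j, rfl⟩ := hx
  have e : (g * fu j (tv0 hm) * g⁻¹).val - 1 = conjA g (fa j (sg (p0 hm) (p1 hm))) := by
    rw [← fu_sub_one, map_sub, map_one, ← val_conj]
  refine ⟨?_, fun i a => ?_⟩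
  · rw [e, ← map_mul, ← map_mul, sg_mul_ne _ _ (h01 hm).symm, map_zero, map_zero]
  · rw [e, rank_conjA, rank_fa_sg j _ _ a, rank_fa_indep j i]

section Perm

variable (hm : 3 ≤ m) {x : GL (Idx m t) F} (hsq : (x.val - 1) * (x.val - 1) = 0)
include hm hsq

theorem inv_val_eq : (x⁻¹).val = 1 - (x.val - 1) := by
  refine left_inv_eq_right_inv (Units.inv_mul x) ?_
  have : x.val * (1 - (x.val - 1)) = 1 - (x.val - 1) * (x.val - 1) := by noncomm_ring
  rw [this, hsq, sub_zero]

/-- The permutation is trivial in odd characteristic. -/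
theorem perm_odd (h2 : (2 : F) ≠ 0) {i i' i'' : Fin t} {a b : GL (Fin m) F} (ha : Acts x i i' a)
    (hb : Acts x⁻¹ i i'' b) : i' = i := by
  by_contra hne
  have hne'' : i'' ≠ i := by
    rintro rfl
    exact hne (ha.target_unique (by omega) (by simpa using hb.inv))
  set n := x.val - 1 with hn
  have hL : ∀ X : Matrix (Fin m) (Fin m) F,
      fa i' (conjA a X) - 2 • fa i X + fa i'' (conjA b X) = -2 • (n * fa i X * n) := by
    intro X
    rw [← ha X, ← hb X, conjA_apply, conjA_apply, inv_inv, inv_val_eq hm hsq, ← hn,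
      show x.val = 1 + n by rw [hn, add_sub_cancel]]
    noncomm_ring
  have hkey : ∀ p q : Fin m, p ≠ q → i' = i'' ∧ conjA a (sg p q) + conjA b (sg p q) = 0 := by
    intro p q hpq
    set X : Matrix (Fin m) (Fin m) F := sg p q with hX
    set u := fa i' (conjA a X)
    set v := fa i X
    set w := fa i'' (conjA b X)
    have hXX : X * X = 0 := sg_mul_ne _ _ hpq.symm
    have hv : v * v = 0 := by rw [← map_mul, hXX, map_zero]
    have hu : u * u = 0 := by rw [← map_mul, ← map_mul, hXX, map_zero, map_zero]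
    have hw : w * w = 0 := by rw [← map_mul, ← map_mul, hXX, map_zero, map_zero]
    have hsq0 : (u - 2 • v + w) * (u - 2 • v + w) = 0 := by
      rw [hL X]
      have : n * fa i X * n * (n * fa i X * n) = 0 := by
        rw [mul_assoc (n * fa i X) n, ← mul_assoc n (n * fa i X), ← mul_assoc n n, hsq]
        simp
      rw [smul_mul_smul_comm, this, smul_zero]
    have huv : u * v = v * u := (fa_comm hne _ _).eq
    have hwv : w * v = v * w := (fa_comm hne'' _ _).eq
    -- multiply the square by `v`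
    have h1 : v * ((u + w) * (u + w)) = 0 := by
      have e : (u - 2 • v + w) * (u - 2 • v + w) =
          (u + w) * (u + w) - 2 • (v * u + v * w) - 2 • (u * v + w * v) + 4 • (v * v) := by noncomm_ring
      rw [e, huv, hwv, hv, smul_zero, add_zero] at hsq0
      have h4 := congrArg (v * ·) hsq0
      simp only [mul_sub, mul_smul_comm, mul_add, ← mul_assoc, hv, zero_mul, add_zero, smul_zero,
        sub_zero, mul_zero] at h4
      simpa only [← mul_assoc, mul_add] using h4
    have hX0 : X ≠ 0 := sg_ne_zero p q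
    have hA0 : ∀ c : GL (Fin m) F, conjA c X ≠ 0 := fun c => (map_ne_zero_iff _ (conjA c).injective).2 hX0
    rcases eq_or_ne i' i'' with rfl | hii
    · refine ⟨rfl, ?_⟩
      set Y := conjA a X + conjA b X with hY
      have e : u + w = fa i' Y := (map_add _ _ _).symm
      rw [e, ← map_mul] at h1
      have hYY := eq_zero_of_fa_mul (i := i) hX0 (com_fa (Ne.symm hne) _) h1
      have hYY' : Y * Y = 0 := fa_injective (by omega) i' (hYY.trans (map_zero _).symm)
      have e2 : (u - 2 • v + w) * (u - 2 • v + w) = -(4 • (v * fa i' Y)) := by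
        have : u - 2 • v + w = fa i' Y - 2 • v := by rw [← e]; abel
        rw [this, mul_sub, sub_mul, sub_mul, ← map_mul, hYY', map_zero, smul_mul_assoc, smul_mul_assoc,
          mul_smul_comm, mul_smul_comm, hv, smul_zero, smul_zero, (fa_comm hne Y X).eq]
        module
      rw [e2, neg_eq_zero] at hsq0
      have h44 : (4 : ℕ) • (v * fa i' Y) = (4 : F) • (v * fa i' Y) := by
        rw [← Nat.cast_smul_eq_nsmul F]; norm_num
      rw [h44, smul_eq_zero] at hsq0
      have h4 : (4 : F) ≠ 0 := by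
        rw [show (4 : F) = 2 * 2 by norm_num]; exact mul_ne_zero h2 h2
      have hY0 := eq_zero_of_fa_mul (i := i) hX0 (com_fa (Ne.symm hne) _) (hsq0.resolve_left h4)
      exact fa_injective (by omega) i' (hY0.trans (map_zero _).symm)
    · exfalso
      have huw : w * u = u * w := (fa_comm hii.symm _ _).eq
      rw [mul_add, add_mul, add_mul, hu, hw, huw, zero_add, add_zero, ← two_nsmul, mul_smul_comm,
        ← Nat.cast_smul_eq_nsmul F, smul_eq_zero] at h1
      have h3 := h1.resolve_left (by exact_mod_cast h2)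
      exact fa_ne_zero (by omega) i'' (hA0 b) (eq_zero_of_fa_mul (i := i') (hA0 a) (com_fa hii _)
        (eq_zero_of_fa_mul (i := i) hX0
          (((com_fa (Ne.symm hne) _)).mul (com_fa (Ne.symm hne'') _)) h3))
  obtain ⟨r, hr0, hr1⟩ := exists_third hm (p0 hm) (p1 hm)
  have hii := (hkey _ _ (h01 hm)).1
  subst hii
  have hc : ∀ p q, p ≠ q → conjA (b⁻¹ * a) (sg p q) = -(sg p q : Matrix (Fin m) (Fin m) F) := fun p q h => by
    rw [conjA_mul, eq_neg_of_add_eq_zero_left (hkey p q h).2, map_neg, conjA_inv]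
  have h3 := congrArg₂ (· * ·) (hc _ _ (h01 hm)) (hc _ _ hr1.symm)
  rw [← map_mul, neg_mul_neg, sg_mul, hc _ _ hr0.symm] at h3
  have h4 : (2 : F) • (sg (p0 hm) r : Matrix (Fin m) (Fin m) F) = 0 := by
    rw [two_smul]; nth_rewrite 1 [← h3]; rw [neg_add_cancel]
  rw [smul_eq_zero] at h4
  exact sg_ne_zero _ _ (h4.resolve_left h2)

end Perm

theorem vmv (a y x b : Fin m → F) (M : Matrix (Fin m) (Fin m) F) :
    Matrix.vecMulVec a y * M * Matrix.vecMulVec x b = (y ⬝ᵥ (M *ᵥ x)) • Matrix.vecMulVec a b := by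
  rw [Matrix.mul_assoc, Matrix.mul_vecMulVec, Matrix.vecMulVec_mul_vecMulVec, Matrix.vecMulVec_smul]

theorem vmv' (a y x b : Fin m → F) :
    Matrix.vecMulVec a y * Matrix.vecMulVec x b = (y ⬝ᵥ x) • Matrix.vecMulVec a b := by
  simpa using vmv a y x b 1

/-- A component and its complement cannot both be non-scalar. -/
theorem two_components [Finite F] (hm : 3 ≤ m) {i : Fin t} {A : Matrix (Fin m) (Fin m) F}
    {β : GL (Idx m t) F} (hβ : Com i β.val) (hA : ∀ c : F, A ≠ c • 1) (hB : ∀ c : F, β.val ≠ c • 1)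
    (hsq : (fa i A * β.val - 1) * (fa i A * β.val - 1) = 0) :
    (fa i (sg (p0 hm) (p0 hm) : Matrix (Fin m) (Fin m) F)).rank < (fa i A * β.val - 1).rank := by
  classical
  have hm0 : 0 < m := by omega
  haveI : Nonempty (Idx m t) := ⟨fun _ => p0 hm⟩
  set z := p0 hm
  set B := β.val with hBdef
  have hexp : fa i (A * A) * (B * B) - (2 : F) • (fa i A * B) + 1 = 0 := by
    rw [← hsq, map_mul]
    have : fa i A * B * (fa i A * B) = fa i A * fa i A * (B * B) := by
      rw [mul_assoc, ← mul_assoc B, ← (hβ A).eq, mul_assoc, mul_assoc]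
    simp only [sub_mul, mul_sub, one_mul, mul_one, this, two_smul]
    abel
  -- entrywise relation
  have hent : ∀ p q, (A * A) p q • (B * B) - (2 * A p q) • B + (if p = q then (1 : F) else 0) • (1 : Matrix (Idx m t) (Idx m t) F) = 0 := by
    intro p q
    have hval : ∀ (X : Matrix (Fin m) (Fin m) F) (Ψ : Matrix (Idx m t) (Idx m t) F), Com i Ψ →
        fa i (sg z p) * (fa i X * Ψ) * fa i (sg q z) = X p q • (fa i (sg z z) * Ψ) := fun X Ψ hΨ => by
      rw [← mul_assoc, mul_assoc _ Ψ, ← (hΨ _).eq, ← mul_assoc, ← map_mul, ← map_mul, sg_mul_mul, map_smul,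
        smul_mul_assoc]
    have h := congrArg (fun M => fa i (sg z p) * M * fa i (sg q z)) hexp
    rw [← mul_one (1 : Matrix (Idx m t) (Idx m t) F)] at h
    nth_rewrite 1 [← map_one (fa i)] at h
    simp only [mul_add, add_mul, mul_sub, sub_mul, mul_smul_comm, smul_mul_assoc, hval _ _ (hβ.mul hβ),
      hval _ _ hβ, hval _ _ (com_one i), mul_zero, zero_mul, smul_smul] at h
    refine eq_zero_of_fa_mul (i := i) (X := sg z z) (sg_ne_zero z z)
      ((((hβ.mul hβ).smul _).sub (hβ.smul _)).add (com_scalar i _)) ?_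
    rw [mul_add, mul_sub, mul_smul_comm, mul_smul_comm, mul_smul_comm]
    simpa [Matrix.one_apply] using h
  obtain ⟨u, v, huv⟩ : ∃ u v : F, B * B = u • B + v • 1 := by
    by_cases h : ∀ p q, (A * A) p q = 0
    · have h1 := hent z z
      rw [h, zero_smul, zero_sub, if_pos rfl, one_smul, neg_add_eq_zero] at h1
      rcases eq_or_ne (2 * A z z) 0 with h0 | h0
      · rw [h0, zero_smul] at h1; exact absurd h1.symm one_ne_zero
      · exact absurd (by rw [← h1, smul_smul, inv_mul_cancel₀ h0, one_smul]) (hB (2 * A z z)⁻¹)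
    · push Not at h
      obtain ⟨p, q, hpq⟩ := h
      refine ⟨((A * A) p q)⁻¹ * (2 * A p q), -(((A * A) p q)⁻¹ * (if p = q then 1 else 0)), ?_⟩
      have h1 := hent p q
      rw [sub_add, sub_eq_zero] at h1
      have h3 := congrArg (((A * A) p q)⁻¹ • ·) h1
      simp only [smul_sub, smul_smul, inv_mul_cancel₀ hpq, one_smul] at h3
      rw [h3, neg_smul, sub_eq_add_neg]
  have hrel : ∀ p q, (A * A) p q * u = 2 * A p q ∧ (A * A) p q * v + (if p = q then 1 else 0) = 0 := by
    intro p q
    have h1 := hent p q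
    rw [huv] at h1
    have h2 : ((A * A) p q * u - 2 * A p q) • B + ((A * A) p q * v + (if p = q then 1 else 0)) • (1 : Matrix (Idx m t) (Idx m t) F) = 0 := by
      rw [← h1]; module
    rcases eq_or_ne ((A * A) p q * u - 2 * A p q) 0 with h0 | h0
    · rw [h0, zero_smul, zero_add, smul_eq_zero] at h2
      exact ⟨sub_eq_zero.1 h0, h2.resolve_right one_ne_zero⟩
    · have h3 := eq_neg_of_add_eq_zero_left h2
      rw [← neg_smul] at h3
      exact absurd (by rw [← smul_smul, ← h3, smul_smul, inv_mul_cancel₀ h0, one_smul])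
        (hB (((A * A) p q * u - 2 * A p q)⁻¹ * -((A * A) p q * v + (if p = q then 1 else 0))))
  have hv : v ≠ 0 := fun h => by
    have := (hrel z z).2
    rw [h, mul_zero, zero_add, if_pos rfl] at this
    exact one_ne_zero this
  have hAA : A * A = (-v⁻¹) • 1 := by
    ext p q
    have h1 := (hrel p q).2
    rw [Matrix.smul_apply, smul_eq_mul]
    by_cases hpq : p = q
    · subst hpq; rw [if_pos rfl] at h1; rw [Matrix.one_apply_eq, mul_one]; field_simp; linear_combination h1
    · rw [if_neg hpq, add_zero] at h1; rw [Matrix.one_apply_ne hpq, mul_zero]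
      exact (mul_eq_zero.1 h1).resolve_right hv
  have h2 : (2 : F) = 0 := by
    by_contra h2
    refine hA ((2 : F)⁻¹ * (-v⁻¹ * u)) ?_
    ext p q
    have h1 := (hrel p q).1
    rw [hAA, Matrix.smul_apply, smul_eq_mul] at h1
    rw [Matrix.smul_apply, smul_eq_mul]
    field_simp at h1 ⊢
    linear_combination -h1
  haveI : CharP F 2 := (CharP.charP_iff_prime_eq_zero Nat.prime_two).2 (by exact_mod_cast h2)
  haveI := Fintype.ofFinite F
  obtain ⟨s, hs⟩ := FiniteField.isSquare_of_char_two (ringChar.eq F 2) (-v⁻¹)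
  have hs0 : s ≠ 0 := fun e => neg_ne_zero.2 (inv_ne_zero hv) (by rw [hs, e, mul_zero])
  set N : Matrix (Fin m) (Fin m) F := s⁻¹ • A - 1 with hN
  have hA' : A = s • (1 + N) := by rw [hN, add_sub_cancel, smul_smul, mul_inv_cancel₀ hs0, one_smul]
  have hNN : N * N = 0 := by
    have e : N * N = (s⁻¹ * s⁻¹) • (A * A) + 1 - (2 : F) • (s⁻¹ • A) := by
      simp only [hN, sub_mul, mul_sub, smul_mul_smul_comm, one_mul, mul_one, two_smul]; abel
    rw [e, h2, zero_smul, sub_zero, hAA, smul_smul, hs, show s⁻¹ * s⁻¹ * (s * s) = 1 by field_simp, one_smul,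
      ← two_smul F (1 : Matrix (Fin m) (Fin m) F), h2, zero_smul]
  set C := s • B with hC
  have hCc : Com i C := hβ.smul s
  have hC1 : ∀ c : F, C ≠ c • 1 := fun c e =>
    hB (s⁻¹ * c) (by rw [← smul_smul, ← e, hC, smul_smul, inv_mul_cancel₀ hs0, one_smul])
  have hn : fa i A * B - 1 = fa i N * C + (C - 1) := by
    rw [hA', map_smul, map_add, map_one, hC, smul_mul_assoc, add_mul, one_mul, smul_add, mul_smul_comm]
    abel
  have hN0 : N ≠ 0 := fun e => hA s (by rw [hA', e, add_zero])
  obtain ⟨u0, hu0⟩ : ∃ u0, N *ᵥ u0 ≠ 0 := by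
    by_contra h
    push Not at h
    exact hN0 (Matrix.toLin'.injective (LinearMap.ext fun w => by simpa using h w))
  set c := N *ᵥ u0 with hc
  have hNc : N *ᵥ c = 0 := by rw [hc, Matrix.mulVec_mulVec, hNN, Matrix.zero_mulVec]
  have hu0c : c ∉ Submodule.span F {u0, (0 : Fin m → F)} := fun h => by
    obtain ⟨r, w, hr⟩ := Submodule.mem_span_pair.1 h
    rw [smul_zero, add_zero] at hr
    have := congrArg (fun x => N *ᵥ x) hr
    simp only [Matrix.mulVec_smul, ← hc, hNc] at this
    rcases smul_eq_zero.1 this with h' | h'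
    · exact hu0 (by rw [← hr, h', zero_smul])
    · exact hu0 h'
  obtain ⟨w, hw, hwc⟩ : ∃ w, N *ᵥ w = 0 ∧ w ∉ Submodule.span F {u0, c} := by
    have h1 := LinearMap.finrank_range_add_finrank_ker (Matrix.toLin' N)
    rw [Module.finrank_fintype_fun_eq_card, Fintype.card_fin] at h1
    have h3 : LinearMap.range (Matrix.toLin' N) ≤ LinearMap.ker (Matrix.toLin' N) := by
      rintro _ ⟨x, rfl⟩
      simp [Matrix.mulVec_mulVec, hNN]
    have h4 := Submodule.finrank_mono h3
    by_contra h
    push Not at h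
    have h5 : LinearMap.ker (Matrix.toLin' N) ≤ Submodule.span F {c} := fun x hx => by
      have hx0 : N *ᵥ x = 0 := by simpa using hx
      obtain ⟨r, r', hr⟩ := Submodule.mem_span_pair.1 (h x hx0)
      have := congrArg (fun x => N *ᵥ x) hr
      simp only [Matrix.mulVec_add, Matrix.mulVec_smul, ← hc, hNc, smul_zero, add_zero, hx0] at this
      rw [(smul_eq_zero.1 this).resolve_right hu0, zero_smul, zero_add] at hr
      exact Submodule.mem_span_singleton.2 ⟨r', hr⟩
    have h6 := Submodule.finrank_mono h5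
    rw [finrank_span_singleton hu0] at h6
    omega
  obtain ⟨η, hηu, hηc, hηw⟩ := exists_sep hwc
  obtain ⟨ξ, hξu, -, hξc⟩ := exists_sep hu0c
  set δ := (Pi.single z (1 : F) : Fin m → F) with hδ
  set R := fa i (Matrix.vecMulVec u0 δ) with hR
  have hmulR : ∀ (y : Fin m → F) (x : Fin m → F), fa i (Matrix.vecMulVec δ y) * (fa i A * B - 1) * fa i (Matrix.vecMulVec x δ) =
      fa i (sg z z) * ((y ⬝ᵥ (N *ᵥ x)) • C + (y ⬝ᵥ x) • (C - 1)) := by
    intro y x
    rw [hn, mul_add (fa i _), add_mul _ _ (fa i _), ← mul_assoc, mul_assoc _ C, ← (hCc _).eq, ← mul_assoc,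
      mul_assoc (fa i _) (C - 1), ← ((hCc.sub (com_one i)) _).eq, ← mul_assoc]
    simp only [← map_mul, vmv, vmv', map_smul, sg_eq_vecMulVec, hδ, mul_add, mul_smul_comm, smul_mul_assoc]
  have hge : (fa i (sg z z : Matrix (Fin m) (Fin m) F)).rank ≤ ((fa i A * B - 1) * R).rank := by
    have e := hmulR ξ u0
    rw [← hc, hξc, hξu, zero_smul, add_zero, one_smul] at e
    have hCu : C * (s⁻¹ • (β⁻¹).val) = 1 := by
      rw [hC, hBdef, smul_mul_smul_comm, mul_inv_cancel₀ hs0, Units.mul_inv, one_smul]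
    have e' : fa i (sg z z) = fa i (Matrix.vecMulVec δ ξ) * ((fa i A * B - 1) * R) * (s⁻¹ • (β⁻¹).val) := by
      rw [← mul_assoc, hR, e, mul_assoc, hCu, mul_one]
    conv_lhs => rw [e']
    exact (Matrix.rank_mul_le_left _ _).trans (Matrix.rank_mul_le_right _ _)
  refine lt_of_le_of_lt hge (rank_lt (e := fa i (Matrix.vecMulVec δ η)) ?_ fun h => ?_)
  · rw [← mul_assoc, hR, hmulR, ← hc, hηc, hηu, zero_smul, zero_smul, add_zero, mul_zero]
  · have := hmulR η w
    rw [h, zero_mul, hw, dotProduct_zero, zero_smul, zero_add, hηw, one_smul] at this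
    have h0 := eq_zero_of_fa_mul (sg_ne_zero z z) (hCc.sub (com_one i)) this.symm
    exact hC1 1 (by rw [one_smul]; exact sub_eq_zero.1 h0)

/-- A single component is a transvection. -/
theorem single_component (hm : 3 ≤ m) {i : Fin t} {N : Matrix (Fin m) (Fin m) F} (hNN : N * N = 0)
    (hN : N ≠ 0) (hr : (fa i N).rank ≤ (fa i (sg (p0 hm) (p0 hm) : Matrix (Fin m) (Fin m) F)).rank) :
    ∃ a : GL (Fin m) F, conjA a (sg (p0 hm) (p1 hm)) = N := by
  classical
  set z := p0 hm
  obtain ⟨u0, hu0⟩ : ∃ u0, N *ᵥ u0 ≠ 0 := by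
    by_contra h
    push Not at h
    exact hN (Matrix.toLin'.injective (LinearMap.ext fun w => by simpa using h w))
  set c := N *ᵥ u0 with hc
  set δ := (Pi.single z (1 : F) : Fin m → F)
  have hmulR : ∀ y x : Fin m → F, fa i (Matrix.vecMulVec δ y) * fa i N * fa i (Matrix.vecMulVec x δ) =
      (y ⬝ᵥ (N *ᵥ x)) • fa i (sg z z) := fun y x => by
    simp only [← map_mul, vmv, map_smul, sg_eq_vecMulVec, δ]
  have hline : ∀ x, ∃ r : F, N *ᵥ x = r • c := by
    intro x
    by_contra h
    push Not at h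
    have hx : N *ᵥ x ∉ Submodule.span F {c, (0 : Fin m → F)} := fun hh => by
      obtain ⟨r, r', hr'⟩ := Submodule.mem_span_pair.1 hh
      rw [smul_zero, add_zero] at hr'
      exact h r hr'.symm
    obtain ⟨η, hηc, -, hηx⟩ := exists_sep hx
    obtain ⟨ξ, -, hξc⟩ := Rat0.exists_dot_pair (x := (0 : Fin m → F)) (y := c) (by simpa using hu0)
    rw [dotProduct_comm] at hξc
    have hge : (fa i (sg z z : Matrix (Fin m) (Fin m) F)).rank ≤ (fa i N * fa i (Matrix.vecMulVec u0 δ)).rank := by
      have e := hmulR ξ u0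
      rw [← hc, hξc, one_smul] at e
      conv_lhs => rw [← e, mul_assoc]
      exact Matrix.rank_mul_le_right _ _
    have hlt := rank_lt (X := fa i N) (R := fa i (Matrix.vecMulVec u0 δ)) (e := fa i (Matrix.vecMulVec δ η))
      (by rw [← mul_assoc, hmulR, ← hc, hηc, zero_smul]) fun hh => by
        have := hmulR η x
        rw [hh, zero_mul, hηx, one_smul] at this
        exact fa_ne_zero (by omega) i (sg_ne_zero z z) this.symm
    omega
  choose φ hφ using hline
  obtain ⟨ξ, -, hξc⟩ := Rat0.exists_dot_pair (x := (0 : Fin m → F)) (y := c) (by simpa using hu0)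
  rw [dotProduct_comm] at hξc
  have hNeq : N = Matrix.vecMulVec c (ξ ᵥ* N) := by
    refine Matrix.toLin'.injective (LinearMap.ext fun x => ?_)
    rw [Matrix.toLin'_apply, Matrix.toLin'_apply, Matrix.vecMulVec_mulVec, op_smul_eq_smul,
      ← Matrix.dotProduct_mulVec, hφ, dotProduct_smul, hξc, smul_eq_mul, mul_one]
  have hφc : (ξ ᵥ* N) ⬝ᵥ c = 0 := by
    rw [← Matrix.dotProduct_mulVec, hc, Matrix.mulVec_mulVec, hNN, Matrix.zero_mulVec, dotProduct_zero]
  have hφ0 : ξ ᵥ* N ≠ 0 := fun e => hN (by rw [hNeq, e]; simp)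
  obtain ⟨a, ha⟩ := exists_conj_sg (h01 hm) hu0 hφ0 hφc
  exact ⟨a, by rw [ha, ← hNeq]⟩

/-- The elements permuting the factors which look like transvections. -/
theorem classify_pure [Finite F] (hm : 3 ≤ m) {G : Subgroup (GL (Idx m t) F)} {x : GL (Idx m t) F}
    (hD : IsD hm G x) (hpure : ∀ i, ∃ a, Acts x i i a) : ∃ i, IsTv hm x i := by
  classical
  obtain ⟨hsq, hrk⟩ := isD_facts hm hD
  haveI : Nonempty (Idx m t) := ⟨fun _ => p0 hm⟩
  choose a ha using hpure
  by_cases hall : ∀ i, ∃ c : F, (a i).val = c • 1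
  · exfalso
    obtain ⟨c, hc⟩ := scalar_of_com (by omega) (Φ := x.val) fun l X => by
      obtain ⟨c, hc⟩ := hall l
      have h1 : conjA (a l) X = X := by
        have hu := Units.mul_inv (a l)
        rw [hc, smul_mul_assoc, one_mul] at hu
        rw [conjA_apply, hc, smul_mul_assoc, one_mul, smul_mul_assoc, ← mul_smul_comm, hu, mul_one]
      have h2 := ha l X
      rw [h1, conjA_apply] at h2
      have h3 := congrArg (· * x.val) h2
      simp only [mul_assoc, Units.inv_mul, mul_one] at h3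
      exact h3.symm
    obtain ⟨g, -, j, -⟩ := hD
    have hn : x.val - 1 = 0 := by
      have h1 : (x.val - 1) * (x.val - 1) = ((c - 1) * (c - 1)) • (1 : Matrix (Idx m t) (Idx m t) F) := by
        rw [hc, show (c • (1 : Matrix (Idx m t) (Idx m t) F) - 1) = (c - 1) • 1 by rw [sub_smul, one_smul],
          smul_mul_smul_comm, one_mul]
      rw [hsq] at h1
      have := mul_self_eq_zero.1 ((smul_eq_zero.1 h1.symm).resolve_right one_ne_zero)
      rw [hc, show (c • (1 : Matrix (Idx m t) (Idx m t) F) - 1) = (c - 1) • 1 by rw [sub_smul, one_smul],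
        this, zero_smul]
    have := hrk j (p0 hm)
    rw [hn, Matrix.rank_zero] at this
    exact (rank_pos_fa (by omega) j (p0 hm)).ne this
  push Not at hall
  obtain ⟨i, hi⟩ := hall
  set w := (fu i (a i))⁻¹ * x with hw
  have hwA : Acts w i i 1 := by simpa using (acts_fu i (a i)).inv.mul (ha i)
  have hwc : Com i w.val := fun X => by
    have := congrArg (· * w.val) (hwA X)
    simp only [conjA_one] at this
    simp only [conjA_apply, mul_assoc, Units.inv_mul, mul_one] at this
    exact this.symm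
  have hx : x.val = fa i (a i).val * w.val := by
    rw [← fu_val, ← Units.val_mul, hw, mul_inv_cancel_left]
  by_cases hws : ∃ c : F, w.val = c • 1
  · obtain ⟨c, hc⟩ := hws
    rw [hc, mul_smul_comm, mul_one, ← map_smul] at hx
    set N := c • (a i).val - 1 with hN
    have hxN : x.val - 1 = fa i N := by rw [hx, hN, map_sub, map_one]
    have hNN : N * N = 0 := fa_injective (by omega) i (by rw [map_mul, ← hxN, hsq, map_zero])
    have hN0 : N ≠ 0 := fun e => by
      have := hrk i (p0 hm)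
      rw [hxN, e, map_zero, Matrix.rank_zero] at this
      exact (rank_pos_fa (by omega) i (p0 hm)).ne this
    obtain ⟨b, hb⟩ := single_component hm hNN hN0 (by rw [← hxN, hrk i (p0 hm)])
    refine ⟨i, b, Units.ext ?_⟩
    rw [fu_val, Units.val_mul, Units.val_mul, tv0_val, mul_add, add_mul, mul_one, Units.mul_inv, ← conjA_apply,
      hb, hN, add_sub_cancel, hx]
  · push Not at hws
    have h1 := two_components hm hwc hi hws (by rw [← hx]; exact hsq)
    rw [← hx, hrk i (p0 hm)] at h1
    exact absurd h1 (lt_irrefl _)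

/-- A non-trivial permutation is a single interchange in characteristic two. -/
theorem classify_moved [Finite F] (hm : 3 ≤ m) {G : Subgroup (GL (Idx m t) F)} {x : GL (Idx m t) F}
    (hD : IsD hm G x) {σ : Equiv.Perm (Fin t)} (hσ : ∀ i, ∃ a, Acts x i (σ i) a) {i : Fin t} (hi : σ i ≠ i) :
    IsSw x := by
  classical
  obtain ⟨hsq, hrk⟩ := isD_facts hm hD
  choose a ha using hσ
  obtain ⟨b, hb⟩ : ∃ b, Acts x⁻¹ i (σ.symm i) b :=
    ⟨(a (σ.symm i))⁻¹, by have := (ha (σ.symm i)).inv; rwa [Equiv.apply_symm_apply] at this⟩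
  have h2 : (2 : F) = 0 := by
    by_contra h2
    exact hi (perm_odd hm hsq h2 (ha i) hb)
  have hxi : x⁻¹ = x := Units.ext (by
    rw [inv_val_eq hm hsq, sub_eq_add_neg,
      show -(x.val - 1) = x.val - 1 from neg_eq_of_add_eq_zero_left (by rw [← two_smul F, h2, zero_smul]),
      add_sub_cancel])
  set j := σ i with hj
  have hji : Acts x j i (a i)⁻¹ := by have := (ha i).inv; rwa [hxi] at this
  set q := fu (t := t) j (a i) with hq
  set x' := q⁻¹ * x * q with hx'
  have e1 : Acts x' i j 1 := by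
    have := ((acts_fu j (a i)).inv.mul (ha i)).mul (acts_fu_ne hi.symm (a i))
    simpa [hx', hq] using this
  have e2 : Acts x' j i 1 := by
    have := ((acts_fu_ne hi.symm (a i)).inv.mul hji).mul (acts_fu j (a i))
    simpa [hx', hq] using this
  have hx'x : x = q * x' * q⁻¹ := by rw [hx']; group
  have hrk' : (x'.val - 1).rank = (fa i (sg (p0 hm) (p0 hm) : Matrix (Fin m) (Fin m) F)).rank := by
    rw [← hrk i (p0 hm), hx', ← rank_conj_sub_one q⁻¹ x, inv_inv]
  -- the displacement and an edge map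
  set n := x'.val - 1 with hn
  let nx : Fin m → Fin m := fun c => ⟨(c.val + 1) % m, Nat.mod_lt _ (by omega)⟩
  have hnxv : ∀ c, (nx c).val = if c.val + 1 = m then 0 else c.val + 1 := fun c => by
    show (c.val + 1) % m = _
    split_ifs with h
    · rw [h, Nat.mod_self]
    · exact Nat.mod_eq_of_lt (by omega)
  have hnx1 : ∀ c, nx c ≠ c := fun c h => by
    have h1 := hnxv c; rw [h] at h1; split_ifs at h1 <;> omega
  have hnx2 : ∀ c, nx (nx c) ≠ c := fun c h => by
    have h1 := hnxv c
    have h2 := hnxv (nx c)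
    rw [h] at h2
    split_ifs at h1 h2 <;> omega
  set z := p0 hm
  let E : Fin m → Fin m → Fin m → Fin m → Matrix (Idx m t) (Idx m t) F :=
    fun a b c d => fa i (sg a b) * fa j (sg c d)
  have hEE : ∀ a b c d a' b' c' d', E a b c d * E a' b' c' d' =
      if b = a' ∧ d = c' then E a b' c d' else 0 := by
    intro a b c d a' b' c' d'
    simp only [E]
    rw [mul_assoc, ← mul_assoc (fa j (sg c d)), (fa_comm hi (sg c d : Matrix (Fin m) (Fin m) F) _).eq,
      mul_assoc (fa i (sg a' b')), ← mul_assoc, ← map_mul, ← map_mul]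
    by_cases h1 : b = a'
    · subst h1
      by_cases h2 : d = c'
      · subst h2; rw [sg_mul, sg_mul, if_pos ⟨rfl, rfl⟩]
      · rw [sg_mul_ne _ _ h2, map_zero, mul_zero, if_neg (fun h => h2 h.2)]
    · rw [sg_mul_ne _ _ h1, map_zero, zero_mul, if_neg (fun h => h1 h.1)]
  have hxE : ∀ a b c d, x'.val * E a b c d = E c d a b * x'.val := by
    intro a b c d
    have h1 : ∀ M : Matrix (Idx m t) (Idx m t) F, x'.val * M = conjA x' M * x'.val := fun M => by
      rw [conjA_apply, mul_assoc _ (x'⁻¹).val, Units.inv_mul, mul_one]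
    rw [h1, map_mul, e1, e2, conjA_one, conjA_one]
    simp only [E]
    rw [(fa_comm hi (sg a b : Matrix (Fin m) (Fin m) F) _).eq]
  set R := ∑ c, E c z (nx c) c with hR
  set L := ∑ c, E z c c (nx c) with hL
  have hLR : L * R = fa i (sg z z) := by
    rw [hL, hR, Finset.sum_mul]
    have : ∀ c, E z c c (nx c) * (∑ d, E d z (nx d) d) = E z z c c := fun c => by
      rw [Finset.mul_sum, Finset.sum_eq_single c (fun d _ hd => by rw [hEE, if_neg (fun h => hd h.1.symm)])
        (fun h => absurd (Finset.mem_univ _) h), hEE, if_pos ⟨rfl, rfl⟩]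
    simp only [this, E, ← Finset.mul_sum, ← map_sum, sum_sg, map_one, mul_one]
  have hLxR : L * (x'.val * R) = 0 := by
    rw [hR, Finset.mul_sum, Finset.mul_sum]
    refine Finset.sum_eq_zero fun d _ => ?_
    rw [hxE, ← mul_assoc, hL, Finset.sum_mul]
    rw [Finset.sum_eq_zero fun c _ => ?_, zero_mul]
    rw [hEE, if_neg]
    rintro ⟨h1, h3⟩
    exact hnx2 d (by rw [← h1, h3])
  have hge : (fa i (sg z z : Matrix (Fin m) (Fin m) F)).rank ≤ (n * R).rank := by
    have e : fa i (sg z z) = L * (n * R) * (-1 : Matrix (Idx m t) (Idx m t) F) := by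
      rw [hn, sub_mul, one_mul, mul_sub, hLxR, hLR, zero_sub, mul_neg, neg_mul, mul_one, neg_neg]
    conv_lhs => rw [e]
    exact (Matrix.rank_mul_le_left _ _).trans (Matrix.rank_mul_le_right _ _)
  have hkill : ∀ p q : Fin m, (∀ d, ¬ (p = d ∧ q = nx d) ∧ ¬ (p = nx d ∧ q = d)) → E z p z q * n = 0 := by
    intro p q hpq
    by_contra hne
    have h0 : E z p z q * (n * R) = 0 := by
      rw [hn, sub_mul, one_mul, hR, Finset.mul_sum, mul_sub, Finset.mul_sum, Finset.mul_sum, ← Finset.sum_sub_distrib]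
      refine Finset.sum_eq_zero fun d _ => ?_
      rw [hxE, ← mul_assoc, hEE, hEE, if_neg (hpq d).2, if_neg (hpq d).1, zero_mul, sub_zero]
    have := rank_lt h0 hne
    rw [hrk'] at this
    omega
  have hm3 : m = 3 := by
    by_contra hne
    set p2 : Fin m := ⟨2, by omega⟩ with hp2
    have h3 := hkill z p2 fun d => by
      refine ⟨?_, ?_⟩
      · rintro ⟨h1, h3⟩
        have h4 := hnxv d
        rw [← h3, ← h1] at h4
        simp only [z, p0, hp2] at h4
        split_ifs at h4; omega
      · rintro ⟨h1, h3⟩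
        have h4 := hnxv d
        rw [← h1, ← h3] at h4
        simp only [z, p0, hp2] at h4
        split_ifs at h4 <;> omega
    have h5 : E z z z p2 * n * E z z p2 z = -(E z z z z) := by
      rw [hn, mul_sub, sub_mul, mul_one, mul_assoc, hxE, ← mul_assoc, hEE, hEE, if_neg, if_pos ⟨rfl, rfl⟩,
        zero_mul, zero_sub]
      rintro ⟨h1, -⟩
      exact absurd (congrArg Fin.val h1) (by simp [z, p0, hp2])
    rw [h3, zero_mul] at h5
    exact fa_ne_zero (F := F) (by omega) i (sg_ne_zero z z) (by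
      refine eq_zero_of_fa_mul (i := j) (sg_ne_zero z z) (com_fa hi _) ?_
      rw [(fa_comm hi _ _).eq]
      exact neg_eq_zero.1 h5.symm)
  have hP : E z z z z * x'.val = E z z z z := by
    have h := hkill z z fun d => ⟨fun ⟨h1, h3⟩ => hnx1 d (by rw [← h3, h1]), fun ⟨h1, h3⟩ => hnx1 d (by rw [← h1, h3])⟩
    rwa [hn, mul_sub, mul_one, sub_eq_zero] at h
  have hfix : ∀ l, l ≠ i → l ≠ j → Com l x'.val := by
    intro l hli hlj X
    obtain ⟨c, hc⟩ : ∃ c, Acts x' l (σ l) c := by
      have hlj' : σ l ≠ j := fun h => hli (σ.injective h)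
      exact ⟨_, ((acts_fu_ne hlj' (a i)).inv.mul (ha l)).mul (acts_fu_ne hlj (a i))⟩
    have hl' : σ l ≠ i := fun h => by
      have h1 := ha l
      rw [h] at h1
      have h2 := h1.inv
      rw [hxi] at h2
      exact hlj (Acts.target_unique (by omega) h2 (ha i))
    have hl'' : σ l ≠ j := fun h => hli (σ.injective h)
    set P := E z z z z with hPdef
    have hPc : ∀ {r : Fin t}, r ≠ i → r ≠ j → ∀ M, P * fa r M = fa r M * P := fun {r} h1 h3 M => by
      simp only [hPdef, E]
      rw [mul_assoc, ← (fa_comm h3 M _).eq, ← mul_assoc, ← (fa_comm h1 M _).eq, mul_assoc]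
    have hPP : P * P = P := by rw [hPdef, hEE, if_pos ⟨rfl, rfl⟩]
    have hxP : x'.val * P = P := by rw [hPdef, hxE, hP]
    have hc' : x'.val * fa l X = fa (σ l) (conjA c X) * x'.val := by
      rw [← hc X, conjA_apply, mul_assoc _ (x'⁻¹).val, Units.inv_mul, mul_one]
    have h5 : P * (fa (σ l) (conjA c X) - fa l X) = 0 := by
      have h1 : P * (x'.val * fa l X) * P = P * (fa (σ l) (conjA c X) * x'.val) * P := by rw [hc']
      rw [← mul_assoc P x'.val, hP, ← mul_assoc P (fa (σ l) _), mul_assoc (P * fa (σ l) _) x'.val, hxP,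
        hPc hli hlj, mul_assoc (fa l X) P, hPP, hPc hl' hl'', mul_assoc (fa (σ l) _) P, hPP, ← hPc hli hlj,
        ← hPc hl' hl''] at h1
      rw [mul_sub, ← h1, sub_self]
    have h6 : fa (σ l) (conjA c X) = fa l X := by
      have hci : Com i (fa (σ l) (conjA c X) - fa l X) := (com_fa hl'.symm _).sub (com_fa hli.symm _)
      have hcj : Com j (fa (σ l) (conjA c X) - fa l X) := (com_fa hl''.symm _).sub (com_fa hlj.symm _)
      have h7 : fa i (sg z z) * (fa j (sg z z) * (fa (σ l) (conjA c X) - fa l X)) = 0 := by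
        rw [← mul_assoc]; exact h5
      exact sub_eq_zero.1 (eq_zero_of_fa_mul (sg_ne_zero z z) hcj
        (eq_zero_of_fa_mul (sg_ne_zero z z) ((com_fa hi.symm _).mul hci) h7))
    show _ = _
    rw [← h6, ← hc', h6]
  refine ⟨h2, hm3, i, j, hi.symm, fun l hli hlj => ?_, a i, _, ha i, hji⟩
  intro X
  have h1 := (hfix l hli hlj X).map (conjA q)
  rwa [conjA_fu_com (com_fa hlj.symm X), conjA_apply, ← Units.val_mul, ← Units.val_mul, ← hx'x] at h1

/-- Transvection-like elements permuting the factors are transvections or interchanges. -/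
theorem classify [Finite F] (hm : 3 ≤ m) {G : Subgroup (GL (Idx m t) F)} {x : GL (Idx m t) F}
    (hD : IsD hm G x) (hx : x ∈ mst m t F) : (∃ i, IsTv hm x i) ∨ IsSw x := by
  obtain ⟨σ, hσ⟩ := hx
  by_cases h : ∀ i, σ i = i
  · refine Or.inl (classify_pure hm hD fun i => ?_)
    obtain ⟨a, ha⟩ := hσ i
    rw [h i] at ha
    exact ⟨a, ha⟩
  · push Not at h
    obtain ⟨i, hi⟩ := h
    exact Or.inr (classify_moved hm hD hσ hi)

end Cfsg.Lib.Linear.TWreath
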