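import Cfsg.Agent.Lib.Linear.TWreath.Slab

/-!
# Removing one factor

The elements fixing a factor give a group on the tensor power with one factor fewer.
-/

set_option autoImplicit false
set_option linter.unusedSectionVars false

namespace Cfsg.Lib.Linear.TWreath

open Cfsg.Geo Cfsg.Lib.Linear.AschGen
open scoped Matrix MatrixGroups Kronecker

variable {F : Type*} [Field F] {m t : ℕ}

/-- The index set with one factor split off. -/
def cutEquiv (i : Fin (t + 1)) : Fin m × Idx m t ≃ Idx m (t + 1) :=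
  Fin.insertNthEquiv (fun _ => Fin m) i

/-- The right Kronecker factor. -/
def kronRight : Matrix (Idx m t) (Idx m t) F →ₐ[F] Matrix (Fin m × Idx m t) (Fin m × Idx m t) F :=
  AlgHom.ofLinearMap
    { toFun := fun Y => (1 : Matrix (Fin m) (Fin m) F) ⊗ₖ Y
      map_add' := fun X Y => by ext x y; simp [Matrix.kroneckerMap_apply, mul_add]
      map_smul' := fun c X => by ext x y; simp [Matrix.kroneckerMap_apply, mul_left_comm] }
    Matrix.one_kronecker_one
    fun X Y => by
      show (1 : Matrix (Fin m) (Fin m) F) ⊗ₖ (X * Y) = _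
      rw [← one_mul (1 : Matrix (Fin m) (Fin m) F), Matrix.mul_kronecker_mul, one_mul]
      rfl

/-- The commutant of the `i`-th factor as a tensor power. -/
def psi (i : Fin (t + 1)) :
    Matrix (Idx m t) (Idx m t) F →ₐ[F] Matrix (Idx m (t + 1)) (Idx m (t + 1)) F :=
  ((Matrix.reindexAlgEquiv F F (cutEquiv i)).toAlgHom).comp kronRight

theorem psi_apply (i : Fin (t + 1)) (Y : Matrix (Idx m t) (Idx m t) F) (x y : Idx m (t + 1)) :
    psi i Y x y = if x i = y i then Y (i.removeNth x) (i.removeNth y) else 0 := by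
  show ((1 : Matrix (Fin m) (Fin m) F) ⊗ₖ Y) ((cutEquiv i).symm x) ((cutEquiv i).symm y) = _
  rw [Matrix.kroneckerMap_apply]
  show (1 : Matrix (Fin m) (Fin m) F) (x i) (y i) * Y (i.removeNth x) (i.removeNth y) = _
  by_cases h : x i = y i
  · rw [if_pos h, h, Matrix.one_apply_eq, one_mul]
  · rw [if_neg h, Matrix.one_apply_ne h, zero_mul]

theorem psi_fa (i : Fin (t + 1)) (j : Fin t) (X : Matrix (Fin m) (Fin m) F) :
    psi i (fa j X) = fa (i.succAbove j) X := by
  ext x y
  rw [psi_apply, fa_apply, fa_apply, powStd_apply, powStd_apply]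
  have hiff : (∀ l, l ≠ i.succAbove j → x l = y l) ↔
      x i = y i ∧ ∀ l, l ≠ j → i.removeNth x l = i.removeNth y l := by
    rw [Fin.forall_iff_succAbove i]
    refine and_congr ⟨fun h => h (Fin.succAbove_ne i j).symm, fun h _ => h⟩ (forall_congr' fun l => ?_)
    rw [Fin.succAbove_right_injective.ne_iff]
    rfl
  simp only [hiff]
  by_cases h1 : x i = y i
  · simp only [h1, if_true, true_and]
    rfl
  · simp [h1]

theorem psi_injective (hm : 0 < m) (i : Fin (t + 1)) :
    Function.Injective (psi (F := F) (m := m) i) := by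
  intro X Y h
  ext a b
  have h1 := congrFun (congrFun h (i.insertNth (⟨0, hm⟩ : Fin m) a)) (i.insertNth (⟨0, hm⟩ : Fin m) b)
  simpa [psi_apply] using h1

theorem com_psi (i : Fin (t + 1)) (Y : Matrix (Idx m t) (Idx m t) F) : Com i (psi i Y) := by
  have htop : (Subalgebra.centralizer F (Set.range (fa (F := F) (m := m) i))).comap (psi i) = ⊤ :=
    eq_top_of_fa_mem fun l X => by
      rw [Subalgebra.mem_comap, Subalgebra.mem_centralizer_iff, psi_fa]
      rintro _ ⟨Z, rfl⟩
      exact (fa_comm (Fin.succAbove_ne i l).symm Z X).eq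
  intro X
  have h : Y ∈ (Subalgebra.centralizer F (Set.range (fa (F := F) (m := m) i))).comap (psi i) :=
    htop ▸ Algebra.mem_top
  exact (Subalgebra.mem_centralizer_iff F).1 h _ ⟨X, rfl⟩

theorem exists_psi (hm : 0 < m) (i : Fin (t + 1)) {Φ : Matrix (Idx m (t + 1)) (Idx m (t + 1)) F}
    (h : Com i Φ) : ∃ Y, psi i Y = Φ := by
  set z : Fin m := ⟨0, hm⟩
  have hfix : comp i Φ z z = Φ := by
    simp only [comp, (h _).eq, mul_assoc, ← map_mul, sg_mul, ← Finset.mul_sum, ← map_sum, sum_sg,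
      map_one, mul_one]
  set R : Subalgebra F (Matrix (Idx m (t + 1)) (Idx m (t + 1)) F) := (psi (F := F) (m := m) i).range with hR
  let P : Submodule F (Matrix (Idx m (t + 1)) (Idx m (t + 1)) F) :=
    { carrier := {M | comp i M z z ∈ R}
      add_mem' := fun {a b} ha hb => by
        show comp i (a + b) z z ∈ R
        have : comp i (a + b) z z = comp i a z z + comp i b z z := by
          simp only [comp, mul_add, add_mul, Finset.sum_add_distrib]
        rw [this]; exact add_mem ha hb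
      zero_mem' := by
        show comp i 0 z z ∈ R
        simp [comp, zero_mem]
      smul_mem' := fun c {a} ha => by
        show comp i (c • a) z z ∈ R
        have : comp i (c • a) z z = c • comp i a z z := by
          simp only [comp, mul_smul_comm, smul_mul_assoc, Finset.smul_sum]
        rw [this]; exact Subalgebra.smul_mem _ ha c }
  have hmem : ∀ (X : Matrix (Fin m) (Fin m) F) (Y : Matrix (Idx m t) (Idx m t) F), fa i X * psi i Y ∈ P := by
    intro X Y
    show comp i _ z z ∈ R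
    have : comp i (fa i X * psi i Y) z z = X z z • psi i Y := by
      simp only [comp, mul_assoc, ← (com_psi i Y _).eq]
      simp only [← mul_assoc, ← map_mul, sg_mul_mul, map_smul, ← Finset.sum_mul, ← Finset.smul_sum, ← map_sum,
        sum_sg, map_one, smul_mul_assoc, one_mul]
    rw [this]
    exact R.smul_mem (show psi i Y ∈ R from ⟨Y, rfl⟩) _
  have hP : Φ ∈ P := by
    rw [Matrix.matrix_eq_sum_single Φ]
    refine P.sum_mem fun x _ => P.sum_mem fun y _ => ?_
    rw [show Matrix.single x y (Φ x y) = Φ x y • Matrix.single x y (1 : F) by simp]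
    refine P.smul_mem _ ?_
    have e : Matrix.single x y (1 : F) = fa i (sg (x i) (y i)) * psi i (Matrix.single (i.removeNth x) (i.removeNth y) 1) := by
      have e1 : psi i (Matrix.single (i.removeNth x) (i.removeNth y) (1 : F)) =
          pureTens (Function.update (fun l => (sg (x l) (y l) : Matrix (Fin m) (Fin m) F)) i 1) := by
        ext a b
        rw [psi_apply, single_eq_pureTens]
        simp only [pureTens, Matrix.of_apply]
        rw [Fin.prod_univ_succAbove _ i, Function.update_self]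
        by_cases hab : a i = b i
        · rw [if_pos hab, hab, Matrix.one_apply_eq, one_mul]
          exact Finset.prod_congr rfl fun l _ => by
            rw [Function.update_of_ne (Fin.succAbove_ne i l)]
            rfl
        · rw [if_neg hab, Matrix.one_apply_ne hab, zero_mul]
      rw [e1, fa_apply, powStd, pureTens_mul, single_eq_pureTens]
      congr 1
      funext l
      rcases eq_or_ne l i with rfl | hl <;> simp [*]
    rw [e]
    exact hmem _ _
  obtain ⟨Y, hY⟩ := hP
  exact ⟨Y, hY.trans hfix⟩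

/-- The commutant as a group. -/
def psiU (i : Fin (t + 1)) : GL (Idx m t) F →* GL (Idx m (t + 1)) F :=
  Units.map (psi i).toRingHom.toMonoidHom

theorem psiU_val (i : Fin (t + 1)) (Y : GL (Idx m t) F) : (psiU i Y).val = psi i Y.val := rfl

theorem psiU_fu (i : Fin (t + 1)) (j : Fin t) (a : GL (Fin m) F) :
    psiU i (fu j a) = fu (i.succAbove j) a := Units.ext (psi_fa i j a.val)

theorem fu_psiU_comm (i : Fin (t + 1)) (a : GL (Fin m) F) (Y : GL (Idx m t) F) :
    Commute (fu i a) (psiU i Y) := Units.ext (com_psi i Y.val a.val).eq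

theorem conjA_psiU (i : Fin (t + 1)) (Y : GL (Idx m t) F) (M : Matrix (Idx m t) (Idx m t) F) :
    conjA (psiU i Y) (psi i M) = psi i (conjA Y M) := by
  rw [conjA_apply, conjA_apply, map_mul, map_mul, ← map_inv]
  rfl

/-- An element fixing the factor is a product. -/
theorem exists_split (hm : 0 < m) {i : Fin (t + 1)} {g : GL (Idx m (t + 1)) F} {a : GL (Fin m) F}
    (h : Acts g i i a) : ∃ Y : GL (Idx m t) F, g = fu i a * psiU i Y := by
  have hw : ∀ (w : GL (Idx m (t + 1)) F), Acts w i i 1 → Com i w.val := fun w hw X => by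
    have := congrArg (· * w.val) (hw X)
    simp only [conjA_one] at this
    simp only [conjA_apply, mul_assoc, Units.inv_mul, mul_one] at this
    exact this.symm
  set w := (fu i a)⁻¹ * g
  have hwA : Acts w i i 1 := by simpa using (acts_fu i a).inv.mul h
  obtain ⟨Y, hY⟩ := exists_psi hm i (hw w hwA)
  obtain ⟨Y', hY'⟩ := exists_psi hm i (hw w⁻¹ (by simpa using hwA.inv))
  have h1 : Y * Y' = 1 := psi_injective hm i (by rw [map_mul, map_one, hY, hY', Units.mul_inv])
  have h2 : Y' * Y = 1 := psi_injective hm i (by rw [map_mul, map_one, hY, hY', Units.inv_mul])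
  refine ⟨⟨Y, Y', h1, h2⟩, ?_⟩
  rw [show psiU i (⟨Y, Y', h1, h2⟩ : GL (Idx m t) F) = w from Units.ext hY]
  exact (mul_inv_cancel_left _ _).symm

/-- The group induced on the other factors. -/
def cut (G : Subgroup (GL (Idx m (t + 1)) F)) (i : Fin (t + 1)) : Subgroup (GL (Idx m t) F) where
  carrier := {Y | ∃ a, fu i a * psiU i Y ∈ G}
  mul_mem' {X Y} hX hY := by
    obtain ⟨a, ha⟩ := hX
    obtain ⟨b, hb⟩ := hY
    refine ⟨a * b, ?_⟩
    have := G.mul_mem ha hb
    rwa [(fu_psiU_comm i b X).symm.mul_mul_mul_comm, ← map_mul, ← map_mul] at this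
  one_mem' := ⟨1, by simp [one_mem]⟩
  inv_mem' {X} hX := by
    obtain ⟨a, ha⟩ := hX
    refine ⟨a⁻¹, ?_⟩
    have := G.inv_mem ha
    rwa [(fu_psiU_comm i a X).eq, mul_inv_rev, ← map_inv, ← map_inv] at this

variable {G : Subgroup (GL (Idx m (t + 1)) F)}

theorem cut_over (hG : Over G) (hm : 3 ≤ m) (i : Fin (t + 1)) : Over (cut G i) := by
  refine ⟨fun j a ha => ⟨1, by rw [map_one, one_mul, psiU_fu]; exact hG.sl _ a ha⟩, fun ht σ => ?_⟩
  set σ' := σ.viaEmbedding (Fin.succAboveEmb i)
  obtain ⟨g, hg, hσ⟩ := hG.perm (by omega) σ'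
  have hi : σ' i = i := Equiv.Perm.viaEmbedding_apply_of_notMem _ _ _ (by
    rintro ⟨l, hl⟩; exact Fin.succAbove_ne i l hl)
  obtain ⟨a, ha⟩ := hσ i
  rw [hi] at ha
  obtain ⟨Y, rfl⟩ := exists_split (by omega) ha
  refine ⟨Y, ⟨a, hg⟩, fun j => ?_⟩
  obtain ⟨b, hb⟩ := hσ (i.succAbove j)
  have hσj : σ' (i.succAbove j) = i.succAbove (σ j) := Equiv.Perm.viaEmbedding_apply σ (Fin.succAboveEmb i) j
  rw [hσj] at hb
  refine ⟨b, fun X => psi_injective (by omega) i ?_⟩
  have h1 := hb X
  rw [conjA_mul, ← psi_fa, ← psi_fa, conjA_psiU, conjA_fu_com (com_psi i _)] at h1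
  exact h1

theorem cut_not_rich (hG : Over G) (hm : 3 ≤ m) (hR : ∀ l, ¬ Rich G l) (i : Fin (t + 1)) (j : Fin t) :
    ¬ Rich (cut G i) j := by
  rintro ⟨Φ, hΦ, hns⟩
  let p : Fin m := ⟨0, by omega⟩
  let q : Fin m := ⟨1, by omega⟩
  let r : Fin m := ⟨2, by omega⟩
  have hpq : p ≠ q := by simp [p, q]
  have hqr : q ≠ r := by simp [q, r]
  have hpr : p ≠ r := by simp [p, r]
  obtain ⟨g, ⟨a, hga⟩, hgv⟩ := hΦ.2 p q hpq
  set u := fu (t := t) j (trGL hqr (1 : F)) with hu
  set A := fa j (sg p q) * Φ with hA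
  set B := fa (t := t) j (sg q r : Matrix (Fin m) (Fin m) F) with hB
  have hAA : A * A = 0 := fa_mul_zero hΦ.1 (sg_mul_ne _ _ hpq.symm) _
  have hBB : B * B = 0 := by rw [hB, ← map_mul, sg_mul_ne _ _ hqr.symm, map_zero]
  have hBA : B * A = 0 := by rw [hB, hA, ← mul_assoc, ← map_mul, sg_mul_ne _ _ hpr.symm, map_zero, zero_mul]
  have hgi : (g⁻¹).val = 1 - A := left_inv_eq_right_inv (Units.inv_mul g) (by
    rw [hgv, show (1 + A) * (1 - A) = 1 - A * A by noncomm_ring, hAA, sub_zero])
  have huv : u.val = 1 + B := by rw [hu, fu_val, trGL_val, one_smul, map_add, map_one]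
  have hui : (u⁻¹).val = 1 - B := by rw [hu, fu_inv_val, trGL_inv_val, one_smul, map_sub, map_one]
  have hc : (g * u * g⁻¹ * u⁻¹).val = 1 + A * B := by
    have h2 : ∀ x, A * (A * x) = 0 := fun x => by rw [← mul_assoc, hAA, zero_mul]
    have h1 : B * (A * B) = 0 := by rw [← mul_assoc, hBA, zero_mul]
    simp only [Units.val_mul, hgv, huv, hgi, hui, add_mul, mul_add, mul_sub, sub_mul, one_mul, mul_one,
      mul_assoc, hAA, hBB, hBA, h1, h2, mul_zero, sub_zero, add_zero]
    abel
  have hAB : A * B = fa j (sg p r) * Φ := by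
    rw [hA, hB, mul_assoc, ← (hΦ.1 _).eq, ← mul_assoc, ← map_mul, sg_mul]
  have hu' : psiU i u ∈ G := by rw [hu, psiU_fu]; exact hG.sl _ _ (det_trGL hqr 1)
  have hmem : psiU i (g * u * g⁻¹ * u⁻¹) ∈ G := by
    have h1 := G.mul_mem (G.mul_mem (G.mul_mem hga hu') (G.inv_mem hga)) (G.inv_mem hu')
    have e : fu i a * psiU i g * psiU i u * (fu i a * psiU i g)⁻¹ =
        psiU i (g * u * g⁻¹) := by
      rw [mul_inv_rev, mul_assoc (fu i a), ← map_mul, ← mul_assoc, mul_assoc (fu i a), ← map_inv (psiU i),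
        ← map_mul, (fu_psiU_comm i a _).eq, mul_inv_cancel_right]
    rwa [e, ← map_inv (psiU i), ← map_mul] at h1
  have hcom : Com (i.succAbove j) (psi i Φ) := fun X => by
    rw [← psi_fa]; exact (hΦ.1 X).map (psi i)
  refine hR (i.succAbove j) ⟨psi i Φ, good_of_one hG hm hcom hpr ⟨_, hmem, ?_⟩, fun c hc => hns c ?_⟩
  · rw [psiU_val, hc, hAB, map_add, map_one, map_mul, psi_fa]
  · exact psi_injective (by omega) i (by rw [hc, map_smul, map_one])

theorem mem_mst_of_cut (hm : 3 ≤ m) {i : Fin (t + 1)} (hcut : cut G i ≤ mst m t F)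
    {x : GL (Idx m (t + 1)) F} (hx : x ∈ G) {a : GL (Fin m) F} (ha : Acts x i i a) :
    x ∈ mst m (t + 1) F := by
  obtain ⟨Y, rfl⟩ := exists_split (by omega) ha
  obtain ⟨σ, hσ⟩ := hcut ⟨a, hx⟩
  refine ⟨σ.viaEmbedding (Fin.succAboveEmb i), fun l => ?_⟩
  rcases Fin.eq_self_or_eq_succAbove i l with rfl | ⟨j, rfl⟩
  · rw [Equiv.Perm.viaEmbedding_apply_of_notMem _ _ _ (by
      rintro ⟨k, hk⟩; exact Fin.succAbove_ne _ k hk)]
    exact ⟨a, ha⟩
  · obtain ⟨b, hb⟩ := hσ j
    rw [show σ.viaEmbedding (Fin.succAboveEmb i) (i.succAbove j) = i.succAbove (σ j) from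
      Equiv.Perm.viaEmbedding_apply σ (Fin.succAboveEmb i) j]
    refine ⟨b, fun X => ?_⟩
    rw [conjA_mul, ← psi_fa, conjA_psiU, hb, conjA_fu_com (com_psi i _), psi_fa]

end Cfsg.Lib.Linear.TWreath
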