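import Cfsg.Agent.Lib.Linear.TWreath.EvenBasic

/-!
# Involutions of one factor and an interchange

Normal forms for involutions of one factor in characteristic two, and the rank of an interchange
of two factors of dimension three.
-/

set_option autoImplicit false
set_option linter.unusedSectionVars false

namespace Cfsg.Lib.Linear.TWreath

open Cfsg.Geo Cfsg.Lib.Linear.AschGen
open scoped Matrix MatrixGroups

variable {F : Type*} [Field F] {m t : ℕ}

/-- The element fixes every factor. -/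
def Pure (g : GL (Idx m t) F) : Prop := ∀ i, ∃ a, Acts g i i a

theorem Pure.mul {g h : GL (Idx m t) F} (hg : Pure g) (hh : Pure h) : Pure (g * h) := fun i => by
  obtain ⟨a, ha⟩ := hg i
  obtain ⟨b, hb⟩ := hh i
  exact ⟨_, ha.mul hb⟩

theorem Pure.conj {g z : GL (Idx m t) F} (hg : Pure g) (hz : z ∈ mst m t F) : Pure (z * g * z⁻¹) := fun i => by
  obtain ⟨σ, hσ⟩ := hz
  obtain ⟨a, ha⟩ := hσ (σ.symm i)
  rw [Equiv.apply_symm_apply] at ha
  obtain ⟨b, hb⟩ := hg (σ.symm i)
  exact ⟨_, (ha.mul hb).mul ha.inv⟩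

theorem pure_fu (i : Fin t) (a : GL (Fin m) F) : Pure (fu i a) := fun l => by
  rcases eq_or_ne l i with rfl | h
  · exact ⟨a, acts_fu l a⟩
  · exact ⟨1, acts_fu_ne h a⟩

theorem IsTv.pure {hm : 3 ≤ m} {x : GL (Idx m t) F} {i : Fin t} (h : IsTv hm x i) : Pure x := by
  obtain ⟨a, rfl⟩ := h
  exact pure_fu i _

theorem Pure.mem_mst {g : GL (Idx m t) F} (h : Pure g) : g ∈ mst m t F :=
  ⟨1, fun i => h i⟩

/-- A scalar squaring to one in characteristic two. -/
theorem eq_one_of_sq {e : F} (h2 : (2 : F) = 0) (h : e * e = 1) : e = 1 := by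
  have h7 : (e - 1) * (e - 1) = 0 := by linear_combination h - e * h2 + h2
  exact sub_eq_zero.1 (mul_self_eq_zero.1 h7)

theorem eq_one_of_smul_sq (hm : 3 ≤ m) {e : F} (h2 : (2 : F) = 0) {a b : GL (Fin m) F}
    (h : a.val = e • b.val) (ha : a * a = 1) (hb : b * b = 1) : e = 1 := by
  refine eq_one_of_sq h2 ?_
  have h5 := congrArg Units.val ha
  rw [Units.val_mul, h, smul_mul_smul_comm, ← Units.val_mul, hb, Units.val_one] at h5
  simpa using congrFun (congrFun h5 (p0 hm)) (p0 hm)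

/-- An element with scalar square is a scalar times a unipotent one. -/
theorem exists_norm [Finite F] (hm : 3 ≤ m) (h2 : (2 : F) = 0) {a : GL (Fin m) F}
    (ha : ∃ e : F, (a * a).val = e • 1) :
    ∃ (s : F) (N : Matrix (Fin m) (Fin m) F), s ≠ 0 ∧ N * N = 0 ∧ a.val = s • (1 + N) := by
  obtain ⟨e, he⟩ := ha
  haveI : CharP F 2 := (CharP.charP_iff_prime_eq_zero Nat.prime_two).2 (by exact_mod_cast h2)
  haveI := Fintype.ofFinite F
  obtain ⟨s, hs⟩ := FiniteField.isSquare_of_char_two (ringChar.eq F 2) e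
  have he0 : e ≠ 0 := fun h => by
    haveI : Nonempty (Fin m) := ⟨p0 hm⟩
    rw [h, zero_smul] at he
    exact (a * a).isUnit.ne_zero he
  have hs0 : s ≠ 0 := fun h => he0 (by rw [hs, h, mul_zero])
  refine ⟨s, s⁻¹ • a.val - 1, hs0, ?_, by rw [add_sub_cancel, smul_smul, mul_inv_cancel₀ hs0, one_smul]⟩
  have e1 : (s⁻¹ • a.val - 1) * (s⁻¹ • a.val - 1) = (s⁻¹ * s⁻¹) • (a.val * a.val) + 1 - (2 : F) • (s⁻¹ • a.val) := by
    simp only [sub_mul, mul_sub, smul_mul_smul_comm, one_mul, mul_one, two_smul]; abel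
  rw [e1, ← Units.val_mul, he, h2, zero_smul, sub_zero, smul_smul, hs, show s⁻¹ * s⁻¹ * (s * s) = 1 by field_simp,
    one_smul, ← two_smul F (1 : Matrix (Fin m) (Fin m) F), h2, zero_smul]

theorem commute_norm {a M : GL (Fin m) F} {s : F} {N X : Matrix (Fin m) (Fin m) F} (ha : a.val = s • (1 + N))
    (hM : M.val = 1 + X) (h : Commute N X) : Commute a M :=
  commute_val (by rw [ha, hM]; exact (commute_one_add h).smul_left s)

/-- A transvection commuting with an element with scalar square. -/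
theorem exists_tv_comm [Finite F] (hm : 3 ≤ m) (h2 : (2 : F) = 0) {a : GL (Fin m) F}
    (ha : ∃ e : F, (a * a).val = e • 1) (i : Fin t) : ∃ M, IsTv hm (fu i M) i ∧ Commute a M := by
  obtain ⟨s, N, hs, hNN, haN⟩ := exists_norm hm h2 ha
  by_cases hN : N = 0
  · refine ⟨tv0 hm, ⟨1, by simp⟩, commute_norm (X := sg (p0 hm) (p1 hm)) haN (tv0_val hm) ?_⟩
    rw [hN]; exact Commute.zero_left _
  obtain ⟨p, q, hpq⟩ : ∃ p q, N p q ≠ 0 := by
    by_contra h
    push Not at h
    exact hN (Matrix.ext h)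
  set c := N *ᵥ Pi.single q 1 with hcv
  set φ := Pi.single p 1 ᵥ* N with hφv
  have hc0 : c ≠ 0 := fun h => hpq (by simpa [hcv] using congrFun h p)
  have hφ0 : φ ≠ 0 := fun h => hpq (by simpa [hφv] using congrFun h q)
  have hφc : φ ⬝ᵥ c = 0 := by
    rw [hφv, hcv, Matrix.dotProduct_mulVec, Matrix.vecMul_vecMul, hNN, Matrix.vecMul_zero, zero_dotProduct]
  obtain ⟨M, hM, hMT⟩ := exists_tv hm hc0 hφ0 hφc i
  refine ⟨M, hMT, commute_norm haN hM ?_⟩
  show _ = _
  rw [Matrix.mul_vecMulVec, Matrix.vecMulVec_mul, hcv, hφv, Matrix.mulVec_mulVec, Matrix.vecMul_vecMul, hNN]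
  simp [Matrix.zero_mulVec, Matrix.vecMul_zero]
  exact Or.inl rfl

/-- An interchange of two factors of dimension three has small displacement. -/
theorem sw_rank_le (h2 : (2 : F) = 0) {g : GL (Idx 3 2) F} (hg : g * g = 1) {a : GL (Fin 3) F}
    (ha : Acts g 0 1 a) :
    (g.val - 1).rank ≤ (fa 0 (sg 0 0 : Matrix (Fin 3) (Fin 3) F) : Matrix (Idx 3 2) (Idx 3 2) F).rank := by
  classical
  have hgi : g⁻¹ = g := inv_eq_of_mul_eq_one_right hg
  have hb : Acts g 1 0 a⁻¹ := by have := ha.inv; rwa [hgi] at this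
  set q := fu (t := 2) 1 a with hq
  set x := q⁻¹ * g * q with hx
  have e1 : Acts x 0 1 1 := by
    have := ((acts_fu 1 a).inv.mul ha).mul (acts_fu_ne (i := (1 : Fin 2)) (l := 0) (by decide) a)
    simpa [hx, hq] using this
  have e2 : Acts x 1 0 1 := by
    have := ((acts_fu_ne (i := (1 : Fin 2)) (l := 0) (by decide) a).inv.mul hb).mul (acts_fu 1 a)
    simpa [hx, hq] using this
  have hxx : x * x = 1 := by
    rw [hx]
    calc q⁻¹ * g * q * (q⁻¹ * g * q) = q⁻¹ * (g * g) * q := by group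
      _ = 1 := by rw [hg]; group
  rw [← rank_conj_sub_one q⁻¹ g, inv_inv, ← hx]
  set n := x.val - 1 with hn
  let E : Fin 3 → Fin 3 → Fin 3 → Fin 3 → Matrix (Idx 3 2) (Idx 3 2) F :=
    fun a b c d => fa 0 (sg a b) * fa 1 (sg c d)
  have hEsingle : ∀ a b c d, E a b c d = Matrix.single ![a, c] ![b, d] 1 := by
    intro a b c d
    rw [single_eq_pureTens]
    simp only [E, fa_apply, powStd, pureTens_mul]
    congr 1
    funext l
    fin_cases l <;> simp
  have hxE : ∀ a b c d, x.val * E a b c d = E c d a b * x.val := by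
    intro a b c d
    have h1 : ∀ M : Matrix (Idx 3 2) (Idx 3 2) F, x.val * M = conjA x M * x.val := fun M => by
      rw [conjA_apply, mul_assoc _ (x⁻¹).val, Units.inv_mul, mul_one]
    rw [h1, map_mul, e1, e2, conjA_one, conjA_one]
    simp only [E]
    rw [(fa_comm (show (1 : Fin 2) ≠ 0 by decide) (sg a b : Matrix (Fin 3) (Fin 3) F) _).eq]
  -- the corner
  set P := E 0 0 0 0 with hP
  set o : Idx 3 2 := ![0, 0] with ho
  have hPs : P = Matrix.single o o 1 := hEsingle _ _ _ _
  have hPx : x.val * P = P := by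
    have hPP : P * P = P := by rw [hPs]; simp
    have h3 : x.val * P = x.val o o • P := by
      conv_lhs => rw [← hPP, ← mul_assoc, hxE, ← hP]
      rw [hPs]
      ext u v
      simp [Matrix.mul_apply, Matrix.single_apply, ite_and]
      split_ifs <;> simp_all
    have hβ : x.val o o * x.val o o = 1 := by
      have h4 : x.val * (x.val * P) = P := by rw [← mul_assoc, ← Units.val_mul, hxx, Units.val_one, one_mul]
      rw [h3, mul_smul_comm, h3, smul_smul] at h4
      simpa [hPs] using congrFun (congrFun h4 o) o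
    have h7 : (x.val o o - 1) * (x.val o o - 1) = 0 := by linear_combination hβ - x.val o o * h2 + h2
    rw [h3, sub_eq_zero.1 (mul_self_eq_zero.1 h7), one_smul]
  have hdiag : ∀ c, n * E c 0 c 0 = 0 := fun c => by
    have e : E c 0 c 0 = E c 0 c 0 * P := by rw [hP]; simp [hEsingle]
    rw [hn, sub_mul, one_mul, e, ← mul_assoc, hxE, mul_assoc, hPx, ← e, sub_self]
  have hflip : ∀ c d, n * E c 0 d 0 = n * E d 0 c 0 := fun c d => by
    have e : ∀ u v, E u 0 v 0 = E u 0 v 0 * P := fun u v => by rw [hP]; simp [hEsingle]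
    have h3 : ∀ u v, x.val * E u 0 v 0 = E v 0 u 0 := fun u v => by
      rw [e u v, ← mul_assoc, hxE, mul_assoc, hPx, ← e]
    have h4 : ∀ M : Matrix (Idx 3 2) (Idx 3 2) F, -M = M := fun M =>
      neg_eq_of_add_eq_zero_left (by rw [← two_smul F, h2, zero_smul])
    rw [hn, sub_mul, sub_mul, one_mul, one_mul, h3, h3, ← h4 (E d 0 c 0 - E c 0 d 0), neg_sub]
  set R := ∑ c, E c 0 (c + 1) c with hR
  have hRE : ∀ c, R * E 0 0 c 0 = E c 0 (c + 1) 0 := fun c => by
    rw [hR, Finset.sum_mul, Finset.sum_eq_single c (fun d _ hd => by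
      rw [hEsingle, hEsingle, Matrix.single_mul_single_of_ne]
      intro h
      exact hd (by simpa using congrFun h 1)) (fun h => absurd (Finset.mem_univ _) h)]
    simp [hEsingle]
  have hone : ∀ c d, ∃ M, n * E c c d d = n * R * M := by
    intro c d
    have hsplit : E c c d d = E c 0 d 0 * E 0 c 0 d := by simp [hEsingle]
    have hcase : c = d ∨ d = c + 1 ∨ c = d + 1 :=
      (show ∀ c d : Fin 3, c = d ∨ d = c + 1 ∨ c = d + 1 by decide) c d
    rcases hcase with rfl | rfl | rfl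
    · exact ⟨0, by rw [hsplit, ← mul_assoc, hdiag, zero_mul, mul_zero]⟩
    · exact ⟨E 0 0 c 0 * E 0 c 0 (c + 1), by rw [hsplit, ← hRE]; simp only [mul_assoc]⟩
    · exact ⟨E 0 0 d 0 * E 0 (d + 1) 0 d, by rw [hsplit, ← mul_assoc, hflip, ← hRE]; simp only [mul_assoc]⟩
  choose M hM using hone
  have hsum : n = n * R * ∑ c, ∑ d, M c d := by
    conv_lhs => rw [← mul_one n, show (1 : Matrix (Idx 3 2) (Idx 3 2) F) = ∑ c, ∑ d, E c c d d by
      simp only [E, ← Finset.mul_sum, ← map_sum, sum_sg, map_one, mul_one]]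
    simp only [Finset.mul_sum, hM]
  rw [hsum]
  refine (Matrix.rank_mul_le_left _ _).trans ((Matrix.rank_mul_le_right _ _).trans ?_)
  have hR0 : R = R * fa 0 (sg 0 0) := by
    rw [hR, Finset.sum_mul]
    refine Finset.sum_congr rfl fun c _ => ?_
    simp only [E]
    rw [mul_assoc, (fa_comm (show (1 : Fin 2) ≠ 0 by decide) _ _).eq, ← mul_assoc, ← map_mul, sg_mul]
  rw [hR0]
  exact Matrix.rank_mul_le_right _ _

end Cfsg.Lib.Linear.TWreath
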