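import Cfsg.Agent.Lib.Linear.TWreath.Rich

/-!
# Lines and elementary nilpotent matrices of one factor
-/

set_option autoImplicit false
set_option linter.unusedSectionVars false

namespace Cfsg.Lib.Linear.TWreath

open Cfsg.Geo Cfsg.Lib.Linear.AschGen
open scoped Matrix MatrixGroups

variable {F : Type*} [Field F] {m t : ℕ}

theorem exists_gl_mulVec (z : Fin m) {c : Fin m → F} (hc : c ≠ 0) :
    ∃ a : GL (Fin m) F, a.val *ᵥ Pi.single z 1 = c := by
  classical
  obtain ⟨k, hk⟩ := Function.ne_iff.1 hc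
  set σ := Equiv.swap z k
  let A : Matrix (Fin m) (Fin m) F := Matrix.of fun x y => if y = z then c x else if σ y = x then 1 else 0
  have hA : A.det ≠ 0 := fun h0 => by
    obtain ⟨v, hv, hv0⟩ := Matrix.exists_vecMul_eq_zero_iff.2 h0
    have h1 : ∀ y, y ≠ z → v (σ y) = 0 := fun y hy => by
      have := congrFun hv0 y
      simpa [A, Matrix.vecMul, dotProduct, hy] using this
    have h2 : ∀ x, x ≠ k → v x = 0 := fun x hx => by
      have := h1 (σ x) (fun e => hx (by rw [← Equiv.swap_apply_self z k x, show Equiv.swap z k x = z from e, Equiv.swap_apply_left]))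
      rwa [Equiv.swap_apply_self] at this
    have h3 := congrFun hv0 z
    simp only [A, Matrix.vecMul, dotProduct, Matrix.of_apply, if_true, Pi.zero_apply] at h3
    rw [Finset.sum_eq_single k (fun x _ hx => by rw [h2 x hx, zero_mul])
      (fun h => absurd (Finset.mem_univ _) h)] at h3
    refine hv (funext fun x => ?_)
    rcases eq_or_ne x k with rfl | hx
    · exact (mul_eq_zero.1 h3).resolve_right hk
    · exact h2 x hx
  refine ⟨Matrix.GeneralLinearGroup.mkOfDetNeZero A hA, ?_⟩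
  show A *ᵥ _ = _
  funext x
  simp [A]

theorem exists_gl_vecMul {z q : Fin m} (hzq : z ≠ q) {φ : Fin m → F} (hφ : φ ≠ 0) (hz : φ z = 0) :
    ∃ a : GL (Fin m) F, a.val *ᵥ Pi.single z 1 = Pi.single z 1 ∧ Pi.single q 1 ᵥ* a.val = φ := by
  classical
  obtain ⟨k, hk⟩ := Function.ne_iff.1 hφ
  have hkz : k ≠ z := fun e => hk (by rw [e, hz]; rfl)
  set σ := Equiv.swap q k
  let A : Matrix (Fin m) (Fin m) F := Matrix.of fun x y => if x = q then φ y else if σ x = y then 1 else 0
  have hA : A.det ≠ 0 := fun h0 => by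
    obtain ⟨v, hv, hv0⟩ := Matrix.exists_mulVec_eq_zero_iff.2 h0
    have h1 : ∀ x, x ≠ q → v (σ x) = 0 := fun x hx => by
      have := congrFun hv0 x
      simpa [A, Matrix.mulVec, dotProduct, hx] using this
    have h2 : ∀ y, y ≠ k → v y = 0 := fun y hy => by
      have := h1 (σ y) (fun e => hy (by rw [← Equiv.swap_apply_self q k y, show Equiv.swap q k y = q from e, Equiv.swap_apply_left]))
      rwa [Equiv.swap_apply_self] at this
    have h3 := congrFun hv0 q
    simp only [A, Matrix.mulVec, dotProduct, Matrix.of_apply, if_true, Pi.zero_apply] at h3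
    rw [Finset.sum_eq_single k (fun y _ hy => by rw [h2 y hy, mul_zero])
      (fun h => absurd (Finset.mem_univ _) h)] at h3
    refine hv (funext fun y => ?_)
    rcases eq_or_ne y k with rfl | hy
    · exact (mul_eq_zero.1 h3).resolve_left hk
    · exact h2 y hy
  refine ⟨Matrix.GeneralLinearGroup.mkOfDetNeZero A hA, ?_, ?_⟩
  · show A *ᵥ _ = _
    funext x
    rcases eq_or_ne x q with rfl | hx
    · simp [A, hz, hzq.symm]
    · rcases eq_or_ne x z with rfl | hxz
      · simp [A, hx, σ, Equiv.swap_apply_of_ne_of_ne hx hkz.symm]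
      · have : σ x ≠ z := fun e => hxz (σ.injective (e.trans (Equiv.swap_apply_of_ne_of_ne hzq hkz.symm).symm))
        simp [A, hx, this, hxz]
  · show _ ᵥ* A = _
    funext y
    simp [A]

theorem sg_eq_vecMulVec (a b : Fin m) :
    (sg a b : Matrix (Fin m) (Fin m) F) = Matrix.vecMulVec (Pi.single a 1) (Pi.single b 1) :=
  Matrix.single_eq_single_vecMulVec_single a b

/-- Nilpotent matrices of rank one are conjugate. -/
theorem exists_conj_sg {z q : Fin m} (hzq : z ≠ q) {c φ : Fin m → F} (hc : c ≠ 0) (hφ : φ ≠ 0)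
    (h : φ ⬝ᵥ c = 0) : ∃ a : GL (Fin m) F, conjA a (sg z q) = Matrix.vecMulVec c φ := by
  obtain ⟨a, ha⟩ := exists_gl_mulVec z hc
  have hz : (φ ᵥ* a.val) z = 0 := by
    rw [show (φ ᵥ* a.val) z = (φ ᵥ* a.val) ⬝ᵥ Pi.single z 1 by rw [dotProduct_single, mul_one],
      ← Matrix.dotProduct_mulVec, ha, h]
  have hne : φ ᵥ* a.val ≠ 0 := fun e => hφ (by
    have := congrArg (fun v => v ᵥ* (a⁻¹).val) e
    simpa [Matrix.vecMul_vecMul] using this)
  obtain ⟨b, hb1, hb2⟩ := exists_gl_vecMul hzq hne hz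
  refine ⟨a * b⁻¹, ?_⟩
  rw [conjA_apply, sg_eq_vecMulVec, Matrix.mul_vecMulVec, Matrix.vecMulVec_mul, mul_inv_rev, inv_inv,
    Units.val_mul, Units.val_mul, ← Matrix.vecMul_vecMul, hb2, Matrix.vecMul_vecMul, Units.mul_inv,
    Matrix.vecMul_one, ← Matrix.mulVec_mulVec]
  congr 1
  conv_lhs => rw [← hb1, Matrix.mulVec_mulVec _ (b⁻¹).val, Units.inv_mul, Matrix.one_mulVec]
  exact ha

theorem exists_sl_conj_sg (hm : 3 ≤ m) {z q : Fin m} (hzq : z ≠ q) {c φ : Fin m → F} (hc : c ≠ 0)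
    (hφ : φ ≠ 0) (h : φ ⬝ᵥ c = 0) :
    ∃ a : GL (Fin m) F, a.val.det = 1 ∧ conjA a (sg z q) = Matrix.vecMulVec c φ := by
  obtain ⟨a, ha⟩ := exists_conj_sg hzq hc hφ h
  obtain ⟨s, hs, hsa⟩ := exists_sl_same hm a hzq
  refine ⟨s⁻¹, ?_, ?_⟩
  · have := congrArg Matrix.det (Units.inv_mul s)
    rwa [Matrix.det_mul, hs, mul_one, Matrix.det_one] at this
  · rw [← ha]
    conv_lhs => rw [← hsa, conjA_inv]

theorem exists_sl_mulVec (hm : 3 ≤ m) (z : Fin m) {c : Fin m → F} (hc : c ≠ 0) :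
    ∃ a : GL (Fin m) F, a.val.det = 1 ∧ a.val *ᵥ Pi.single z 1 = c := by
  obtain ⟨a, ha⟩ := exists_gl_mulVec z hc
  obtain ⟨r, hrz, -⟩ := exists_third hm z z
  let d : Fin m → F := Function.update (fun _ => 1) r (a.val.det)⁻¹
  have hd : (Matrix.diagonal d).det = (a.val.det)⁻¹ := by
    rw [Matrix.det_diagonal]; simp [d, Finset.prod_update_of_mem]
  have h0 := Matrix.GeneralLinearGroup.det_ne_zero a
  let D := Matrix.GeneralLinearGroup.mkOfDetNeZero (Matrix.diagonal d) (by rw [hd]; exact inv_ne_zero h0)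
  refine ⟨a * D, ?_, ?_⟩
  · rw [Units.val_mul, Matrix.det_mul]
    show _ * (Matrix.diagonal d).det = 1
    rw [hd, mul_inv_cancel₀ h0]
  · rw [Units.val_mul, ← Matrix.mulVec_mulVec]
    show a.val *ᵥ (Matrix.diagonal d *ᵥ _) = c
    rw [Matrix.diagonal_mulVec_single, show d z = 1 by simp [d, hrz.symm], one_mul, ha]

end Cfsg.Lib.Linear.TWreath
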