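import Cfsg.Agent.Lib.Linear.TWreath.Lines

/-!
# Elements carrying a slab to a slab

Without non-scalar coefficients, an element of the group carrying the range of a rank-one
idempotent of one factor onto one of a factor carries the first factor to the second.
-/

set_option autoImplicit false
set_option linter.unusedSectionVars false

namespace Cfsg.Lib.Linear.TWreath

open Cfsg.Geo Cfsg.Lib.Linear.AschGen
open scoped Matrix MatrixGroups

variable {F : Type*} [Field F] {m t : ℕ} {G : Subgroup (GL (Idx m t) F)}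

theorem com_of_parabolic {i : Fin t} {z : Fin m}
    {Φ : Matrix (Idx m t) (Idx m t) F} (hm : 3 ≤ m)
    (h : ∀ a b, a ≠ b → b ≠ z → Commute (fa i (sg a b)) Φ) : Com i Φ := by
  have hdiag : ∀ a, a ≠ z → Commute (fa i (sg a a)) Φ := fun a ha => by
    obtain ⟨b, hba, hbz⟩ := exists_third hm a z
    rw [← sg_mul a b a, map_mul]
    exact (h a b hba.symm hbz).mul_left (h b a hba ha)
  have hall : ∀ a, Commute (fa i (sg a a)) Φ := fun a => by
    rcases eq_or_ne a z with rfl | ha
    · have e : fa i (sg a a) = (1 : Matrix (Idx m t) (Idx m t) F) - ∑ b ∈ Finset.univ.erase a, fa i (sg b b) :=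
        eq_sub_of_add_eq (by
          rw [Finset.add_sum_erase _ (fun b => fa i (sg b b)) (Finset.mem_univ a), ← map_sum, sum_sg, map_one])
      rw [e]
      exact (Commute.one_left _).sub_left
        (Commute.sum_left _ _ _ fun b hb => hdiag b (Finset.ne_of_mem_erase hb))
    · exact hdiag a ha
  refine Com.of_sg fun a b => ?_
  rcases eq_or_ne a b with rfl | hab
  · exact hall a
  rcases eq_or_ne b z with rfl | hb
  · set u := Φ * fa i (sg a b) - fa i (sg a b) * Φ with hu
    have h1 : fa i (sg b a) * u = 0 := by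
      rw [hu, mul_sub, ← mul_assoc, ← mul_assoc, (h b a hab.symm hab).eq, mul_assoc, ← map_mul, sg_mul,
        (hall b).eq, sub_self]
    have h2 : ∀ p, p ≠ a → fa i (sg p p) * u = 0 := fun p hp => by
      rw [hu, mul_sub, ← mul_assoc, ← mul_assoc, (hall p).eq, mul_assoc, ← map_mul, sg_mul_ne _ _ hp,
        map_zero, mul_zero, zero_mul, sub_zero]
    have h3 : ∀ p, fa i (sg p p) * u = 0 := fun p => by
      rcases eq_or_ne p a with rfl | hp
      · rw [← sg_mul p b p, map_mul, mul_assoc, h1, mul_zero]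
      · exact h2 p hp
    have h4 := congrArg (fun s : Matrix (Fin m) (Fin m) F => fa i s * u) (sum_sg (m := m) (F := F))
    simp only [map_one, one_mul, map_sum, Finset.sum_mul, h3, Finset.sum_const_zero] at h4
    exact (sub_eq_zero.1 h4.symm).symm
  · exact h a b hab hb

theorem mem_range_of_com_others (hm : 0 < m) {o : Fin t} {Φ : Matrix (Idx m t) (Idx m t) F}
    (h : ∀ l, l ≠ o → Com l Φ) : ∃ X, fa o X = Φ := by
  have hs : ∀ p q, ∃ c : F, comp o Φ p q = c • 1 := fun p q => scalar_of_com hm fun l => by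
    rcases eq_or_ne l o with rfl | hl
    · exact comp_com _ _ _ _
    · exact comp_com_other o Φ hl (h l hl) p q
  choose c hc using hs
  refine ⟨Matrix.of c, ?_⟩
  conv_rhs => rw [← sum_comp o Φ]
  rw [Matrix.matrix_eq_sum_single (Matrix.of c)]
  simp only [map_sum, hc, mul_smul_comm, mul_one, ← map_smul, Matrix.smul_single, smul_eq_mul, Matrix.of_apply]

/-- The element carries the range of an idempotent of the `i`-th factor to one of the `j`-th. -/
def Slab (z : Fin m) (x : GL (Idx m t) F) (i j : Fin t) : Prop :=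
  fa j (sg z z) * x.val * fa i (sg z z) = x.val * fa i (sg z z) ∧
    fa i (sg z z) * (x⁻¹).val * fa j (sg z z) = (x⁻¹).val * fa j (sg z z)

theorem Slab.symm {z : Fin m} {x : GL (Idx m t) F} {i j : Fin t} (h : Slab z x i j) : Slab z x⁻¹ j i :=
  ⟨h.2, by rw [inv_inv]; exact h.1⟩

theorem Slab.of_map_sg {z q : Fin m} {x : GL (Idx m t) F} {i j : Fin t}
    (h : x.val * fa i (sg z q) = fa j (sg z q) * x.val) : Slab z x i j := by
  have h' : (x⁻¹).val * fa j (sg z q) = fa i (sg z q) * (x⁻¹).val := by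
    have := congrArg (fun M => (x⁻¹).val * M * (x⁻¹).val) h
    simpa only [mul_assoc, Units.mul_inv, mul_one, Units.inv_mul_cancel_left] using this.symm
  have key : ∀ (i j : Fin t) (y : Matrix (Idx m t) (Idx m t) F),
      y * fa i (sg z q) = fa j (sg z q) * y → fa j (sg z z) * y * fa i (sg z z) = y * fa i (sg z z) := by
    intro i j y h
    have e : y * fa i (sg z z) = fa j (sg z q) * y * fa i (sg q z) := by
      rw [← h, mul_assoc, ← map_mul, sg_mul]
    rw [mul_assoc, e, ← mul_assoc, ← mul_assoc, ← map_mul, sg_mul]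
  exact ⟨key i j _ h, key j i _ h'⟩

theorem vecMulVec_single_eq_sum (z : Fin m) (v : Fin m → F) :
    Matrix.vecMulVec (Pi.single z 1) v = ∑ b, v b • (sg z b : Matrix (Fin m) (Fin m) F) := by
  conv_lhs => rw [show v = ∑ b, v b • Pi.single b (1 : F) by
    funext c; simp [Finset.sum_apply, Pi.single_apply]]
  ext a c
  simp only [Matrix.vecMulVec_apply, Matrix.sum_apply, Matrix.smul_apply, smul_eq_mul, Finset.sum_apply,
    Pi.smul_apply, Finset.mul_sum, Matrix.single_apply, Pi.single_apply]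
  refine Finset.sum_congr rfl fun b _ => ?_
  by_cases ha : a = z <;> by_cases hb : c = b <;> simp [ha, hb, Ne.symm]

/-- A translation along a slab has scalar coefficients. -/
theorem transl (hG : Over G) (hm : 3 ≤ m) {j : Fin t} (hR : ¬ Rich G j) {z : Fin m}
    {n : Matrix (Idx m t) (Idx m t) F} (hn : InM G (1 + n)) (h1 : fa j (sg z z) * n = n)
    (h2 : n * fa j (sg z z) = 0) :
    ∃ ℓ : Fin m → F, ℓ z = 0 ∧ n = fa j (Matrix.vecMulVec (Pi.single z 1) ℓ) := by
  have hnn : n * n = 0 := by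
    conv_lhs => arg 2; rw [← h1]
    rw [← mul_assoc, h2, zero_mul]
  have hs : ∀ q, ∃ c : F, comp j n z q = c • 1 ∧ (q = z → c = 0) := fun q => by
    rcases eq_or_ne q z with rfl | hq
    · refine ⟨0, ?_, fun _ => rfl⟩
      rw [zero_smul]
      refine eq_zero_of_fa_mul (X := sg q q) (by
        intro e; simpa using congrFun (congrFun e q) q) (comp_com _ _ _ _) ?_
      rw [sg_comp, h1, h2]
    obtain ⟨d, hdz, hdq⟩ := exists_third hm z q
    have hA := inM_scalar hG j (a := q) (b := d) hdq.symm 1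
    rw [one_smul, mul_one] at hA
    have h3 := hn.comm hA hnn (by rw [← map_mul, sg_mul_ne _ _ hdq, map_zero])
      (by rw [← h1, ← mul_assoc, ← map_mul, sg_mul_ne _ _ hdz, map_zero, zero_mul])
    have e : n * fa j (sg q d) = fa j (sg z d) * comp j n z q := by
      rw [sg_comp, h1]
    rw [e] at h3
    have hgood := good_of_one hG hm (comp_com _ _ _ _) hdz.symm h3
    by_contra hc
    push Not at hc
    exact hR ⟨_, hgood, fun c hcc => hq (hc c hcc).1⟩
  choose ℓ hℓ hℓ0 using hs
  refine ⟨ℓ, hℓ0 z rfl, ?_⟩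
  have e : n = ∑ q, fa j (sg z q) * comp j n z q := by
    simp only [sg_comp, h1, ← Finset.mul_sum, ← map_sum, sum_sg, map_one, mul_one]
  rw [e, vecMulVec_single_eq_sum]
  simp only [hℓ, mul_smul_comm, mul_one, ← map_smul, ← map_sum]

/-- The conjugates of the translations along a slab. -/
theorem exists_linear (hG : Over G) (hm : 3 ≤ m) {i j : Fin t} (hR : ¬ Rich G j) {z : Fin m}
    {x : GL (Idx m t) F} (hx : x ∈ G) (hs : Slab z x i j) :
    ∃ K : GL (Fin m) F, K.val *ᵥ Pi.single z 1 = Pi.single z 1 ∧ ∀ φ : Fin m → F, φ z = 0 →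
      conjA x (fa i (Matrix.vecMulVec (Pi.single z 1) φ)) =
        fa j (conjA K⁻¹ (Matrix.vecMulVec (Pi.single z 1) φ)) := by
  classical
  have hex : ∀ b, b ≠ z → ∃ ℓ : Fin m → F, ℓ z = 0 ∧
      conjA x (fa i (sg z b)) = fa j (Matrix.vecMulVec (Pi.single z 1) ℓ) := fun b hb => by
    have h0 := inM_scalar hG i (a := z) (b := b) hb.symm 1
    rw [one_smul, mul_one] at h0
    have h1 := h0.conj hx
    rw [map_add, map_one] at h1
    refine transl hG hm hR h1 ?_ ?_
    · rw [conjA_apply, show fa i (sg z b) = fa i (sg z z) * fa i (sg z b) by rw [← map_mul, sg_mul]]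
      simp only [← mul_assoc]
      rw [hs.1]
    · rw [conjA_apply, mul_assoc _ (x⁻¹).val, ← hs.2]
      simp only [← mul_assoc]
      rw [mul_assoc x.val (fa i (sg z b)), ← map_mul, sg_mul_ne _ _ hb, map_zero, mul_zero, zero_mul, zero_mul]
  choose ℓ hℓz hℓ using hex
  let K : Matrix (Fin m) (Fin m) F := Matrix.of fun b => if h : b = z then Pi.single z 1 else ℓ b h
  have hcol : ∀ b, K b z = if b = z then 1 else 0 := fun b => by
    by_cases h : b = z <;> simp [K, h, hℓz]
  have hrow : ∀ b (h : b ≠ z), K b = ℓ b h := fun b h => by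
    funext c; simp [K, h]
  have hsum : ∀ v : Fin m → F, v z = 0 →
      conjA x (fa i (Matrix.vecMulVec (Pi.single z 1) v)) =
        fa j (Matrix.vecMulVec (Pi.single z 1) (v ᵥ* K)) := by
    intro v hv
    have e1 := vecMulVec_single_eq_sum (F := F) z v
    have e2 : Matrix.vecMulVec (Pi.single z (1 : F)) (v ᵥ* K) = ∑ b, v b • Matrix.vecMulVec (Pi.single z (1 : F)) (K b) := by
      ext a c
      simp [Matrix.sum_apply, Matrix.vecMulVec_apply, Matrix.vecMul, dotProduct, Finset.mul_sum, mul_left_comm]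
    rw [e1, e2]
    simp only [map_sum, map_smul]
    refine Finset.sum_congr rfl fun b _ => ?_
    rcases eq_or_ne b z with rfl | hb
    · rw [hv, zero_smul, zero_smul]
    · rw [hℓ b hb, hrow b hb]
  have hK : K.det ≠ 0 := fun h0 => by
    obtain ⟨v, hv, hv0⟩ := Matrix.exists_vecMul_eq_zero_iff.2 h0
    have hz := congrFun hv0 z
    simp only [Matrix.vecMul, dotProduct, hcol, mul_ite, mul_one, mul_zero, Finset.sum_ite_eq',
      Finset.mem_univ, if_true, Pi.zero_apply] at hz
    have h1 := hsum v hz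
    rw [hv0, Matrix.vecMulVec_zero, map_zero] at h1
    have h2 := fa_injective (by omega) i ((map_eq_zero_iff _ (conjA x).injective).1 h1 |>.trans (map_zero _).symm)
    refine hv (funext fun b => ?_)
    simpa [Matrix.vecMulVec_apply] using congrFun (congrFun h2 z) b
  let Ku := Matrix.GeneralLinearGroup.mkOfDetNeZero K hK
  have hKz : Ku.val *ᵥ Pi.single z 1 = Pi.single z 1 := by
    show K *ᵥ _ = _
    funext b
    simp [hcol, Pi.single_apply]
  refine ⟨Ku, hKz, fun φ hφ => ?_⟩
  rw [hsum φ hφ, conjA_apply, inv_inv, Matrix.mul_vecMulVec, Matrix.vecMulVec_mul]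
  congr 2
  conv_rhs => rw [← hKz, Matrix.mulVec_mulVec, Units.inv_mul, Matrix.one_mulVec]

theorem slab_com (hG : Over G) (hm : 3 ≤ m) {i j : Fin t} (hR : ¬ Rich G j) {z : Fin m}
    {x : GL (Idx m t) F} (hx : x ∈ G) (hs : Slab z x i j) {Ψ : Matrix (Idx m t) (Idx m t) F}
    (hΨ : Com j Ψ) : Com i (conjA x⁻¹ Ψ) := by
  obtain ⟨K, hKz, hK⟩ := exists_linear hG hm hR hx hs
  refine com_of_parabolic (z := z) hm fun a b hab hb => ?_
  set E := fa (t := t) i (sg z z : Matrix (Fin m) (Fin m) F)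
  set E' := fa (t := t) j (sg z z : Matrix (Fin m) (Fin m) F)
  set h := trGL (m := m) (F := F) hab 1 with hh
  have hhz : h.val *ᵥ Pi.single z 1 = Pi.single z 1 := by
    rw [hh, trGL_val, one_smul, Matrix.add_mulVec, Matrix.one_mulVec, sg_eq_vecMulVec,
      Matrix.vecMulVec_mulVec]
    simp [hb]
  have hiz : ∀ k : GL (Fin m) F, k.val *ᵥ Pi.single z 1 = Pi.single z 1 →
      (k⁻¹).val *ᵥ Pi.single z 1 = Pi.single z 1 := fun k hk => by
    conv_lhs => rw [← hk]
    rw [Matrix.mulVec_mulVec, Units.inv_mul, Matrix.one_mulVec]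
  set h' := K⁻¹ * h * K with hh'
  have hh'z : h'.val *ᵥ Pi.single z 1 = Pi.single z 1 := by
    rw [hh', Units.val_mul, Units.val_mul, ← Matrix.mulVec_mulVec, hKz, ← Matrix.mulVec_mulVec, hhz, hiz K hKz]
  have hdet : h'.val.det = 1 := by
    rw [hh', Units.val_mul, Units.val_mul, Matrix.det_mul, Matrix.det_mul, det_trGL, mul_one, ← Matrix.det_mul,
      Units.inv_mul, Matrix.det_one]
  set y := x * fu i h * x⁻¹ * (fu j h')⁻¹ with hy
  have hyG : y ∈ G := G.mul_mem (G.mul_mem (G.mul_mem hx (hG.sl i h (det_trGL hab 1))) (G.inv_mem hx))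
    (G.inv_mem (hG.sl j h' hdet))
  have hfix : ∀ (l : Fin t) (k : GL (Fin m) F), k.val *ᵥ Pi.single z 1 = Pi.single z 1 →
      fa l k.val * fa l (sg z z) = fa l (sg z z) := fun l k hk => by
    rw [← map_mul, sg_eq_vecMulVec, Matrix.mul_vecMulVec, hk]
  have hyE : y.val * E' = E' := by
    simp only [hy, Units.val_mul, fu_inv_val, fu_val, mul_assoc]
    rw [hfix j _ (hiz h' hh'z), ← hs.2]
    simp only [← mul_assoc]
    rw [mul_assoc x.val (fa i h.val), hfix i h hhz, mul_assoc x.val, mul_assoc x.val, hs.2, ← mul_assoc,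
      Units.mul_inv, one_mul]
  have hcomm : ∀ c, c ≠ z → Commute y.val (fa j (sg z c)) := by
    intro c hc
    set φ := Pi.single c (1 : F) ᵥ* (K⁻¹).val with hφ
    have hφz : φ z = 0 := by
      rw [show φ z = φ ⬝ᵥ Pi.single z 1 by rw [dotProduct_single, mul_one], hφ, ← Matrix.dotProduct_mulVec,
        hiz K hKz]
      simp [hc.symm]
    set X := Matrix.vecMulVec (Pi.single z (1 : F)) φ with hX
    have e1 : conjA K⁻¹ X = sg z c := by
      rw [hX, hφ, conjA_apply, inv_inv, Matrix.mul_vecMulVec, Matrix.vecMulVec_mul, hiz K hKz,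
        Matrix.vecMul_vecMul, Units.inv_mul, Matrix.vecMul_one, sg_eq_vecMulVec]
    have e2 : conjA h⁻¹ X = Matrix.vecMulVec (Pi.single z (1 : F)) (φ ᵥ* h.val) := by
      rw [hX, conjA_apply, inv_inv, Matrix.mul_vecMulVec, Matrix.vecMulVec_mul, hiz h hhz]
    have hφh : (φ ᵥ* h.val) z = 0 := by
      rw [show (φ ᵥ* h.val) z = (φ ᵥ* h.val) ⬝ᵥ Pi.single z 1 by rw [dotProduct_single, mul_one],
        ← Matrix.dotProduct_mulVec, hhz, dotProduct_single, mul_one, hφz]
    have h3 : conjA y (fa j (sg z c)) = fa j (sg z c) := by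
      rw [hy, conjA_mul, ← map_inv, acts_fu j h'⁻¹, conjA_mul, conjA_mul]
      have e3 : conjA h'⁻¹ (sg z c) = conjA K⁻¹ (conjA h⁻¹ X) := by
        rw [hh', ← e1, ← conjA_mul, ← conjA_mul]
        congr 1
        group
      rw [e3, e2, ← hK _ hφh, conjA_inv, ← e2, acts_fu i h, ← conjA_mul, mul_inv_cancel, conjA_one,
        hK φ hφz, e1]
    show _ = _
    conv_rhs => rw [← h3, conjA_apply, mul_assoc, mul_assoc, Units.inv_mul, mul_one]
  set n := y.val - 1 with hn
  have hnE : n * E' = 0 := by rw [hn, sub_mul, hyE, one_mul, sub_self]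
  have hEn : E' * n = n := by
    have h4 : ∀ c, c ≠ z → fa j (sg c c) * n = 0 := fun c hc => by
      rw [← sg_mul c z c, map_mul, mul_assoc]
      have : fa j (sg z c) * n = n * fa j (sg z c) := by
        rw [hn, mul_sub, sub_mul, (hcomm c hc).eq, one_mul, mul_one]
      rw [this, show fa j (sg z c) = E' * fa j (sg z c) by rw [← map_mul, sg_mul], ← mul_assoc n E', hnE,
        zero_mul, mul_zero]
    conv_rhs => rw [← one_mul n, ← map_one (fa (t := t) j), ← sum_sg, map_sum, Finset.sum_mul]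
    rw [Finset.sum_eq_single z (fun c _ hc => h4 c hc) (fun h => absurd (Finset.mem_univ _) h)]
  obtain ⟨ℓ, -, hℓ⟩ := transl hG hm hR (n := n) ⟨y, hyG, by rw [hn]; abel⟩ hEn hnE
  have hfin : conjA x (fa i h.val) = fa j ((1 + Matrix.vecMulVec (Pi.single z 1) ℓ) * h'.val) := by
    have : y.val = 1 + n := by rw [hn]; abel
    rw [map_mul, map_add, map_one, ← hℓ, ← this, hy, Units.val_mul, fu_inv_val, mul_assoc, ← map_mul,
      Units.inv_mul, map_one, mul_one]
    rfl
  have h5 : Commute (conjA x (fa i (sg a b))) Ψ := by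
    have e : fa (t := t) i (sg a b : Matrix (Fin m) (Fin m) F) = fa i h.val - 1 := by
      rw [hh, trGL_val, one_smul, map_add, map_one]; abel
    rw [e, map_sub, map_one, hfin]
    exact (hΨ _).sub_left (Commute.one_left _)
  have h6 := h5.map (conjA x⁻¹)
  rwa [conjA_inv] at h6

/-- A slab map carries the factor to the factor. -/
theorem slab_acts (hG : Over G) (hm : 3 ≤ m) {i j : Fin t} (hRi : ¬ Rich G i) (hRj : ¬ Rich G j) {z : Fin m}
    {x : GL (Idx m t) F} (hx : x ∈ G) (hs : Slab z x i j) : ∃ a, Acts x i j a := by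
  refine exists_acts (by omega) fun X => ?_
  obtain ⟨Y, hY⟩ := mem_range_of_commute (i := j) (by omega) (a := conjA x (fa i X)) fun Ψ hΨ => by
    have h1 := ((slab_com hG hm hRj hx hs hΨ X).symm).map (conjA x)
    rwa [← conjA_mul, mul_inv_cancel, conjA_one] at h1
  exact ⟨Y, hY.symm⟩

/-- A slab map permutes the factors, if the elements fixing a factor do. -/
theorem slab_mem (hG : Over G) (hm : 3 ≤ m) (hR : ∀ i, ¬ Rich G i) (ht : 2 ≤ t)
    (hcut : 3 ≤ t → ∀ x ∈ G, ∀ i a, Acts x i i a → x ∈ mst m t F) {i j : Fin t} {z : Fin m}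
    {x : GL (Idx m t) F} (hx : x ∈ G) (hs : Slab z x i j) : x ∈ mst m t F := by
  classical
  obtain ⟨a, ha⟩ := slab_acts hG hm (hR i) (hR j) hx hs
  rcases (Nat.lt_or_ge t 3) with h2 | h3
  · have ht2 : t = 2 := by omega
    subst ht2
    refine ⟨if i = j then 1 else Equiv.swap 0 1, fun l => ?_⟩
    have hσ : ∀ i j l o : Fin 2, (l = i → (if i = j then (1 : Equiv.Perm (Fin 2)) else Equiv.swap 0 1) l = j) ∧
        (l ≠ i → o ≠ j → (if i = j then (1 : Equiv.Perm (Fin 2)) else Equiv.swap 0 1) l = o) := by decide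
    have hother : ∀ o j l' : Fin 2, o ≠ j → l' ≠ o → l' = j := by decide
    rcases eq_or_ne l i with rfl | hl
    · exact ⟨a, by rw [(hσ l j l j).1 rfl]; exact ha⟩
    · obtain ⟨o, hoj⟩ : ∃ o : Fin 2, o ≠ j := exists_ne j
      obtain ⟨b, hb⟩ := exists_acts (by omega) (g := x) (i := l) (j := o) fun X => by
        obtain ⟨Y, hY⟩ := mem_range_of_com_others (by omega) (o := o) (Φ := conjA x (fa l X)) fun l' hl' => by
          rw [hother o j l' hoj hl']
          exact ha.com (com_fa hl.symm X)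
        exact ⟨Y, hY.symm⟩
      exact ⟨b, by rw [(hσ i j l o).2 hl hoj]; exact hb⟩
  · rcases eq_or_ne i j with rfl | hij
    · exact hcut h3 x hx i a ha
    obtain ⟨g, hg, hσ⟩ := hG.perm h3 (Equiv.swap j i)
    obtain ⟨b, hb⟩ := hσ j
    rw [Equiv.swap_apply_left] at hb
    have h1 := hcut h3 _ (G.mul_mem hg hx) i _ (hb.mul ha)
    have h2 := (mst m t F).mul_mem ((mst m t F).inv_mem (show g ∈ mst m t F from ⟨_, hσ⟩)) h1
    rwa [inv_mul_cancel_left] at h2

end Cfsg.Lib.Linear.TWreath
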