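import Cfsg.Agent.Lib.Linear.TWreath.Classify

/-!
# Transvections of the factors inside an overgroup
-/

set_option autoImplicit false
set_option linter.unusedSectionVars false

namespace Cfsg.Lib.Linear.TWreath

open Cfsg.Geo Cfsg.Lib.Linear.AschGen
open scoped Matrix MatrixGroups

variable {F : Type*} [Field F] {m t : ℕ} {G : Subgroup (GL (Idx m t) F)}

/-- The standing hypotheses on an overgroup without non-scalar coefficients. -/
structure Ctx (G : Subgroup (GL (Idx m t) F)) : Prop where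
  hm : 3 ≤ m
  ht : 2 ≤ t
  hov : Over G
  nr : ∀ i, ¬ Rich G i
  cut : 3 ≤ t → ∀ x ∈ G, ∀ i a, Acts x i i a → x ∈ mst m t F

theorem det_tv0 (hm : 3 ≤ m) : (tv0 (F := F) hm).val.det = 1 := det_trGL _ _

theorem tvVal (hm : 3 ≤ m) (a : GL (Fin m) F) :
    (a * tv0 hm * a⁻¹).val = 1 + conjA a (sg (p0 hm) (p1 hm)) := by
  rw [val_conj, tv0_val, map_add, map_one]

theorem IsTv.exists_sl {hm : 3 ≤ m} {x : GL (Idx m t) F} {i : Fin t} (h : IsTv hm x i) :
    ∃ a, a.val.det = 1 ∧ x = fu i (a * tv0 hm * a⁻¹) := by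
  obtain ⟨a, rfl⟩ := h
  obtain ⟨s, hs, hsa⟩ := exists_sl_same hm a (h01 hm)
  refine ⟨s⁻¹, ?_, congrArg (fu i) (Units.ext ?_)⟩
  · have := congrArg Matrix.det (Units.inv_mul s)
    rwa [Matrix.det_mul, hs, mul_one, Matrix.det_one] at this
  · rw [tvVal, tvVal]
    conv_rhs => rw [← hsa, conjA_inv]

theorem IsTv.mem_mst {hm : 3 ≤ m} {x : GL (Idx m t) F} {i : Fin t} (h : IsTv hm x i) : x ∈ mst m t F := by
  obtain ⟨a, rfl⟩ := h
  exact fu_mem_mst i _

theorem IsTv.isD {hm : 3 ≤ m} (hG : Over G) {x : GL (Idx m t) F} {i : Fin t} (h : IsTv hm x i) : IsD hm G x := by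
  obtain ⟨a, ha, rfl⟩ := h.exists_sl
  exact ⟨fu i a, hG.sl i a ha, i, by rw [map_mul, map_mul, map_inv]⟩

theorem IsD.mem {hm : 3 ≤ m} (hG : Over G) {x : GL (Idx m t) F} (h : IsD hm G x) : x ∈ G := by
  obtain ⟨g, hg, i, rfl⟩ := h
  exact G.mul_mem (G.mul_mem hg (hG.sl i _ (det_tv0 hm))) (G.inv_mem hg)

theorem IsTv.mem {hm : 3 ≤ m} (hG : Over G) {x : GL (Idx m t) F} {i : Fin t} (h : IsTv hm x i) : x ∈ G :=
  (h.isD hG).mem hG

theorem IsD.conj {hm : 3 ≤ m} {x : GL (Idx m t) F} (h : IsD hm G x) {g : GL (Idx m t) F} (hg : g ∈ G) :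
    IsD hm G (g * x * g⁻¹) := by
  obtain ⟨k, hk, i, rfl⟩ := h
  exact ⟨g * k, G.mul_mem hg hk, i, by group⟩

theorem fu_conj_of_acts {g : GL (Idx m t) F} {i j : Fin t} {a : GL (Fin m) F} (h : Acts g i j a)
    (X : GL (Fin m) F) : g * fu i X * g⁻¹ = fu j (a * X * a⁻¹) :=
  Units.ext (by rw [val_conj, fu_val, h, fu_val, val_conj])

theorem IsTv.conj {hm : 3 ≤ m} {x : GL (Idx m t) F} {i j : Fin t} (h : IsTv hm x i) {g : GL (Idx m t) F}
    {a : GL (Fin m) F} (hg : Acts g i j a) : IsTv hm (g * x * g⁻¹) j := by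
  obtain ⟨b, rfl⟩ := h
  exact ⟨a * b, by rw [fu_conj_of_acts hg]; congr 1; group⟩

theorem IsD.sq {hm : 3 ≤ m} {x : GL (Idx m t) F} (h : IsD hm G x) (h2 : (2 : F) = 0) : x * x = 1 := by
  refine Units.ext ?_
  have h0 := (isD_facts hm h).1
  rw [Units.val_mul, Units.val_one]
  have e : (x.val - 1) * (x.val - 1) = x.val * x.val - (2 : F) • x.val + 1 := by
    simp only [sub_mul, mul_sub, one_mul, mul_one, two_smul]; abel
  rw [e, h2, zero_smul, sub_zero] at h0
  have h1 : (1 : Matrix (Idx m t) (Idx m t) F) + 1 = 0 := by rw [← two_smul F, h2, zero_smul]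
  calc x.val * x.val = x.val * x.val + (1 + 1) := by rw [h1, add_zero]
    _ = x.val * x.val + 1 + 1 := (add_assoc _ _ _).symm
    _ = 1 := by rw [h0, zero_add]

/-- An element carrying a transvection to a transvection permutes the factors. -/
theorem Ctx.mem_of_tv (C : Ctx G) {g s : GL (Idx m t) F} (hg : g ∈ G) {i j : Fin t} (hs : IsTv C.hm s i)
    (hs' : IsTv C.hm (g * s * g⁻¹) j) : g ∈ mst m t F := by
  obtain ⟨a, ha, rfl⟩ := hs.exists_sl
  obtain ⟨b, hb, hb'⟩ := hs'.exists_sl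
  set h := (fu j b)⁻¹ * g * fu i a with hh
  have hhG : h ∈ G := G.mul_mem (G.mul_mem (G.inv_mem (C.hov.sl j b hb)) hg) (C.hov.sl i a ha)
  have he : h * fu i (tv0 C.hm) * h⁻¹ = fu j (tv0 C.hm) := by
    simp only [map_mul, map_inv] at hb'
    rw [hh]
    calc (fu j b)⁻¹ * g * fu i a * fu i (tv0 C.hm) * ((fu j b)⁻¹ * g * fu i a)⁻¹
        = (fu j b)⁻¹ * (g * (fu i a * fu i (tv0 C.hm) * (fu i a)⁻¹) * g⁻¹) * fu j b := by group
      _ = fu j (tv0 C.hm) := by rw [hb']; group
  clear_value h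
  have he' : h.val * fa i (sg (p0 C.hm) (p1 C.hm)) = fa j (sg (p0 C.hm) (p1 C.hm)) * h.val := by
    have h1 := congrArg Units.val (mul_inv_eq_iff_eq_mul.1 he)
    rw [Units.val_mul, Units.val_mul, fu_val, fu_val, tv0_val, map_add, map_add, map_one, map_one, mul_add,
      add_mul, mul_one, one_mul] at h1
    exact add_left_cancel h1
  have hmem := slab_mem C.hov C.hm C.nr C.ht C.cut hhG (Slab.of_map_sg he')
  have : g = fu j b * h * (fu i a)⁻¹ := by rw [hh]; group
  rw [this]
  exact (mst m t F).mul_mem ((mst m t F).mul_mem (fu_mem_mst j b) hmem) ((mst m t F).inv_mem (fu_mem_mst i a))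

/-- The centraliser of a transvection permutes the factors. -/
theorem Ctx.cent_tv (C : Ctx G) {g s : GL (Idx m t) F} (hg : g ∈ G) {i : Fin t} (hs : IsTv C.hm s i)
    (hc : Commute g s) : g ∈ mst m t F :=
  C.mem_of_tv hg hs (j := i) (by rwa [hc.eq, mul_inv_cancel_right])

theorem exists_vecMulVec (hm3 : m = 3) {N : Matrix (Fin m) (Fin m) F} (hN : N * N = 0) :
    ∃ c μ : Fin m → F, N = Matrix.vecMulVec c μ := by
  by_cases h0 : ∀ x, N *ᵥ x = 0
  · exact ⟨0, 0, Matrix.toLin'.injective (LinearMap.ext fun x => by simp [h0])⟩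
  push Not at h0
  obtain ⟨u, hu⟩ := h0
  have h1 := LinearMap.finrank_range_add_finrank_ker (Matrix.toLin' N)
  rw [Module.finrank_fintype_fun_eq_card, Fintype.card_fin] at h1
  have h3 : LinearMap.range (Matrix.toLin' N) ≤ LinearMap.ker (Matrix.toLin' N) := by
    rintro _ ⟨x, rfl⟩
    simp [Matrix.mulVec_mulVec, hN]
  have h4 := Submodule.finrank_mono h3
  have hle : Submodule.span F {N *ᵥ u} ≤ LinearMap.range (Matrix.toLin' N) :=
    (Submodule.span_singleton_le_iff_mem _ _).2 ⟨u, by simp⟩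
  have heq := Submodule.eq_of_le_of_finrank_le hle (by rw [finrank_span_singleton hu]; omega)
  obtain ⟨ξ, -, hξ⟩ := Rat0.exists_dot_pair (x := (0 : Fin m → F)) (y := N *ᵥ u) (by simpa using hu)
  rw [dotProduct_comm] at hξ
  refine ⟨N *ᵥ u, ξ ᵥ* N, Matrix.toLin'.injective (LinearMap.ext fun x => ?_)⟩
  obtain ⟨r, hr⟩ := Submodule.mem_span_singleton.1 (heq.symm ▸ ⟨x, rfl⟩ : Matrix.toLin' N x ∈ Submodule.span F {N *ᵥ u})
  rw [Matrix.toLin'_apply] at hr
  rw [Matrix.toLin'_apply, Matrix.toLin'_apply, Matrix.vecMulVec_mulVec, op_smul_eq_smul,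
    ← Matrix.dotProduct_mulVec, ← hr, dotProduct_smul, hξ, smul_eq_mul, mul_one]

theorem rank_fa_vecMulVec (i : Fin t) (z : Fin m) (c μ : Fin m → F) :
    (fa i (Matrix.vecMulVec c μ)).rank ≤ (fa i (sg z z : Matrix (Fin m) (Fin m) F)).rank := by
  have : Matrix.vecMulVec c μ = Matrix.vecMulVec c (Pi.single z 1) * sg z z * Matrix.vecMulVec (Pi.single z 1) μ := by
    rw [vmv]; simp
  rw [this, map_mul, map_mul]
  exact (Matrix.rank_mul_le_left _ _).trans (Matrix.rank_mul_le_right _ _)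

/-- Interchanges are not conjugate to transvections. -/
theorem Ctx.not_sw [Finite F] (C : Ctx G) {x : GL (Idx m t) F} (hD : IsD C.hm G x) (hx : IsSw x) : False := by
  classical
  have hm := C.hm
  haveI : Nonempty (Idx m t) := ⟨fun _ => p0 hm⟩
  obtain ⟨h2, hm3, i, j, hij, -, a, b, ha, -⟩ := hx
  obtain ⟨g, hg, o, hxg⟩ := hD
  set s := fu o (tv0 (F := F) hm) with hs
  have hsT : IsTv hm s o := ⟨1, by rw [hs]; simp⟩
  have hxD : IsD hm G x := ⟨g, hg, o, hxg⟩
  have hx2 := hxD.sq h2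
  have hxi : x⁻¹ = x := inv_eq_of_mul_eq_one_right hx2
  let Cj : GL (Fin m) F → GL (Idx m t) F := fun X => fu j (a * X * a⁻¹)
  have hxC : ∀ X, x * fu i X = Cj X * x := fun X => by
    have := fu_conj_of_acts ha X
    rw [mul_inv_eq_iff_eq_mul] at this
    exact this
  have hxC' : ∀ X, x * Cj X = fu i X * x := fun X => by
    have h1 := congrArg (fun y => x * y * x) (hxC X)
    simp only [mul_assoc, hx2, mul_one] at h1
    rw [← mul_assoc x x, hx2, one_mul] at h1
    exact h1.symm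
  have hcc : ∀ X Y, Commute (fu i X) (Cj Y) := fun X Y => Units.ext (fa_comm hij _ _).eq
  have hCm : ∀ X Y, Cj (X * Y) = Cj X * Cj Y := fun X Y => by
    simp only [Cj, ← map_mul]; congr 1; group
  let σX : GL (Fin m) F → GL (Idx m t) F := fun X => fu i X * x * (fu i X)⁻¹
  have hσ : ∀ X, X * X = 1 → σX X = fu i X * Cj X * x := fun X hX => by
    show fu i X * x * (fu i X)⁻¹ = _
    rw [← map_inv, inv_eq_of_mul_eq_one_right hX, mul_assoc, hxC, ← mul_assoc]
  let Ψ : GL (Fin m) F → GL (Idx m t) F := fun X => g⁻¹ * σX X * g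
  have key : ∀ X : GL (Fin m) F, X.val.det = 1 → X * X = 1 → (∀ c : F, X.val ≠ c • 1) →
      Com o (Ψ X).val ∧ Ψ X * Ψ X = 1 := by
    intro X hX hX2 hns
    have hh : g⁻¹ * fu i X * g ∈ G := G.mul_mem (G.mul_mem (G.inv_mem hg) (C.hov.sl i X hX)) hg
    have hΨD : IsD hm G (Ψ X) := ⟨g⁻¹ * fu i X * g, hh, o, by
      show g⁻¹ * (fu i X * x * (fu i X)⁻¹) * g = _
      rw [hxg, hs]; group⟩
    refine ⟨?_, hΨD.sq h2⟩
    have hσx : σX X * x = fu i X * Cj X := by rw [hσ X hX2, mul_assoc _ x x, hx2, mul_one]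
    have hσc : Commute (σX X) x := by
      show _ = _
      rw [hσx, hσ X hX2, ← mul_assoc, ← mul_assoc, hxC, mul_assoc (Cj X) x, hxC', ← mul_assoc,
        mul_assoc _ x x, hx2, mul_one, (hcc X X).eq]
    have hΨs : Ψ X * s = g⁻¹ * (σX X * x) * g := by
      show g⁻¹ * σX X * g * s = _
      rw [hxg]; group
    have hsΨ : s * Ψ X = g⁻¹ * (x * σX X) * g := by
      show s * (g⁻¹ * σX X * g) = _
      rw [hxg]; group
    have hcs : Commute (Ψ X) s := by
      show _ = _
      rw [hΨs, hsΨ, hσc.eq]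
    have hΨm := C.cent_tv (hΨD.mem C.hov) hsT hcs
    rcases classify hm hΨD hΨm with ⟨l, hl⟩ | hsw
    · obtain ⟨c, hc⟩ := hl
      rcases eq_or_ne l o with rfl | hlo
      · exfalso
        set L := c * tv0 hm * c⁻¹ * tv0 hm with hL
        have hΨs' : Ψ X * s = fu l L := by rw [hc, hs, hL, ← map_mul]
        have hΨs2 : (Ψ X * s) * (Ψ X * s) = 1 := by
          rw [mul_assoc, ← mul_assoc s, ← hcs.eq, mul_assoc (Ψ X) s s, (hsT.isD C.hov).sq h2, mul_one, hΨD.sq h2]
        set N := L.val - 1 with hN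
        have hLL : L.val * L.val = 1 := by
          have := congrArg Units.val hΨs2
          rw [hΨs', Units.val_mul, fu_val, ← map_mul, Units.val_one, ← map_one (fa l)] at this
          exact fa_injective (by omega) l this
        have hNN : N * N = 0 := by
          have e : N * N = L.val * L.val - (2 : F) • L.val + 1 := by
            simp only [hN, sub_mul, mul_sub, one_mul, mul_one, two_smul]; abel
          rw [e, hLL, h2, zero_smul, sub_zero, ← two_smul F (1 : Matrix (Fin m) (Fin m) F), h2, zero_smul]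
        obtain ⟨v, μ, hv⟩ := exists_vecMulVec hm3 hNN
        have hle : ((fu i X * Cj X).val - 1).rank ≤ (fa l (sg (p0 hm) (p0 hm) : Matrix (Fin m) (Fin m) F)).rank := by
          rw [← hσx, show σX X * x = g * (Ψ X * s) * g⁻¹ by rw [hΨs]; group, rank_conj_sub_one, hΨs', fu_val,
            ← map_one (fa l), ← map_sub, ← hN, hv]
          exact rank_fa_vecMulVec l _ v μ
        have hlt := two_components hm (i := i) (A := X.val) (β := Cj X) (com_fa hij _) hns (fun e he => by
          have h1 : fa j (a * X * a⁻¹).val = fa j (e • (1 : Matrix (Fin m) (Fin m) F)) := by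
            rw [map_smul, map_one]; exact he
          have h1' := congrArg (conjA a⁻¹) (fa_injective (by omega) j h1)
          rw [val_conj, conjA_inv, map_smul, map_one] at h1'
          exact hns e h1') (by
          have h1 : (fu i X * Cj X) * (fu i X * Cj X) = 1 := by
            rw [(hcc X X).symm.mul_mul_mul_comm, ← map_mul, ← hCm, hX2]
            simp [Cj]
          have h3 := congrArg Units.val h1
          simp only [Units.val_mul, fu_val, Units.val_one] at h3
          have e : (fa i X.val * (Cj X).val - 1) * (fa i X.val * (Cj X).val - 1) =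
              fa i X.val * (Cj X).val * (fa i X.val * (Cj X).val) - (2 : F) • (fa i X.val * (Cj X).val) + 1 := by
            simp only [sub_mul, mul_sub, one_mul, mul_one, two_smul]; abel
          rw [e, h3, h2, zero_smul, sub_zero, ← two_smul F (1 : Matrix (Idx m t) (Idx m t) F), h2, zero_smul])
        rw [Units.val_mul, fu_val, rank_fa_indep l i] at hle
        omega
      · rw [hc, fu_val]
        exact com_fa hlo.symm _
    · obtain ⟨-, -, i', j', hij', hfix, a', b', ha', hb'⟩ := hsw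
      rcases eq_or_ne o i' with rfl | hoi
      · exfalso
        have h1 := ha' (tv0 hm).val
        rw [← fu_val, ← val_conj, ← hs, hcs.eq, mul_inv_cancel_right, hs, fu_val] at h1
        obtain ⟨e, he⟩ := eq_of_fa_eq (by omega) hij' h1
        have := congrFun (congrFun he (p0 hm)) (p1 hm)
        simp [tv0_val, h01 hm] at this
      · rcases eq_or_ne o j' with rfl | hoj
        · exfalso
          have h1 := hb' (tv0 hm).val
          rw [← fu_val, ← val_conj, ← hs, hcs.eq, mul_inv_cancel_right, hs, fu_val] at h1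
          obtain ⟨e, he⟩ := eq_of_fa_eq (by omega) hij'.symm h1
          have := congrFun (congrFun he (p0 hm)) (p1 hm)
          simp [tv0_val, h01 hm] at this
        · exact hfix o hoi hoj
  obtain ⟨r, hr0, hr1⟩ := exists_third hm (p0 hm) (p1 hm)
  set A := trGL (F := F) (h01 hm) 1 with hA
  set B := trGL (F := F) hr0.symm 1 with hB
  have hsq : ∀ {p q : Fin m} (h : p ≠ q), trGL (F := F) h 1 * trGL h 1 = 1 := fun {p q} h => by
    refine Units.ext ?_
    rw [Units.val_mul, trGL_val, Units.val_one, one_smul]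
    simp only [mul_add, add_mul, one_mul, mul_one, sg_mul_ne _ _ h.symm, add_zero]
    rw [add_assoc, ← two_smul F (sg p q : Matrix (Fin m) (Fin m) F), h2, zero_smul, add_zero]
  have hAB : A * B = B * A := Units.ext (by
    rw [Units.val_mul, Units.val_mul, hA, hB, trGL_val, trGL_val, one_smul, one_smul]
    simp only [mul_add, add_mul, one_mul, mul_one, sg_mul_ne _ _ (h01 hm).symm, sg_mul_ne _ _ hr0]
    abel)
  have hns : ∀ (M : GL (Fin m) F) (p q : Fin m), p ≠ q → M.val p q ≠ 0 → ∀ c : F, M.val ≠ c • 1 :=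
    fun M p q hpq h c e => h (by simp [e, hpq])
  have kA := key A (det_trGL _ _) (hsq _) (hns A _ _ (h01 hm) (by simp [hA, trGL_val, h01 hm]))
  have kB := key B (det_trGL _ _) (hsq _) (hns B _ _ hr0.symm (by simp [hB, trGL_val, hr0.symm]))
  have kC := key (A * B) (by rw [Units.val_mul, Matrix.det_mul, det_trGL, det_trGL, one_mul])
    (by rw [(show Commute B A from hAB.symm).mul_mul_mul_comm, hsq, hsq, one_mul]) (hns _ _ _ (h01 hm) (by
      simp [hA, hB, trGL_val, mul_add, add_mul, sg_mul_ne _ _ (h01 hm).symm, h01 hm, hr1]))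
  have hrel : σX A * σX B * x = σX (A * B) := by
    rw [hσ A (hsq _), hσ B (hsq _), hσ (A * B) (by rw [(show Commute B A from hAB.symm).mul_mul_mul_comm, hsq, hsq, one_mul]),
      map_mul, hCm]
    calc fu i A * Cj A * x * (fu i B * Cj B * x) * x
        = fu i A * Cj A * (x * fu i B) * (Cj B * (x * x)) := by group
      _ = fu i A * Cj A * (Cj B * x) * Cj B := by rw [hxC, hx2, mul_one]
      _ = fu i A * Cj A * Cj B * (x * Cj B) := by group
      _ = fu i A * Cj A * Cj B * (fu i B * x) := by rw [hxC']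
      _ = fu i A * (Cj A * Cj B * fu i B) * x := by group
      _ = fu i A * fu i B * (Cj A * Cj B) * x := by
        rw [((hcc B A).symm.mul_left (hcc B B).symm).eq]; group
  have hrelΨ : Ψ A * Ψ B * s = Ψ (A * B) := by
    show g⁻¹ * σX A * g * (g⁻¹ * σX B * g) * s = g⁻¹ * σX (A * B) * g
    rw [← hrel, hxg]; group
  have hsval : s = Ψ B * Ψ A * Ψ (A * B) := by
    rw [← hrelΨ]
    calc s = (Ψ B * Ψ B) * s := by rw [kB.2, one_mul]
      _ = Ψ B * (Ψ A * Ψ A) * Ψ B * s := by rw [kA.2, mul_one]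
      _ = Ψ B * Ψ A * (Ψ A * Ψ B * s) := by group
  have hcom : Com o s.val := by
    rw [hsval, Units.val_mul, Units.val_mul]
    exact (kB.1.mul kA.1).mul kC.1
  have h1 := congrArg (fun M => fa o (sg (p0 hm) (p0 hm)) * M) (hcom (sg (p1 hm) (p0 hm))).eq
  simp only [hs, fu_val, tv0_val, ← map_mul, mul_add, add_mul, one_mul, mul_one, sg_mul, sg_mul_ne _ _ (h01 hm),
    sg_mul_ne _ _ (h01 hm).symm, zero_add, add_zero, mul_zero, map_zero] at h1
  exact fa_ne_zero (F := F) (by omega) o (sg_ne_zero _ _) h1.symm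

/-- The transvection-like elements permuting the factors are the transvections. -/
theorem Ctx.isTv_of_mem [Finite F] (C : Ctx G) {x : GL (Idx m t) F} (hD : IsD C.hm G x) (hx : x ∈ mst m t F) :
    ∃ i, IsTv C.hm x i := by
  rcases classify C.hm hD hx with h | h
  · exact h
  · exact (C.not_sw hD h).elim

theorem Ctx.exists_moved [Finite F] (C : Ctx G) {i : Fin t} {x : GL (Idx m t) F} (hx : x ∈ G)
    (hxm : x ∉ mst m t F) : ∃ b, IsD C.hm G b ∧ b ∉ mst m t F := by
  have hs : IsTv C.hm (fu i (tv0 (F := F) C.hm)) i := ⟨1, by simp⟩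
  refine ⟨x * fu i (tv0 C.hm) * x⁻¹, (hs.isD C.hov).conj hx, fun hb => ?_⟩
  obtain ⟨j, hj⟩ := C.isTv_of_mem ((hs.isD C.hov).conj hx) hb
  exact hxm (C.mem_of_tv hx hs hj)

/-- A transvection and a moved conjugate generate no `p`-group. -/
theorem Ctx.not_pgroup [Finite F] (C : Ctx G) (p : ℕ) [Fact p.Prime] {s b : GL (Idx m t) F} {i : Fin t}
    (hs : IsTv C.hm s i) (hb : IsD C.hm G b) (hp : IsPGroup p (Subgroup.closure {s, b} : Subgroup (GL (Idx m t) F))) :
    b ∈ mst m t F := by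
  classical
  by_contra hbm
  set H : Subgroup (GL (Idx m t) F) := Subgroup.closure {s, b} with hH
  have hHG : H ≤ G := (Subgroup.closure_le _).2 (Set.insert_subset (hs.mem C.hov)
    (Set.singleton_subset_iff.2 (hb.mem C.hov)))
  have hsH : s ∈ H := Subgroup.subset_closure (by simp)
  have hbH : b ∈ H := Subgroup.subset_closure (by simp)
  haveI : Group.IsNilpotent H := hp.isNilpotent
  set H' := (mst m t F).subgroupOf H with hH'
  have hne : H' ≠ ⊤ := fun h => hbm (by
    have : (⟨b, hbH⟩ : H) ∈ H' := h ▸ Subgroup.mem_top _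
    exact this)
  have hlt := Group.normalizerCondition_of_isNilpotent H' (lt_top_iff_ne_top.2 hne)
  obtain ⟨x, hxN, hxH'⟩ := SetLike.exists_of_lt hlt
  have hmem : (x : GL (Idx m t) F) * s * (x : GL (Idx m t) F)⁻¹ ∈ mst m t F :=
    (Subgroup.mem_normalizer_iff.1 hxN ⟨s, hsH⟩).1 hs.mem_mst
  obtain ⟨j, hj⟩ := C.isTv_of_mem ((hs.isD C.hov).conj (hHG x.2)) hmem
  exact hxH' (C.mem_of_tv (hHG x.2) hs hj)

end Cfsg.Lib.Linear.TWreath
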